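import Cfsg.Agent.Lib.PLocal.Offender
import Mathlib.GroupTheory.Sylow

/-!
# Thompson subgroups
-/

set_option autoImplicit false

namespace CfsgLib.PLocal

open Subgroup Cfsg

variable {G : Type*} [Group G] {p : ℕ}

theorem elementary_map {H : Type*} [Group H] (f : G →* H) {A : Subgroup G}
    (hA : IsElementaryAbelian p A) : IsElementaryAbelian p (A.map f) := by
  refine ⟨le_centralizer_iff_isMulCommutative.1 ?_, ?_⟩
  · rintro _ ⟨a, ha, rfl⟩
    rw [mem_centralizer_iff]
    rintro _ ⟨b, hb, rfl⟩
    rw [← map_mul, ← map_mul, comm_of_mem hA.1 hb ha]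
  · rintro _ ⟨a, ha, rfl⟩
    rw [← map_pow, hA.2 a ha, map_one]

theorem elementary_comap {H : Type*} [Group H] (f : G →* H) (hf : Function.Injective f)
    {A : Subgroup H} (hA : IsElementaryAbelian p A) : IsElementaryAbelian p (A.comap f) := by
  refine ⟨le_centralizer_iff_isMulCommutative.1 ?_, fun a ha => hf ?_⟩
  · intro a ha
    rw [mem_centralizer_iff]
    intro b hb
    apply hf
    rw [map_mul, map_mul, comm_of_mem hA.1 hb ha]
  · rw [map_pow, hA.2 (f a) ha, map_one]

theorem elementary_bot : IsElementaryAbelian p (⊥ : Subgroup G) :=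
  ⟨le_centralizer_iff_isMulCommutative.1 bot_le, fun a ha => by rw [mem_bot.1 ha, one_pow]⟩

theorem elementary_zpowers {x : G} (h : x ^ p = 1) : IsElementaryAbelian p (zpowers x) :=
  ⟨inferInstance, fun a ha => by
    obtain ⟨k, rfl⟩ := mem_zpowers_iff.1 ha
    rw [← zpow_natCast, zpow_comm, zpow_natCast, h, one_zpow]⟩

theorem card_map_of_injective {H : Type*} [Group H] (f : G →* H) (hf : Function.Injective f)
    (A : Subgroup G) : Nat.card (A.map f) = Nat.card A :=
  (Nat.card_congr (equivMapOfInjective A f hf).toEquiv).symm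

theorem exists_maxElementary [Finite G] :
    ∃ A, A ∈ maxElementaryAbelianSubgroups p G := by
  obtain ⟨A, hA, hmax⟩ := Set.exists_max_image {A : Subgroup G | IsElementaryAbelian p A}
    (fun A => Nat.card A) (Set.toFinite _) ⟨⊥, elementary_bot⟩
  exact ⟨A, hA, hmax⟩

theorem le_thompson {A : Subgroup G} (hA : A ∈ maxElementaryAbelianSubgroups p G) :
    A ≤ thompsonSubgroup p G :=
  le_sSup hA

theorem map_maxElementary {H : Type*} [Group H] (e : G ≃* H) {A : Subgroup G}
    (hA : A ∈ maxElementaryAbelianSubgroups p G) :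
    A.map e.toMonoidHom ∈ maxElementaryAbelianSubgroups p H := by
  refine ⟨elementary_map _ hA.1, fun B hB => ?_⟩
  have h1 := hA.2 _ (elementary_map e.symm.toMonoidHom hB)
  rw [card_map_of_injective _ e.injective]
  rwa [card_map_of_injective _ e.symm.injective] at h1

theorem map_equiv_thompson {H : Type*} [Group H] (e : G ≃* H) :
    (thompsonSubgroup p G).map e.toMonoidHom = thompsonSubgroup p H := by
  refine le_antisymm ?_ (sSup_le fun A hA => ?_)
  · rw [map_le_iff_le_comap]
    refine sSup_le fun A hA => map_le_iff_le_comap.1 ?_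
    exact le_thompson (map_maxElementary e hA)
  · intro x hx
    exact ⟨e.symm x, le_thompson (map_maxElementary e.symm hA) ⟨x, hx, rfl⟩, e.apply_symm_apply x⟩

instance thompson_characteristic (p : ℕ) (G : Type*) [Group G] :
    (thompsonSubgroup p G).Characteristic :=
  characteristic_iff_map_eq.2 fun e => map_equiv_thompson e

theorem thompson_ne_bot [Finite G] [Fact p.Prime] (h : p ∣ Nat.card G) :
    thompsonSubgroup p G ≠ ⊥ := by
  obtain ⟨x, hx⟩ := exists_prime_orderOf_dvd_card' p h
  obtain ⟨A, hA⟩ := exists_maxElementary (G := G) (p := p)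
  intro hbot
  have h1 := hA.2 _ (elementary_zpowers (x := x) (by rw [← hx, pow_orderOf_eq_one]))
  rw [Nat.card_zpowers, hx, (le_bot_iff.1 ((le_thompson hA).trans hbot.le) : A = ⊥),
    card_bot] at h1
  exact absurd (Fact.out : p.Prime).one_lt (by omega)

/-- An element of order dividing `p` centralising a maximal elementary abelian subgroup lies in it. -/
theorem mem_maxElementary [Finite G] {A : Subgroup G}
    (hA : A ∈ maxElementaryAbelianSubgroups p G) {x : G} (hx : x ^ p = 1)
    (hc : x ∈ centralizer (A : Set G)) : x ∈ A := by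
  have hel := elementary_sup (elementary_zpowers hx) hA.1 (zpowers_le.2 hc)
  have := eq_of_le_of_card_ge (le_sup_right : A ≤ zpowers x ⊔ A) (hA.2 _ hel)
  rw [this]
  exact (le_sup_left : zpowers x ≤ zpowers x ⊔ A) (mem_zpowers x)

theorem mem_thompson_of_centralizing [Finite G] {x : G}
    (hx : x ∈ centralizer (thompsonSubgroup p G : Set G)) (ho : x ^ p = 1) :
    x ∈ thompsonSubgroup p G := by
  obtain ⟨A, hA⟩ := exists_maxElementary (G := G) (p := p)
  exact le_thompson hA (mem_maxElementary hA ho
    (centralizer_le (SetLike.coe_subset_coe.2 (le_thompson hA)) hx))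

theorem sInf_maxElementary [Finite G] :
    sInf (maxElementaryAbelianSubgroups p G)
      = omegaOne p (centralizer (thompsonSubgroup p G : Set G)) := by
  refine le_antisymm (fun x hx => Subgroup.subset_closure ?_) ((Subgroup.closure_le _).2 ?_)
  · rw [Subgroup.mem_sInf] at hx
    refine ⟨?_, ?_⟩
    · have : thompsonSubgroup p G ≤ centralizer {x} := sSup_le fun A hA => fun y hy =>
        mem_centralizer_singleton_iff.2 (comm_of_mem hA.1.1 hy (hx A hA))
      rw [mem_centralizer_iff]
      intro y hy
      exact mem_centralizer_singleton_iff.1 (this hy)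
    · obtain ⟨A, hA⟩ := exists_maxElementary (G := G) (p := p)
      exact hA.1.2 x (hx A hA)
  · rintro x ⟨hx, hp⟩
    rw [SetLike.mem_coe, Subgroup.mem_sInf]
    exact fun A hA =>
      mem_maxElementary hA hp (centralizer_le (SetLike.coe_subset_coe.2 (le_thompson hA)) hx)

theorem omegaCenterThompson_eq [Finite G] :
    omegaCenterThompson p G = omegaOne p (centralizer (thompsonSubgroup p G : Set G)) := by
  refine congrArg Subgroup.closure (Set.ext fun x => ⟨fun h => ⟨h.1.2, h.2⟩, fun h => ?_⟩)
  exact ⟨⟨mem_thompson_of_centralizing h.1 h.2, h.1⟩, h.2⟩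

/-- maximal elementary abelian subgroups of `U` and of `G` agree when some maximal one lies in `U` -/
theorem map_maxElementary_subtype {U : Subgroup G} {A₀ : Subgroup G}
    (hA₀ : A₀ ∈ maxElementaryAbelianSubgroups p G) (h₀ : A₀ ≤ U) {B : Subgroup U}
    (hB : B ∈ maxElementaryAbelianSubgroups p U) :
    B.map U.subtype ∈ maxElementaryAbelianSubgroups p G := by
  refine ⟨elementary_map _ hB.1, fun C hC => (hA₀.2 C hC).trans ?_⟩
  rw [card_map_of_injective _ U.subtype_injective]
  have := hB.2 _ (elementary_comap U.subtype U.subtype_injective hA₀.1)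
  refine le_trans (le_of_eq ?_) this
  exact (Nat.card_congr (subgroupOfEquivOfLe h₀).toEquiv).symm

theorem subgroupOf_maxElementary {U A : Subgroup G}
    (hA : A ∈ maxElementaryAbelianSubgroups p G) (h : A ≤ U) :
    A.subgroupOf U ∈ maxElementaryAbelianSubgroups p U := by
  refine ⟨elementary_comap U.subtype U.subtype_injective hA.1, fun B hB => ?_⟩
  have := hA.2 _ (elementary_map U.subtype hB)
  rw [card_map_of_injective _ U.subtype_injective] at this
  rwa [Nat.card_congr (subgroupOfEquivOfLe h).toEquiv]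

theorem thompsonOf_le {U A₀ : Subgroup G} (hA₀ : A₀ ∈ maxElementaryAbelianSubgroups p G)
    (h₀ : A₀ ≤ U) : thompsonSubgroupOf p U ≤ thompsonSubgroup p G := by
  rw [thompsonSubgroupOf, map_le_iff_le_comap]
  exact sSup_le fun B hB =>
    map_le_iff_le_comap.1 (le_thompson (map_maxElementary_subtype hA₀ h₀ hB))

theorem le_thompsonOf {U A : Subgroup G} (hA : A ∈ maxElementaryAbelianSubgroups p G)
    (h : A ≤ U) : A ≤ thompsonSubgroupOf p U := fun x hx =>
  ⟨⟨x, h hx⟩, le_thompson (subgroupOf_maxElementary hA h) hx, rfl⟩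

theorem thompsonOf_eq_of_le [Finite G] {U : Subgroup G} (hU : thompsonSubgroup p G ≤ U) :
    thompsonSubgroupOf p U = thompsonSubgroup p G := by
  obtain ⟨A, hA⟩ := exists_maxElementary (G := G) (p := p)
  exact le_antisymm (thompsonOf_le hA ((le_thompson hA).trans hU))
    (sSup_le fun B hB => le_thompsonOf hB ((le_thompson hB).trans hU))

theorem elementary_isPGroup {A : Subgroup G} (hA : IsElementaryAbelian p A) : IsPGroup p A :=
  isPGroup_of_elementary hA

/-- every Sylow subgroup contains a maximal elementary abelian subgroup -/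
theorem exists_maxElementary_le_sylow [Finite G] [Fact p.Prime] (S : Sylow p G) :
    ∃ A ∈ maxElementaryAbelianSubgroups p G, A ≤ (S : Subgroup G) := by
  obtain ⟨A, hA⟩ := exists_maxElementary (G := G) (p := p)
  obtain ⟨T, hT⟩ := (elementary_isPGroup hA.1).exists_le_sylow
  obtain ⟨g, rfl⟩ := MulAction.exists_smul_eq G T S
  exact ⟨A.map (MulAut.conj g).toMonoidHom, map_maxElementary (MulAut.conj g) hA,
    map_mono hT⟩

theorem thompson_eq_iSup_sylow [Finite G] [Fact p.Prime] :
    thompsonSubgroup p G = ⨆ S : Sylow p G, thompsonSubgroupOf p (S : Subgroup G) := by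
  refine le_antisymm (sSup_le fun A hA => ?_) (iSup_le fun S => ?_)
  · obtain ⟨T, hT⟩ := (elementary_isPGroup hA.1).exists_le_sylow
    exact le_iSup_of_le T (le_thompsonOf hA hT)
  · obtain ⟨A, hA, hAS⟩ := exists_maxElementary_le_sylow S
    exact thompsonOf_le hA hAS

theorem maxAbelian_inf_eq (𝒜 : Set (Subgroup G)) (hne : 𝒜.Nonempty)
    (hab : ∀ A ∈ 𝒜, IsMulCommutative A)
    (hmax : ∀ A ∈ 𝒜, ∀ B : Subgroup G, IsMulCommutative B → A ≤ B → B = A) :
    sInf 𝒜 = centralizer ((sSup 𝒜 : Subgroup G) : Set G) ∧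
      centralizer ((sSup 𝒜 : Subgroup G) : Set G) ≤ sSup 𝒜 := by
  have key : centralizer ((sSup 𝒜 : Subgroup G) : Set G) ≤ sInf 𝒜 := by
    intro x hx
    rw [Subgroup.mem_sInf]
    intro A hA
    have hc : zpowers x ≤ centralizer (A : Set G) :=
      zpowers_le.2 (centralizer_le (SetLike.coe_subset_coe.2 (le_sSup hA)) hx)
    have : IsMulCommutative (zpowers x ⊔ A : Subgroup G) := by
      refine le_centralizer_iff_isMulCommutative.1 ?_
      rw [centralizer_sup]
      exact le_inf (sup_le (le_centralizer_iff_isMulCommutative.2 inferInstance)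
        (le_centralizer_iff.1 hc))
        (sup_le hc (le_centralizer_iff_isMulCommutative.2 (hab A hA)))
    rw [← hmax A hA _ this le_sup_right]
    exact (le_sup_left : zpowers x ≤ zpowers x ⊔ A) (mem_zpowers x)
  obtain ⟨A, hA⟩ := hne
  refine ⟨le_antisymm ?_ key, key.trans ((sInf_le hA).trans (le_sSup hA))⟩
  rw [le_centralizer_iff]
  exact sSup_le fun B hB => (le_centralizer_iff_isMulCommutative.2 (hab B hB)).trans
    (centralizer_le (SetLike.coe_subset_coe.2 (sInf_le hB)))

end CfsgLib.PLocal
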