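import Cfsg.Agent.Lib.PLocal.PConstrained
import Cfsg.Agent.Lib.PLocal.Thompson
import Cfsg.Agent.Lib.PGroups.Omega
import Cfsg.Agent.Lib.HallGen.Counting

/-!
# Thompson factorisability and the subgroup generated by the `Ω₁(Z(S))`
-/

set_option autoImplicit false

namespace CfsgLib.PLocal

open Subgroup Cfsg CfsgLib.Core

variable {G : Type*} [Group G] {p : ℕ}

/-- `Ω₁(Z(S))` -/
noncomputable def omegaZ (p : ℕ) (S : Subgroup G) : Subgroup G :=
  omegaOne p (S ⊓ centralizer (S : Set G))

/-- the subgroup generated by the `Ω₁(Z(S))` -/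
noncomputable def omegaZClosure (p : ℕ) (G : Type*) [Group G] : Subgroup G :=
  ⨆ S : Sylow p G, omegaZ p (S : Subgroup G)

theorem map_centralizer_of_injOn {H : Type*} [Group H] (f : G →* H) (S : Subgroup G)
    (hf : Disjoint S f.ker) :
    (S ⊓ centralizer (S : Set G)).map f = S.map f ⊓ centralizer ((S.map f : Subgroup H) : Set H) := by
  refine le_antisymm (le_inf (map_mono inf_le_left) ?_) ?_
  · refine (map_mono inf_le_right).trans ?_
    rw [coe_map]; exact map_centralizer_le_centralizer_image _ _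
  · rintro _ ⟨⟨x, hx, rfl⟩, hc⟩
    refine ⟨x, ⟨hx, mem_centralizer_iff.2 fun y hy => ?_⟩, rfl⟩
    have h := mem_centralizer_iff.1 hc (f y) ⟨y, hy, rfl⟩
    rw [← map_mul, ← map_mul] at h
    have : (y * x) * (x * y)⁻¹ = 1 := disjoint_def.1 hf
      (S.mul_mem (S.mul_mem hy hx) (S.inv_mem (S.mul_mem hx hy)))
      (by rw [MonoidHom.mem_ker, map_mul, map_inv, h, mul_inv_cancel])
    exact mul_inv_eq_one.1 this

theorem omegaZ_map {H : Type*} [Group H] (f : G →* H) (S : Subgroup G) (hf : Disjoint S f.ker) :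
    (omegaZ p S).map f = omegaZ p (S.map f) := by
  rw [omegaZ, omegaZ, ← map_centralizer_of_injOn f S hf]
  rw [omegaOne, MonoidHom.map_closure, omegaOne]
  congr 1
  ext y
  constructor
  · rintro ⟨x, ⟨hx, hxp⟩, rfl⟩
    exact ⟨⟨x, hx, rfl⟩, by rw [← map_pow, hxp, map_one]⟩
  · rintro ⟨⟨x, hx, rfl⟩, hy⟩
    refine ⟨x, ⟨hx, ?_⟩, rfl⟩
    rw [← map_pow] at hy
    exact disjoint_def.1 hf (S.pow_mem hx.1 p) hy

theorem thompsonOf_map {H : Type*} [Group H] (f : G →* H) (S : Subgroup G)
    (hf : Disjoint S f.ker) :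
    (thompsonSubgroupOf p S).map f = thompsonSubgroupOf p (S.map f) := by
  have hinj : Function.Injective (f.subgroupMap S) := by
    rw [← MonoidHom.ker_eq_bot_iff, eq_bot_iff]
    intro x hx
    exact Subtype.ext (disjoint_def.1 hf x.2 (congrArg Subtype.val hx : f x = 1))
  let e : S ≃* S.map f :=
    MulEquiv.ofBijective _ ⟨hinj, f.subgroupMap_surjective S⟩
  rw [thompsonSubgroupOf, thompsonSubgroupOf, ← map_equiv_thompson e, map_map, map_map]
  rfl

theorem thompsonOf_conj (S : Subgroup G) (g : G) :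
    (thompsonSubgroupOf p S).map (MulAut.conj g).toMonoidHom
      = thompsonSubgroupOf p (S.map (MulAut.conj g).toMonoidHom) :=
  thompsonOf_map _ S (by
    rw [(MonoidHom.ker_eq_bot_iff _).2 (MulAut.conj g).injective]; exact disjoint_bot_right)

theorem omegaZ_conj (S : Subgroup G) (g : G) :
    (omegaZ p S).map (MulAut.conj g).toMonoidHom = omegaZ p (S.map (MulAut.conj g).toMonoidHom) :=
  omegaZ_map _ S (by
    rw [(MonoidHom.ker_eq_bot_iff _).2 (MulAut.conj g).injective]; exact disjoint_bot_right)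

theorem omegaZ_le_centralizer (S : Subgroup G) : omegaZ p S ≤ centralizer (S : Set G) :=
  (CfsgLib.PGroups.omegaOne_le _).trans inf_le_right

theorem omegaZ_le (S : Subgroup G) : omegaZ p S ≤ S :=
  (CfsgLib.PGroups.omegaOne_le _).trans inf_le_left

theorem omegaZClosure_normal (p : ℕ) (G : Type*) [Group G] : (omegaZClosure p G).Normal := by
  rw [← normalizer_eq_top_iff, eq_top_iff]
  intro g _
  rw [mem_normalizer_iff_map_conj_eq]
  have key : ∀ g : G, (omegaZClosure p G).map (MulAut.conj g).toMonoidHom ≤ omegaZClosure p G := by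
    intro g
    rw [omegaZClosure, Subgroup.map_iSup]
    refine iSup_le fun S => ?_
    rw [omegaZ_conj]
    exact le_iSup (fun T : Sylow p G => omegaZ p (T : Subgroup G)) (g • S)
  refine le_antisymm (key g) ?_
  intro x hx
  refine ⟨g⁻¹ * x * g, ?_, by simp [mul_assoc]⟩
  have := key g⁻¹ ⟨x, hx, rfl⟩
  simpa using this

/-- a `p`-subgroup modulo a centraliser centralises the fixed points of every Sylow subgroup -/
theorem le_centralizer_of_pGroup_mod [Finite G] [Fact p.Prime] {W D : Subgroup G} [W.Normal]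
    [D.Normal] (hW : W ≤ ⨆ S : Sylow p G, W ⊓ centralizer ((S : Subgroup G) : Set G))
    (hle : centralizer (W : Set G) ≤ D)
    (hk : ∃ k, (centralizer (W : Set G)).relIndex D = p ^ k) : D ≤ centralizer (W : Set G) := by
  rw [le_centralizer_iff]
  refine hW.trans (iSup_le fun S => ?_)
  rw [le_centralizer_iff]
  have h : ((S : Subgroup G) ⊓ D) ⊔ centralizer (W : Set G) = D := by
    refine sup_eq_of_coprime_relIndex inf_le_right hle (fun hd => ?_) hk
    rw [inf_relIndex_right] at hd
    exact S.not_dvd_index (hd.trans (CfsgLib.HallGen.relIndex_dvd_index_right _ _))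
  rw [← h]
  exact sup_le (inf_le_left.trans (le_centralizer_iff.1 inf_le_right))
    (centralizer_le (SetLike.coe_subset_coe.2 inf_le_left))

theorem pCore_mod_centralizer_eq_bot [Finite G] [Fact p.Prime] (V : Subgroup G) [V.Normal]
    (hgen : V ≤ ⨆ S : Sylow p G, V ⊓ centralizer ((S : Subgroup G) : Set G)) :
    pCore p (G ⧸ centralizer (V : Set G)) = ⊥ := by
  set π := QuotientGroup.mk' (centralizer (V : Set G))
  set D := (pCore p (G ⧸ centralizer (V : Set G))).comap π with hD
  obtain ⟨k, hk⟩ := IsPGroup.iff_card.1 (isPGroup_pCore p (G ⧸ centralizer (V : Set G)))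
  have hDC : D ≤ centralizer (V : Set G) := by
    refine le_centralizer_of_pGroup_mod hgen
      (le_of_eq_of_le (QuotientGroup.ker_mk' _).symm (ker_le_comap _ _)) ⟨k, ?_⟩
    rw [← hk, ← map_comap_eq_self_of_surjective (QuotientGroup.mk'_surjective _)
      (pCore p (G ⧸ centralizer (V : Set G))), ← relIndex_ker, QuotientGroup.ker_mk']
  rw [← map_comap_eq_self_of_surjective (QuotientGroup.mk'_surjective _)
      (pCore p (G ⧸ centralizer (V : Set G))), Subgroup.map_eq_bot_iff, QuotientGroup.ker_mk']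
  exact hDC

theorem omegaZ_le_center_pCore [Finite G] [Fact p.Prime]
    (hc : centralizer (pCore p G : Set G) ≤ pCore p G) (S : Sylow p G) :
    omegaZ p (S : Subgroup G) ≤ pCore p G ⊓ centralizer (pCore p G : Set G) := by
  have h := (omegaZ_le_centralizer (p := p) (S : Subgroup G)).trans
    (centralizer_le (SetLike.coe_subset_coe.2 (pCore_le_sylow S)))
  exact le_inf (h.trans hc) h

theorem omegaZClosure_elementary [Finite G] [Fact p.Prime]
    (hc : centralizer (pCore p G : Set G) ≤ pCore p G) :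
    IsElementaryAbelian p (omegaZClosure p G) := by
  have hZ : IsMulCommutative ↥(pCore p G ⊓ centralizer (pCore p G : Set G)) :=
    le_centralizer_iff_isMulCommutative.1
      (inf_le_right.trans (centralizer_le (SetLike.coe_subset_coe.2 inf_le_left)))
  refine elementary_mono (CfsgLib.PGroups.isElementaryAbelian_omegaOne
    (H := pCore p G ⊓ centralizer (pCore p G : Set G))) (iSup_le fun S => ?_)
  refine (Subgroup.closure_le _).2 fun x hx => CfsgLib.PGroups.mem_omegaOne ?_ hx.2
  exact omegaZ_le_center_pCore hc S (CfsgLib.PGroups.mem_omegaOne hx.1 hx.2)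

theorem omegaZ_fixed (S : Sylow p G) :
    omegaZ p (S : Subgroup G) ≤
      omegaZClosure p G ⊓ centralizer ((S : Subgroup G) : Set G) :=
  le_inf (le_iSup (fun T : Sylow p G => omegaZ p (T : Subgroup G)) S) (omegaZ_le_centralizer _)

theorem omegaZClosure_gen (p : ℕ) (G : Type*) [Group G] :
    omegaZClosure p G ≤
      ⨆ S : Sylow p G, omegaZClosure p G ⊓ centralizer ((S : Subgroup G) : Set G) :=
  iSup_mono fun S => omegaZ_fixed S

theorem thompsonFactorizable_iff [Finite G] [Fact p.Prime] (hO : pPrimeCore p G = ⊥) :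
    IsThompsonFactorizable p G ↔
      thompsonSubgroup p G ≤ centralizer (omegaZClosure p G : Set G) := by
  constructor
  · intro hf
    rw [thompson_eq_iSup_sylow]
    refine iSup_le fun S => ?_
    rw [le_centralizer_iff]
    refine iSup_le fun T => ?_
    obtain ⟨g, rfl⟩ := MulAction.exists_smul_eq G S T
    obtain ⟨x, hx, c, hc, n, hn, hg⟩ := hf S g⁻¹
    rw [hO, mem_bot] at hx
    rw [hx, one_mul] at hg
    have hS : ((g • S : Sylow p G) : Subgroup G)
        = (S : Subgroup G).map (MulAut.conj g).toMonoidHom := rfl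
    rw [hS, ← omegaZ_conj]
    rintro _ ⟨z, hz, rfl⟩
    rw [mem_centralizer_iff_conj]
    intro j hj
    have hginv : g = n⁻¹ * c⁻¹ := by rw [← mul_inv_rev, ← hg, inv_inv]
    have hcz : c⁻¹ * z * c = z := by
      have := mem_centralizer_iff_conj.1 (inv_mem hc) z hz
      simpa using this
    have hjn : n * j * n⁻¹ ∈ thompsonSubgroupOf p (S : Subgroup G) :=
      (mem_normalizer_iff.1 hn j).1 hj
    have hjS : n * j * n⁻¹ ∈ (S : Subgroup G) := map_subtype_le _ hjn
    have hzj := mem_centralizer_iff_conj.1 (omegaZ_le_centralizer (p := p) _ hz) _ hjS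
    show g * z * g⁻¹ * j * (g * z * g⁻¹)⁻¹ = j
    have hgz : g * z * g⁻¹ = n⁻¹ * z * n := by
      rw [hginv]; nth_rewrite 2 [← hcz]; group
    rw [hgz]
    calc n⁻¹ * z * n * j * (n⁻¹ * z * n)⁻¹ = n⁻¹ * (z * (n * j * n⁻¹) * z⁻¹) * n := by group
      _ = j := by rw [hzj]; group
  · intro hJ S g
    have hn := omegaZClosure_normal p G
    set C := centralizer (omegaZClosure p G : Set G) with hC
    have hnd : ¬ p ∣ (S : Subgroup G).relIndex C := fun hd =>
      S.not_dvd_index (hd.trans (CfsgLib.HallGen.relIndex_dvd_index_right _ _))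
    let T : Sylow p C := (S.2.comap_subtype).toSylow hnd
    have hT : (T : Subgroup C).map C.subtype = (S : Subgroup G) ⊓ C := subgroupOf_map_subtype _ _
    have hfr := Sylow.normalizer_sup_eq_top T
    have hg : g ∈ normalizer (((T : Subgroup C).map C.subtype : Subgroup G) : Set G) ⊔ C := by
      rw [hfr]; trivial
    rw [sup_comm, ← SetLike.mem_coe, coe_mul_of_right_le_normalizer_left C _ le_normalizer_of_normal]
      at hg
    obtain ⟨c, hc, n, hn', rfl⟩ := hg
    refine ⟨1, one_mem _, c, centralizer_le (SetLike.coe_subset_coe.2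
      (le_iSup (fun T : Sylow p G => omegaZ p (T : Subgroup G)) S)) hc, n, ?_, by group⟩
    rw [hT, SetLike.mem_coe, mem_normalizer_iff_map_conj_eq] at hn'
    rw [mem_normalizer_iff_map_conj_eq]
    obtain ⟨A, hA, hAS⟩ := exists_maxElementary_le_sylow S
    have hJST : thompsonSubgroupOf p ((S : Subgroup G) ⊓ C)
        = thompsonSubgroupOf p (S : Subgroup G) := by
      refine le_antisymm (map_le_iff_le_comap.2 (sSup_le fun B hB => map_le_iff_le_comap.1 ?_))
        (map_le_iff_le_comap.2 (sSup_le fun B hB => map_le_iff_le_comap.1 ?_))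
      · exact le_thompsonOf (map_maxElementary_subtype hA
          (le_inf hAS ((le_thompson hA).trans hJ)) hB) ((map_subtype_le B).trans inf_le_left)
      · exact le_thompsonOf (map_maxElementary_subtype hA hAS hB)
          (le_inf (map_subtype_le B)
            ((le_thompson (map_maxElementary_subtype hA hAS hB)).trans hJ))
    have h1 := thompsonOf_conj (p := p) ((S : Subgroup G) ⊓ C) n
    rw [show ((S : Subgroup G) ⊓ C).map (MulAut.conj n).toMonoidHom = (S : Subgroup G) ⊓ C from hn',
      hJST] at h1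
    exact h1

theorem thompsonFactorizable_quotient_iff [Finite G] [Fact p.Prime] :
    IsThompsonFactorizable p G ↔ IsThompsonFactorizable p (G ⧸ pPrimeCore p G) := by
  set N := pPrimeCore p G with hN
  have hcop := coprime_card_pPrimeCore p G
  set π := QuotientGroup.mk' N
  have hsurj := QuotientGroup.mk'_surjective N
  have hd : ∀ S : Sylow p G, Disjoint (S : Subgroup G) π.ker := fun S => by
    obtain ⟨k, hk⟩ := IsPGroup.iff_card.1 S.2
    rw [QuotientGroup.ker_mk']
    exact disjoint_of_coprime_natCard (by rw [hk]; exact hcop.symm.pow_left k)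
  have hC : ∀ S : Sylow p G, centralizer (omegaZ p ((S : Subgroup G).map π) : Set (G ⧸ N))
      = (centralizer (omegaZ p (S : Subgroup G) : Set G)).map π := fun S => by
    rw [← omegaZ_map π _ (hd S), map_centralizer_eq N hcop (S.2.to_le (omegaZ_le _))]
  have hJ : ∀ S : Sylow p G,
      normalizer (thompsonSubgroupOf p ((S : Subgroup G).map π) : Set (G ⧸ N))
      = (normalizer (thompsonSubgroupOf p (S : Subgroup G) : Set G)).map π := fun S => by
    rw [← thompsonOf_map π _ (hd S), map_normalizer_eq N hcop (P := thompsonSubgroupOf p (S : Subgroup G)) (S.2.to_le (map_subtype_le _))]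
  constructor
  · intro h T q
    obtain ⟨S, rfl⟩ := Sylow.mapSurjective_surjective hsurj p T
    obtain ⟨g, rfl⟩ := hsurj q
    obtain ⟨x, hx, c, hc, n, hn, rfl⟩ := h S g
    refine ⟨1, one_mem _, π c, (hC S).ge ⟨c, hc, rfl⟩, π n, (hJ S).ge ⟨n, hn, rfl⟩, ?_⟩
    rw [map_mul, map_mul, (show π x = 1 from (QuotientGroup.eq_one_iff x).2 hx)]
  · intro h S g
    obtain ⟨x, hx, c, hc, n, hn, hg⟩ := h (S.mapSurjective hsurj) (π g)
    rw [pPrimeCore_quotient_pPrimeCore, mem_bot] at hx
    obtain ⟨c₀, hc₀, rfl⟩ := (hC S).le hc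
    obtain ⟨n₀, hn₀, rfl⟩ := (hJ S).le hn
    refine ⟨g * (c₀ * n₀)⁻¹, ?_, c₀, hc₀, n₀, hn₀, by group⟩
    rw [← QuotientGroup.eq_one_iff]
    show π (g * (c₀ * n₀)⁻¹) = 1
    rw [map_mul, map_inv, map_mul, hg, hx, one_mul, mul_inv_cancel]

end CfsgLib.PLocal
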