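import Cfsg.Agent.Lib.PLocal.ZJ
import Cfsg.Agent.Lib.PLocal.Factorization

/-!
# `p`-stability modulo `O_{p'}` and consequences of the ZJ theorem
-/

set_option autoImplicit false

namespace CfsgLib.PLocal

open Subgroup Cfsg CfsgLib.Core
open scoped commutatorElement

variable {G : Type*} [Group G] {p : ℕ}

theorem map_maxAbelian {H : Type*} [Group H] (e : G ≃* H) {A : Subgroup G}
    (hA : A ∈ maxAbelianSubgroups G) : A.map e.toMonoidHom ∈ maxAbelianSubgroups H := by
  have hc : ∀ {X Y : Type _} [Group X] [Group Y] (f : X →* Y) (B : Subgroup X),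
      IsMulCommutative B → IsMulCommutative (B.map f) := fun f B hB =>
    le_centralizer_iff_isMulCommutative.1 (by
      rintro _ ⟨a, ha, rfl⟩
      rw [mem_centralizer_iff]
      rintro _ ⟨b, hb, rfl⟩
      rw [← map_mul, ← map_mul, comm_of_mem hB hb ha])
  refine ⟨hc _ _ hA.1, fun B hB => ?_⟩
  rw [card_map_of_injective _ e.injective]
  have := hA.2 (B.map e.symm.toMonoidHom) (le_centralizer_iff_isMulCommutative.1 (by
      rintro _ ⟨a, ha, rfl⟩
      rw [mem_centralizer_iff]
      rintro _ ⟨b, hb, rfl⟩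
      rw [← map_mul, ← map_mul, comm_of_mem hB hb ha]))
  rwa [card_map_of_injective _ e.symm.injective] at this

theorem map_equiv_thompsonA {H : Type*} [Group H] (e : G ≃* H) :
    (thompsonSubgroupA G).map e.toMonoidHom = thompsonSubgroupA H := by
  refine le_antisymm ?_ (sSup_le fun A hA => ?_)
  · rw [map_le_iff_le_comap]
    exact sSup_le fun A hA => map_le_iff_le_comap.1 (le_sSup (map_maxAbelian e hA))
  · intro x hx
    have h : A.map e.symm.toMonoidHom ≤ thompsonSubgroupA G := le_sSup (map_maxAbelian e.symm hA)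
    exact ⟨e.symm x, h ⟨x, hx, rfl⟩, e.apply_symm_apply x⟩

theorem centerThompsonA_map {H : Type*} [Group H] (f : G →* H) (S : Subgroup G)
    (hf : Disjoint S f.ker) :
    (centerThompsonAOf S).map f = centerThompsonAOf (S.map f) := by
  have hinj : Function.Injective (f.subgroupMap S) := by
    rw [← MonoidHom.ker_eq_bot_iff, eq_bot_iff]
    intro x hx
    exact Subtype.ext (disjoint_def.1 hf x.2 (congrArg Subtype.val hx : f x = 1))
  let e : S ≃* S.map f :=
    MulEquiv.ofBijective _ ⟨hinj, f.subgroupMap_surjective S⟩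
  have hJ : (thompsonSubgroupAOf S).map f = thompsonSubgroupAOf (S.map f) := by
    rw [thompsonSubgroupAOf, thompsonSubgroupAOf, ← map_equiv_thompsonA e, map_map, map_map]
    rfl
  rw [centerThompsonAOf, centerThompsonAOf,
    map_centralizer_of_injOn f (thompsonSubgroupAOf S) (hf.mono_left (map_subtype_le _)), hJ]

theorem normalizer_le_normalizer_centerThompsonA [Finite G] (S : Subgroup G) :
    normalizer (S : Set G) ≤ normalizer ((centerThompsonAOf S : Subgroup G) : Set G) := by
  rw [← zCore_abelian_eq]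
  exact normalizer_le_normalizer_zCore (goodPred_abelian (G := G) 1) S

theorem centerThompsonA_le [Finite G] (S : Subgroup G) : centerThompsonAOf S ≤ S := by
  rw [← zCore_abelian_eq]
  exact zCore_le (goodPred_abelian (G := G) 1) S

theorem centerThompsonA_ne_bot [Finite G] [Fact p.Prime] {S : Subgroup G} (hS : IsPGroup p S)
    (h : S ≠ ⊥) : centerThompsonAOf S ≠ ⊥ := by
  intro hZ
  rw [← zCore_abelian_eq] at hZ
  haveI : Nontrivial S := (nontrivial_iff_ne_bot _).2 h
  haveI := hS.center_nontrivial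
  obtain ⟨⟨⟨x, hx⟩, hxc⟩, hne⟩ := exists_ne (1 : center S)
  have hx1 : (⟨x, hx⟩ : S) ≠ 1 := fun h => hne (Subtype.ext h)
  have hmem : x ∈ zCore (fun A => IsMulCommutative A) S := by
    rw [zCore, Subgroup.mem_sInf]
    intro A hA
    have hcm : IsMulCommutative (zpowers x ⊔ A : Subgroup G) := by
      have hc : zpowers x ≤ centralizer (A : Set G) := zpowers_le.2 (mem_centralizer_iff.2
        fun y hy => congrArg Subtype.val (mem_center_iff.1 hxc ⟨y, hA.1 hy⟩))
      refine le_centralizer_iff_isMulCommutative.1 ?_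
      rw [centralizer_sup]
      exact le_inf (sup_le (le_centralizer_iff_isMulCommutative.2 inferInstance)
        (le_centralizer_iff.1 hc))
        (sup_le hc (le_centralizer_iff_isMulCommutative.2 hA.2.1))
    have := eq_of_le_of_card_ge (le_sup_right : A ≤ zpowers x ⊔ A)
      (hA.2.2 _ (sup_le (zpowers_le.2 hx) hA.1) hcm)
    rw [this]
    exact (le_sup_left : zpowers x ≤ zpowers x ⊔ A) (mem_zpowers x)
  rw [hZ, mem_bot] at hmem
  exact hx1 (Subtype.ext hmem)

/-- map between the automisers of a `p`-subgroup and of its image -/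
noncomputable def autoMap [Finite G] [Fact p.Prime] (N : Subgroup G) [N.Normal]
    (hN : (Nat.card N).Coprime p) (P : Subgroup G) (hP : IsPGroup p P) :
    (normalizer (P : Set G) ⧸ (centralizer (P : Set G)).subgroupOf (normalizer (P : Set G))) →*
      (normalizer ((P.map (QuotientGroup.mk' N) : Subgroup (G ⧸ N)) : Set (G ⧸ N)) ⧸
        (centralizer ((P.map (QuotientGroup.mk' N) : Subgroup (G ⧸ N)) : Set (G ⧸ N))).subgroupOf
          (normalizer ((P.map (QuotientGroup.mk' N) : Subgroup (G ⧸ N)) : Set (G ⧸ N)))) :=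
  QuotientGroup.map _ _
    (((QuotientGroup.mk' N).comp (normalizer (P : Set G)).subtype).codRestrict _
      fun g => (map_normalizer_eq N hN hP).le ⟨g, g.2, rfl⟩)
    fun g hg => (map_centralizer_eq N hN hP).le ⟨g, hg, rfl⟩

theorem autoMap_bijective [Finite G] [Fact p.Prime] (N : Subgroup G) [N.Normal]
    (hN : (Nat.card N).Coprime p) (P : Subgroup G) (hP : IsPGroup p P) :
    Function.Bijective (autoMap N hN P hP) := by
  constructor
  · rw [← MonoidHom.ker_eq_bot_iff, eq_bot_iff]
    intro q hq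
    obtain ⟨⟨g, hg⟩, rfl⟩ := QuotientGroup.mk'_surjective _ q
    rw [mem_bot]
    refine (QuotientGroup.eq_one_iff _).2 ?_
    have h0 : (⟨QuotientGroup.mk' N g, (map_normalizer_eq N hN hP).le ⟨g, hg, rfl⟩⟩ :
        normalizer ((P.map (QuotientGroup.mk' N) : Subgroup (G ⧸ N)) : Set (G ⧸ N))) ∈
        (centralizer ((P.map (QuotientGroup.mk' N) : Subgroup (G ⧸ N)) : Set (G ⧸ N))).subgroupOf
          (normalizer ((P.map (QuotientGroup.mk' N) : Subgroup (G ⧸ N)) : Set (G ⧸ N))) :=
      (QuotientGroup.eq_one_iff _).1 (MonoidHom.mem_ker.1 hq)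
    have h1 : QuotientGroup.mk' N g ∈ centralizer
        ((P.map (QuotientGroup.mk' N) : Subgroup (G ⧸ N)) : Set (G ⧸ N)) := h0
    show g ∈ centralizer (P : Set G)
    refine mem_centralizer_iff_conj.2 fun x hx => ?_
    have h2 : g * x * g⁻¹ * x⁻¹ ∈ P := P.mul_mem ((mem_normalizer_iff.1 hg x).1 hx) (P.inv_mem hx)
    have h3 : g * x * g⁻¹ * x⁻¹ ∈ N := by
      rw [← QuotientGroup.eq_one_iff]
      have := mem_centralizer_iff_conj.1 h1 _ ⟨x, hx, rfl⟩
      show QuotientGroup.mk' N (g * x * g⁻¹ * x⁻¹) = 1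
      rw [map_mul, map_mul, map_mul, map_inv, map_inv, this, mul_inv_cancel]
    obtain ⟨k, hk⟩ := IsPGroup.iff_card.1 hP
    have hd : Disjoint P N := disjoint_of_coprime_natCard (by rw [hk]; exact hN.symm.pow_left k)
    exact mul_inv_eq_one.1 (disjoint_def.1 hd h2 h3)
  · intro q
    obtain ⟨⟨y, hy⟩, rfl⟩ := QuotientGroup.mk'_surjective _ q
    obtain ⟨g, hg, rfl⟩ := (map_normalizer_eq N hN hP).ge hy
    exact ⟨QuotientGroup.mk ⟨g, hg⟩, rfl⟩

theorem disjoint_pPrime [Finite G] [Fact p.Prime] {P : Subgroup G} (hP : IsPGroup p P) :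
    Disjoint P (pPrimeCore p G) := by
  obtain ⟨k, hk⟩ := IsPGroup.iff_card.1 hP
  exact disjoint_of_coprime_natCard
    (by rw [hk]; exact (coprime_card_pPrimeCore p G).symm.pow_left k)

theorem autoMap_apply_mem [Finite G] [Fact p.Prime] (N : Subgroup G) [N.Normal]
    (hN : (Nat.card N).Coprime p) (P : Subgroup G) (hP : IsPGroup p P) {A : Subgroup G}
    (hA : A ≤ normalizer (P : Set G)) (a : A) :
    autoMap N hN P hP (QuotientGroup.mk ⟨a, hA a.2⟩) ∈
      ((A.map (QuotientGroup.mk' N)).subgroupOf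
        (normalizer ((P.map (QuotientGroup.mk' N) : Subgroup (G ⧸ N)) : Set (G ⧸ N)))).map
        (QuotientGroup.mk' _) :=
  ⟨⟨QuotientGroup.mk' N a, (map_normalizer_eq N hN hP).le ⟨a, hA a.2, rfl⟩⟩, ⟨a, a.2, rfl⟩, rfl⟩

theorem isPStable_quotient [Finite G] [Fact p.Prime] (h : IsPStable p G) :
    IsPStable p (G ⧸ pPrimeCore p G) := by
  set N := pPrimeCore p G with hN
  set π := QuotientGroup.mk' N with hπ
  have hsurj : Function.Surjective π := QuotientGroup.mk'_surjective N
  have hcop := coprime_card_pPrimeCore p G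
  have hlift : ∀ (S : Sylow p G) (X : Subgroup (G ⧸ N)),
      X ≤ (S.mapSurjective hsurj : Subgroup (G ⧸ N)) →
      ((S : Subgroup G) ⊓ X.comap π).map π = X := by
    intro S X hX
    refine le_antisymm ((map_mono inf_le_right).trans (map_comap_le _ _)) fun x hx => ?_
    obtain ⟨s, hs, rfl⟩ := hX hx
    exact ⟨s, ⟨hs, hx⟩, rfl⟩
  refine ⟨h.1, fun hbot => h.2.1 ?_, fun A P hA hP hAP hPle hn hq => ?_⟩
  · have h1 := map_pCore_le (p := p) π hsurj
    rw [hbot, le_bot_iff, Subgroup.map_eq_bot_iff, QuotientGroup.ker_mk'] at h1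
    exact eq_bot_iff.2 ((le_inf le_rfl h1).trans (pCore_inf_pPrimeCore (Fact.out : p.Prime)).le)
  · rw [pPrimeCore_quotient_pPrimeCore, bot_sup_eq] at hn
    obtain ⟨T, hT⟩ := hA.exists_le_sylow
    obtain ⟨S, rfl⟩ := Sylow.mapSurjective_surjective hsurj p T
    set A₀ := (S : Subgroup G) ⊓ A.comap π with hA₀
    set P₀ := (S : Subgroup G) ⊓ P.comap π with hP₀
    have hAm : A₀.map π = A := hlift S A hT
    have hPm : P₀.map π = P := hlift S P (hP.le_sylow_of_normal _)
    have hP₀p : IsPGroup p P₀ := S.2.to_le inf_le_left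
    have hnorm : A₀ ≤ normalizer (P₀ : Set G) :=
      (le_inf (inf_le_left.trans le_normalizer)
        (le_normalizer_of_normal (H := P.comap π))).trans inf_normalizer_le_normalizer_inf
    have hPple : P₀ ≤ pPrimePCore p G := by
      refine map_le_iff_le_comap.1 ?_
      rw [hPm]; exact le_pCore hP
    have hU : (pPrimeCore p G ⊔ P₀).Normal := by
      have : pPrimeCore p G ⊔ P₀ = P.comap π := by
        rw [← hPm, comap_map_eq, QuotientGroup.ker_mk', sup_comm]
      rw [this]; exact hn.comap π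
    have hq₀ : ⁅⁅P₀, A₀⁆, A₀⁆ = ⊥ := by
      have h1 : ⁅⁅P₀, A₀⁆, A₀⁆ ≤ P₀ :=
        (commutator_mono (le_normalizer_iff_commutator_le_left.1 hnorm) le_rfl).trans
          (le_normalizer_iff_commutator_le_left.1 hnorm)
      have h2 : ⁅⁅P₀, A₀⁆, A₀⁆ ≤ N := by
        rw [← QuotientGroup.ker_mk' N, ← Subgroup.map_eq_bot_iff, map_commutator, map_commutator,
          hPm, hAm, hq]
      exact eq_bot_iff.2 ((le_inf h1 h2).trans (disjoint_pPrime hP₀p).eq_bot.le)
    have hcon := h.2.2 A₀ P₀ (S.2.to_le inf_le_left) hP₀p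
      (fun a ha x hx => conj_mem hnorm ha hx) hPple hU hq₀
    clear_value P₀
    subst hPm
    rintro _ ⟨⟨y, hy⟩, hyA, rfl⟩
    obtain ⟨a, ha, hay⟩ := hAm.ge hyA
    have h3 := map_pCore_le (autoMap N hcop P₀ hP₀p) (autoMap_bijective N hcop P₀ hP₀p).2
      ⟨_, hcon (mem_map_of_mem _ (show (⟨a, hnorm ha⟩ : normalizer (P₀ : Set G)) ∈
        A₀.subgroupOf _ from ha)), rfl⟩
    convert h3 using 1
    show QuotientGroup.mk' _ _ = QuotientGroup.mk' _ _
    congr 1
    exact Subtype.ext hay.symm

theorem isPStable_of_quotient [Finite G] [Fact p.Prime] (hO : pCore p G ≠ ⊥)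
    (h : IsPStable p (G ⧸ pPrimeCore p G)) : IsPStable p G := by
  set N := pPrimeCore p G with hN
  set π := QuotientGroup.mk' N with hπ
  have hcop := coprime_card_pPrimeCore p G
  refine ⟨h.1, hO, fun A P hA hP hAP hPle hn hq => ?_⟩
  have hnorm : A ≤ normalizer (P : Set G) := le_normalizer_iff.2 hAP
  have hn' : (pPrimeCore p (G ⧸ N) ⊔ P.map π).Normal := by
    rw [pPrimeCore_quotient_pPrimeCore, bot_sup_eq]
    have h1 := hn.map π (QuotientGroup.mk'_surjective N)
    rwa [Subgroup.map_sup, hπ, QuotientGroup.map_mk'_self, bot_sup_eq] at h1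
  have hcon := h.2.2 (A.map π) (P.map π) (hA.map π) (hP.map π)
    (by
      rintro _ ⟨a, ha, rfl⟩ _ ⟨x, hx, rfl⟩
      exact ⟨_, hAP a ha x hx, by simp⟩)
    ((map_mono hPle).trans (by rw [map_pPrimePCore]; exact pCore_le_pPrimePCore)) hn'
    (by rw [← map_commutator, ← map_commutator, hq, Subgroup.map_bot])
  rintro _ ⟨⟨a, haN⟩, ha, rfl⟩
  let e := MulEquiv.ofBijective _ (autoMap_bijective N hcop P hP)
  have h2 := hcon (autoMap_apply_mem N hcop P hP hnorm ⟨a, ha⟩)
  rw [← map_equiv_pCore e] at h2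
  obtain ⟨q, hq', hqe⟩ := h2
  have : q = QuotientGroup.mk ⟨a, haN⟩ := e.injective hqe
  rw [this] at hq'
  exact hq'

/-- `Z(J(P))` is normal when `C(O_p) ≤ O_p` and `G` is `p`-stable. -/
theorem centerThompsonA_normal [Finite G] [Fact p.Prime] (hp : p ≠ 2)
    (hc : centralizer (pCore p G : Set G) ≤ pCore p G) (hs : IsPStable p G) (P : Sylow p G) :
    (centerThompsonAOf (P : Subgroup G)).Normal := by
  have h := zCore_characteristic hp (goodPred_abelian p) hc P (stableAt_of_isPStable hs P)
  rw [zCore_abelian_eq] at h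
  exact normal_of_characteristic _

/-- Glauberman's factorisation `G = O_{p'}(G) N(Z(J(P)))`. -/
theorem zj_factorization [Finite G] [Fact p.Prime] (hp : p ≠ 2) (hc : IsPConstrained p G)
    (hs : IsPStable p G) (P : Sylow p G) :
    pPrimeCore p G ⊔ normalizer (centerThompsonAOf (P : Subgroup G) : Set G) = ⊤ ∧
      (pPrimeCore p G = ⊥ → (centerThompsonAOf (P : Subgroup G)).Normal) := by
  refine ⟨?_, fun h0 => centerThompsonA_normal hp ((isPConstrained_iff_of_core_bot h0).1 hc) hs P⟩
  set N := pPrimeCore p G with hN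
  set π := QuotientGroup.mk' N with hπ
  have hsurj : Function.Surjective π := QuotientGroup.mk'_surjective N
  have h1 := centerThompsonA_normal hp (isPConstrained_iff.1 hc) (isPStable_quotient hs)
    (P.mapSurjective hsurj)
  have h2 : (centerThompsonAOf (P : Subgroup G)).map π
      = centerThompsonAOf ((P : Subgroup G).map π) :=
    centerThompsonA_map π _ (by rw [QuotientGroup.ker_mk']; exact disjoint_pPrime P.2)
  have hZp : IsPGroup p ↥(centerThompsonAOf (P : Subgroup G)) := P.2.to_le (centerThompsonA_le _)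
  have h3 := map_normalizer_eq N (coprime_card_pPrimeCore p G) hZp
  rw [h2, show normalizer (centerThompsonAOf ((P : Subgroup G).map π) : Set (G ⧸ N)) = ⊤ from
    normalizer_eq_top_iff.2 h1] at h3
  have h4 := congrArg (Subgroup.comap π) h3
  rw [comap_map_eq, QuotientGroup.ker_mk', comap_top, sup_comm] at h4
  exact h4

/-- Every `p`-local lies in `N(Z(J(P)))`. -/
theorem locals_le_normalizer_zj [Finite G] [Fact p.Prime] (hp : p ≠ 2)
    (hloc : ∀ Q : Subgroup G, IsPGroup p Q → Q ≠ ⊥ →
      pPrimeCore p ↥(normalizer (Q : Set G)) = ⊥ ∧ IsPConstrained p ↥(normalizer (Q : Set G)) ∧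
        IsPStable p ↥(normalizer (Q : Set G))) (P : Sylow p G) :
    ∀ Q : Subgroup G, Q ≤ (P : Subgroup G) → Q ≠ ⊥ →
      normalizer (Q : Set G) ≤ normalizer (centerThompsonAOf (P : Subgroup G) : Set G) := by
  set P₀ := (P : Subgroup G) with hP₀
  set M := normalizer (centerThompsonAOf P₀ : Set G) with hM
  have hPM : P₀ ≤ M := le_normalizer.trans (normalizer_le_normalizer_centerThompsonA P₀)
  have key : ∀ (n : ℕ) (Q : Subgroup G), Nat.card P₀ - Nat.card ↥(P₀ ⊓ normalizer (Q : Set G)) = n →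
      Q ≤ P₀ → Q ≠ ⊥ → normalizer (Q : Set G) ≤ M := by
    intro n
    induction n using Nat.strong_induction_on with
    | _ n ih =>
      intro Q hn hQP hQ
      set NQ := normalizer (Q : Set G) with hNQ
      set R := P₀ ⊓ NQ with hR
      have hQR : Q ≤ R := le_inf hQP le_normalizer
      have hRp : IsPGroup p R := P.2.to_le inf_le_left
      have hR0 : R ≠ ⊥ := fun h => hQ (eq_bot_iff.2 (hQR.trans h.le))
      have hbig : ∀ X : Subgroup G, X ≤ P₀ → X ≠ ⊥ →
          Nat.card R < Nat.card ↥(P₀ ⊓ normalizer (X : Set G)) → normalizer (X : Set G) ≤ M := by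
        intro X hXP hX hlt
        refine ih _ ?_ X rfl hXP hX
        have := card_le_of_le (inf_le_left : P₀ ⊓ normalizer (X : Set G) ≤ P₀)
        rw [← hn]; omega
      -- `R` is a Sylow subgroup of `N(Q)` or we may enlarge
      obtain ⟨R₀, hR₀, hR₀N, hR₀p, hR₀i⟩ :=
        CfsgLib.Transfer.exists_sylow_of_le (inf_le_right : R ≤ NQ) hRp
      have hR₀S : ∃ S : Sylow p ↥NQ, (S : Subgroup ↥NQ) = R₀.subgroupOf NQ :=
        ⟨hR₀p.comap_subtype.toSylow hR₀i, rfl⟩
      obtain ⟨S, hS⟩ := hR₀S
      have hSm : (S : Subgroup ↥NQ).map NQ.subtype = R₀ := by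
        rw [hS, subgroupOf_map_subtype, inf_eq_left.2 hR₀N]
      obtain ⟨hcore, hcon, hst⟩ := hloc Q (P.2.to_le hQP) hQ
      -- `Z(J(R₀))` is normalised by `N(Q)`
      have hX : NQ ≤ normalizer (centerThompsonAOf R₀ : Set G) := by
        have h1 := centerThompsonA_normal hp ((isPConstrained_iff_of_core_bot hcore).1 hcon) hst S
        have h2 := centerThompsonA_map NQ.subtype (S : Subgroup ↥NQ)
          (by rw [ker_subtype]; exact disjoint_bot_right)
        rw [hSm] at h2
        rw [← h2]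
        intro g hg
        rw [mem_normalizer_iff_map_conj_eq]
        refine eq_of_le_of_card_ge ?_
          (Nat.card_congr (equivMapOfInjective _ _ (MulAut.conj g).injective).toEquiv).le
        rintro _ ⟨_, ⟨z, hz, rfl⟩, rfl⟩
        exact ⟨⟨g, hg⟩ * z * ⟨g, hg⟩⁻¹, h1.conj_mem z hz _, rfl⟩
      rcases eq_or_ne R P₀ with hRP | hRP
      · have : R₀ = P₀ := by
          refine (eq_of_le_of_card_ge (hRP ▸ hR₀) ?_).symm
          obtain ⟨g, hg⟩ := hR₀p.exists_le_sylow
          exact (card_le_of_le hg).trans (P.card_eq_multiplicity.symm ▸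
            g.card_eq_multiplicity.le)
        rw [this] at hX
        exact hX
      · have hlt : R < P₀ := lt_of_le_of_ne inf_le_left hRP
        have hgrow : R < P₀ ⊓ normalizer (R : Set G) := CfsgLib.Transfer.lt_inf_normalizer P.2 hlt
        have hcard : Nat.card R < Nat.card ↥(P₀ ⊓ normalizer (R : Set G)) :=
          Set.Finite.card_lt_card (Set.toFinite _) (SetLike.coe_ssubset_coe.2 hgrow)
        have hNR : normalizer (R : Set G) ≤ M := hbig R inf_le_left hR0 hcard
        rcases eq_or_ne R R₀ with hRR | hRR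
        · -- `R` Sylow in `N(Q)`
          rw [← hRR] at hX
          refine hX.trans (hbig _ ((centerThompsonA_le R).trans inf_le_left)
            (centerThompsonA_ne_bot hRp hR0) (hcard.trans_le (card_le_of_le ?_)))
          exact inf_le_inf_left _ (normalizer_le_normalizer_centerThompsonA R)
        · have hlt₀ : R < R₀ := lt_of_le_of_ne hR₀ hRR
          have hgrow₀ : R < R₀ ⊓ normalizer (R : Set G) :=
            CfsgLib.Transfer.lt_inf_normalizer hR₀p hlt₀
          set R₁ := R₀ ⊓ normalizer (R : Set G) with hR₁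
          have hR₁M : R₁ ≤ M := inf_le_right.trans hNR
          have hnd : ¬ p ∣ P₀.relIndex M := fun hd =>
            P.not_dvd_index (hd.trans (relIndex_dvd_index_of_le hPM))
          obtain ⟨m, hm, hmc⟩ := CfsgLib.Transfer.exists_conj_le P.2 hnd hR₁M
            (hR₀p.to_le inf_le_left)
          set Q' := Q.map (MulAut.conj m⁻¹).toMonoidHom with hQ'
          have hQ'P : Q' ≤ P₀ := by
            rintro _ ⟨x, hx, rfl⟩
            show m⁻¹ * x * m⁻¹⁻¹ ∈ P₀
            rw [inv_inv]
            exact hmc x (hgrow₀.le (hQR hx))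
          have hQ'0 : Q' ≠ ⊥ := fun h =>
            hQ ((map_eq_bot_iff_of_injective _ (MulAut.conj m⁻¹).injective).1 h)
          have hsub : R₁.map (MulAut.conj m⁻¹).toMonoidHom ≤ P₀ ⊓ normalizer (Q' : Set G) := by
            refine le_inf ?_ ((map_mono (inf_le_left.trans hR₀N)).trans (le_normalizer_map _))
            rintro _ ⟨x, hx, rfl⟩
            show m⁻¹ * x * m⁻¹⁻¹ ∈ P₀
            rw [inv_inv]
            exact hmc x hx
          have hlt' : Nat.card R < Nat.card ↥(P₀ ⊓ normalizer (Q' : Set G)) := by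
            refine lt_of_lt_of_le ?_ ((card_map_of_injective _ (MulAut.conj m⁻¹).injective R₁).symm.le.trans
              (card_le_of_le hsub))
            exact Set.Finite.card_lt_card (Set.toFinite _) (SetLike.coe_ssubset_coe.2 hgrow₀)
          have hN' := hbig Q' hQ'P hQ'0 hlt'
          intro g hg
          have : m⁻¹ * g * m⁻¹⁻¹ ∈ normalizer (Q' : Set G) :=
            le_normalizer_map (MulAut.conj m⁻¹).toMonoidHom ⟨g, hg, rfl⟩
          have h5 := mul_mem (mul_mem hm (hN' this)) (inv_mem hm)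
          simpa [mul_assoc] using h5
  exact fun Q => key _ Q rfl

end CfsgLib.PLocal
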