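import Cfsg.Agent.Lib.PLocal.ComplementReduction
import Cfsg.Agent.Lib.PLocal.PStable

/-!
# The normal `p`-complement theorems of Thompson and Glauberman (`p` odd)

* `hasNormalPComplement_thompson`: `C(Z(P))` and `N(J(P))` decide.
* `hasNormalPComplement_glauberman`: `N(Z(J(P)))` (abelian `J`) decides.
-/

set_option autoImplicit false
set_option linter.all false

open scoped commutatorElement

universe w

namespace CfsgLib.PLocal

open Subgroup Cfsg

variable {p : ℕ} [Fact p.Prime]

theorem disjoint_of_isPGroup {K : Type w} [Group K] [Finite K] {N S : Subgroup K}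
    (hN : (Nat.card N).Coprime p) (hS : IsPGroup p S) : Disjoint S N := by
  obtain ⟨k, hk⟩ := IsPGroup.iff_card.1 hS
  exact disjoint_of_coprime_natCard (hk ▸ (hN.pow_right k).symm)

/-- The local functor `S ↦ N(W S)` of a characteristic subgroup functor. -/
def normalizerLoc (W : ∀ {K : Type w} [Group K] [Finite K], Subgroup K → Subgroup K)
    (hle : ∀ {K : Type w} [Group K] [Finite K] (S : Subgroup K), W S ≤ S)
    (hne : ∀ {K : Type w} [Group K] [Finite K] (S : Subgroup K), IsPGroup p S → S ≠ ⊥ → W S ≠ ⊥)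
    (hmap : ∀ {K L : Type w} [Group K] [Finite K] [Group L] [Finite L] (f : K →* L)
      (S : Subgroup K), Disjoint S f.ker → (W S).map f = W (S.map f)) : Loc.{w} p where
  W := W
  M S := normalizer ((W S : Subgroup _) : Set _)
  W_le := hle
  W_ne := hne
  W_normalizer S := by
    intro g hg
    rw [mem_normalizer_iff_map_conj_eq] at hg ⊢
    have h := hmap (MulAut.conj g).toMonoidHom S
      (by rw [(MonoidHom.ker_eq_bot_iff _).2 (MulAut.conj g).injective]; exact disjoint_bot_right)
    rw [show S.map (MulAut.conj g).toMonoidHom = S from hg] at h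
    exact h
  M_le _ := le_rfl
  M_sub U S hSU := by
    refine (le_normalizer_map U.subtype).trans ?_
    rw [hmap U.subtype (S.subgroupOf U) (by rw [U.ker_subtype]; exact disjoint_bot_right),
      subgroupOf_map_subtype, inf_of_le_left hSU]
  M_quot N _ hN S hS := by
    rw [map_normalizer_eq N hN (hS.to_le (hle S)),
      hmap (QuotientGroup.mk' N) S (by rw [QuotientGroup.ker_mk']; exact disjoint_of_isPGroup hN hS)]

theorem center_ne_bot {K : Type w} [Group K] [Finite K] {S : Subgroup K} (hS : IsPGroup p S)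
    (hb : S ≠ ⊥) : S ⊓ centralizer (S : Set K) ≠ ⊥ := by
  haveI : Nontrivial S := (nontrivial_iff_ne_bot _).2 hb
  obtain ⟨⟨⟨z, hz⟩, hzc⟩, hz1⟩ := ne_bot_iff_exists_ne_one.mp hS.bot_lt_center.ne'
  intro h
  refine hz1 (Subtype.ext (Subtype.ext (mem_bot.mp (h.le ⟨hz, ?_⟩))))
  exact mem_centralizer_iff.mpr fun y hy => congrArg Subtype.val (mem_center_iff.mp hzc ⟨y, hy⟩)

/-- The local functor `S ↦ C(Z(S))`. -/
def centralizerCenterLoc (p : ℕ) [Fact p.Prime] : Loc.{w} p where
  W S := S ⊓ centralizer (S : Set _)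
  M S := centralizer ((S ⊓ centralizer (S : Set _) : Subgroup _) : Set _)
  W_le _ := inf_le_left
  W_ne _ hS hb := center_ne_bot hS hb
  W_normalizer S := by
    refine (le_inf le_rfl ?_).trans inf_normalizer_le_normalizer_inf
    rw [le_normalizer_iff]
    intro x hx z hz
    rw [mem_centralizer_iff] at hz ⊢
    intro y hy
    have h2 := congrArg (fun w => x * w * x⁻¹)
      (hz (x⁻¹ * y * x) (CfsgLib.Core.conj_mem_of_le_normalizer' le_rfl hx hy))
    simpa [mul_assoc] using h2
  M_le _ := centralizer_le_normalizer _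
  M_sub U S hSU := by
    refine (map_centralizer_le_centralizer_image _ _).trans ?_
    rw [← coe_map, map_centralizer_of_injOn U.subtype (S.subgroupOf U)
      (by rw [U.ker_subtype]; exact disjoint_bot_right), subgroupOf_map_subtype, inf_of_le_left hSU]
  M_quot N _ hN S hS := by
    rw [map_centralizer_eq N hN (hS.to_le inf_le_left),
      map_centralizer_of_injOn (QuotientGroup.mk' N) S (by rw [QuotientGroup.ker_mk']; exact disjoint_of_isPGroup hN hS)]

/-- The local functor `S ↦ N(J(S))`. -/
def thompsonLoc (p : ℕ) [Fact p.Prime] : Loc.{w} p :=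
  normalizerLoc (fun S => thompsonSubgroupOf p S) (fun S => map_subtype_le _)
    (fun S hS hb => by
      rw [thompsonSubgroupOf, Ne, map_eq_bot_iff_of_injective _ S.subtype_injective]
      refine thompson_ne_bot ?_
      rcases hS.card_eq_or_dvd with h | h
      · exact absurd (Subgroup.card_eq_one.mp h) hb
      · exact h)
    (fun f S hf => thompsonOf_map f S hf)

/-- The local functor `S ↦ N(Z(J(S)))`, abelian `J`. -/
def centerThompsonALoc (p : ℕ) [Fact p.Prime] : Loc.{w} p :=
  normalizerLoc (fun S => centerThompsonAOf S) (fun S => centerThompsonA_le S)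
    (fun S hS hb => centerThompsonA_ne_bot hS hb) (fun f S hf => centerThompsonA_map f S hf)

/-- In a reduced configuration, if `C(V)` is small then `J(P) ≤ O_p`. -/
theorem Config.thompson_le {G : Type w} [Group G] [Finite G] {P : Sylow p G} (hcfg : Config p P)
    (hV : centralizer ((omegaZClosure p G : Subgroup G) : Set G) ≤ pCore p G) :
    thompsonSubgroupOf p (P : Subgroup G) ≤ pCore p G := by
  haveI := omegaZClosure_normal p G
  have hel := omegaZClosure_elementary hcfg.centralizer_le
  have hVH : omegaZClosure p G ≤ pCore p G ⊓ centralizer (pCore p G : Set G) :=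
    iSup_le fun S => omegaZ_le_center_pCore hcfg.centralizer_le S
  generalize hVd : omegaZClosure p G = V at hV hel hVH
  have hVP : V ≤ (P : Subgroup G) :=
    hVH.trans (inf_le_left.trans (CfsgLib.Core.pCore_le_sylow P))
  rw [thompsonSubgroupOf, map_le_iff_le_comap]
  refine sSup_le fun A hA => ?_
  have hVn : (V.subgroupOf (P : Subgroup G)).Normal := by
    haveI : V.Normal := hVd ▸ omegaZClosure_normal p G
    infer_instance
  haveI := hVn
  have hel' : IsElementaryAbelian p (V.subgroupOf (P : Subgroup G)) :=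
    elementary_comap _ (P : Subgroup G).subtype_injective hel
  obtain ⟨-, hquad, hne⟩ := thompson_replacement_max hel' hA
  generalize hA' : ⁅V.subgroupOf (P : Subgroup G), A⁆ ⊔ (A ⊓ centralizer
    ((⁅V.subgroupOf (P : Subgroup G), A⁆ : Subgroup (P : Subgroup G)) : Set (P : Subgroup G))) = A' at hquad hne
  have hA'H : ∀ a ∈ A', (a : G) ∈ pCore p G := by
    intro a ha
    refine hcfg.quad V (hVd ▸ omegaZClosure_normal p G) (isPGroup_of_elementary hel) hV _ a.2 ?_
    intro v hv
    have hq : ⁅⁅V.subgroupOf (P : Subgroup G), zpowers a⁆, zpowers a⁆ = ⊥ :=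
      le_bot_iff.mp ((commutator_mono (commutator_mono le_rfl (zpowers_le.2 ha))
        (zpowers_le.2 ha)).trans hquad.le)
    exact congrArg Subtype.val (quad_of_commutator hq (v := ⟨v, hVP hv⟩) (mem_subgroupOf.mpr hv))
  have hbot : ⁅V.subgroupOf (P : Subgroup G), A'⁆ = ⊥ := by
    rw [commutator_eq_bot_iff_le_centralizer]
    intro v hv
    rw [mem_centralizer_iff]
    intro a ha
    exact Subtype.ext (mem_centralizer_iff.mp (hVH hv).2 _ (hA'H a ha))
  have h0 : ⁅V.subgroupOf (P : Subgroup G), A⁆ = ⊥ := by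
    by_contra h
    exact hne h hbot
  intro a ha
  refine mem_comap.mpr (hV ?_)
  rw [mem_centralizer_iff]
  intro v hv
  exact congrArg Subtype.val (mem_centralizer_iff.mp
    (commutator_eq_bot_iff_le_centralizer.mp ((commutator_comm _ _).trans h0) ha)
    ⟨v, hVP hv⟩ (mem_subgroupOf.mpr hv))

/-- In a reduced configuration with `C(V)` large, `Z(P)` is central. -/
theorem Config.centralizer_center_eq_top {G : Type w} [Group G] [Finite G] {P : Sylow p G}
    (hcfg : Config p P)
    (hV : centralizer ((omegaZClosure p G : Subgroup G) : Set G) ⊔ (P : Subgroup G) = ⊤) :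
    centralizer (((P : Subgroup G) ⊓ centralizer ((P : Subgroup G) : Set G) : Subgroup G) : Set G)
      = ⊤ := by
  have hY : centralizer ((omegaZ p (P : Subgroup G) : Subgroup G) : Set G) = ⊤ := by
    rw [eq_top_iff, ← hV]
    have hle : omegaZ p (P : Subgroup G) ≤ omegaZClosure p G := (omegaZ_fixed P).trans inf_le_left
    refine sup_le (Subgroup.centralizer_le (SetLike.coe_subset_coe.2 hle)) ?_
    rw [le_centralizer_iff]
    exact omegaZ_le_centralizer _
  obtain ⟨T, hTc, hTn, hTP, hTab⟩ := hcfg.exists_coprime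
  haveI := hTn
  haveI := hTab
  generalize hH : pCore p G = H at hTn hTP
  haveI : H.Normal := hH ▸ inferInstance
  have hHP : H ≤ (P : Subgroup G) := hH ▸ CfsgLib.Core.pCore_le_sylow P
  obtain ⟨E, hE⟩ : ∃ E, E = H ⊓ centralizer (H : Set G) := ⟨_, rfl⟩
  haveI : E.Normal := hE ▸ inferInstance
  haveI : IsMulCommutative E := by
    rw [← le_centralizer_iff_isMulCommutative, hE]
    exact inf_le_right.trans (Subgroup.centralizer_le inf_le_left)
  have hEp : IsPGroup p E :=
    (hH ▸ CfsgLib.Core.isPGroup_pCore p G : IsPGroup p H).to_le (hE ▸ inf_le_left)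
  have hcop : (Nat.card T).Coprime (Nat.card E) := by
    obtain ⟨k, hk⟩ := IsPGroup.iff_card.1 hEp
    exact hk ▸ hTc.pow_right k
  have hR : ⁅E, H ⊔ T⁆ ≤ ⁅E, T⁆ := by
    rw [commutator_le]
    intro v hv x hx
    rw [sup_comm] at hx
    obtain ⟨t, ht, h, hh, rfl⟩ := mem_sup_of_normal_right.mp hx
    have hc : Commute v h := (mem_centralizer_iff.mp (hE ▸ hv : v ∈ H ⊓ centralizer (H : Set G)).2 h hh).symm
    have h1 : ⁅v, t * h⁆ = ⁅v, t⁆ := by
      have h2 : h * v⁻¹ = v⁻¹ * h := hc.inv_left.eq.symm
      simp only [commutatorElement_def, mul_assoc]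
      rw [mul_inv_rev, ← mul_assoc h v⁻¹, h2]
      simp [mul_assoc]
    rw [h1]
    exact commutator_mem_commutator hv ht
  have hbot : ⁅E, H ⊔ T⁆ = ⊥ := by
    by_contra hne
    have hRP : ⁅E, H ⊔ T⁆ ≤ (P : Subgroup G) :=
      (commutator_le_left E (H ⊔ T)).trans (hE ▸ inf_le_left.trans hHP)
    have h1 : (⁅E, H ⊔ T⁆).subgroupOf (P : Subgroup G) ≠ ⊥ := by
      rw [Ne, subgroupOf_eq_bot, disjoint_iff, inf_of_le_left hRP]
      exact hne
    have h2 := CfsgLib.PGroups.inf_center_ne_bot P.2 h1
    haveI := Fact.mk (Fact.out : p.Prime)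
    have hd : p ∣ Nat.card ((⁅E, H ⊔ T⁆).subgroupOf (P : Subgroup G) ⊓ center (P : Subgroup G) :
        Subgroup (P : Subgroup G)) := by
      rcases (P.2.to_subgroup _).card_eq_or_dvd with h | h
      · exact absurd (Subgroup.card_eq_one.mp h) h2
      · exact h
    obtain ⟨⟨⟨z, hzP⟩, hzm⟩, hz⟩ := exists_prime_orderOf_dvd_card' p hd
    rw [Subgroup.orderOf_mk, Subgroup.orderOf_mk] at hz
    obtain ⟨hzR, hzc⟩ := Subgroup.mem_inf.mp hzm
    have hzY : z ∈ omegaZ p (P : Subgroup G) :=
      CfsgLib.PGroups.mem_omegaOne ⟨hzP, mem_centralizer_iff.mpr fun y hy =>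
        congrArg Subtype.val (mem_center_iff.mp hzc ⟨y, hy⟩)⟩ (hz ▸ pow_orderOf_eq_one z)
    have hzT : z ∈ centralizer (T : Set G) := by
      refine mem_centralizer_iff.mpr fun t _ => ?_
      exact (mem_centralizer_iff.mp (hY.ge (mem_top t)) z hzY).symm
    have hz1 : z = 1 := mem_bot.mp ((CfsgLib.Core.abelian_inf_eq_bot
      (CfsgLib.Core.le_normalizer_of_normal T E) hcop).le
      ⟨⟨commutator_le_left E (H ⊔ T) (mem_subgroupOf.mp hzR), hzT⟩, hR (mem_subgroupOf.mp hzR)⟩)
    exact (Fact.out : p.Prime).ne_one (by rw [← hz, hz1, orderOf_one])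
  rw [eq_top_iff, ← hTP]
  refine sup_le ?_ ?_
  · rw [le_centralizer_iff]
    have hZE : (P : Subgroup G) ⊓ centralizer ((P : Subgroup G) : Set G) ≤ E := by
      have h1 : centralizer ((P : Subgroup G) : Set G) ≤ centralizer (H : Set G) :=
        Subgroup.centralizer_le (SetLike.coe_subset_coe.2 hHP)
      rw [hE]
      exact inf_le_right.trans (le_inf (h1.trans (hH ▸ hcfg.centralizer_le)) h1)
    refine hZE.trans ((commutator_eq_bot_iff_le_centralizer.mp hbot).trans ?_)
    exact Subgroup.centralizer_le (SetLike.coe_subset_coe.2 le_sup_right)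
  · rw [le_centralizer_iff]
    exact inf_le_right

/-- Thompson's normal `p`-complement theorem. -/
theorem hasNormalPComplement_thompson {G : Type w} [Group G] [Finite G] (hp : p ≠ 2)
    (P : Sylow p G)
    (hJ : HasNormalPComplement p (normalizer (thompsonSubgroupOf p (P : Subgroup G) : Set G)))
    (hC : HasNormalPComplement p (centralizer
      (((P : Subgroup G) ⊓ centralizer ((P : Subgroup G) : Set G) : Subgroup G) : Set G))) :
    HasNormalPComplement p G := by
  refine hasNormalPComplement_of_locals hp {thompsonLoc p, centralizerCenterLoc p}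
    ⟨thompsonLoc p, Set.mem_insert _ _, fun S => le_rfl⟩ (fun K _ _ Q hcfg => ?_) P ?_
  · rcases hcfg.dich (centralizer ((omegaZClosure p K : Subgroup K) : Set K))
      (haveI := omegaZClosure_normal p K; inferInstance) with h | h
    · refine ⟨thompsonLoc p, Set.mem_insert _ _, ?_⟩
      show normalizer ((thompsonSubgroupOf p (Q : Subgroup K) : Subgroup K) : Set K) = ⊤
      have hJH := hcfg.thompson_le h
      have hHQ := CfsgLib.Core.pCore_le_sylow (p := p) Q
      have heq : thompsonSubgroupOf p (Q : Subgroup K) = thompsonSubgroupOf p (pCore p K) := by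
        have h1 : thompsonSubgroupOf p ((pCore p K).subgroupOf (Q : Subgroup K)) =
            thompsonSubgroup p (Q : Subgroup K) :=
          thompsonOf_eq_of_le fun x hx => mem_subgroupOf.mpr (hJH ⟨x, hx, rfl⟩)
        have h2 := thompsonOf_map (p := p) (Q : Subgroup K).subtype
          ((pCore p K).subgroupOf (Q : Subgroup K)) (by rw [(Q : Subgroup K).ker_subtype]; exact disjoint_bot_right)
        rw [h1, subgroupOf_map_subtype, inf_of_le_left hHQ] at h2
        exact h2
      rw [heq, eq_top_iff]
      refine le_trans ?_ ((thompsonLoc p).W_normalizer (pCore p K))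
      rw [normalizer_eq_top]
    · exact ⟨centralizerCenterLoc p, Set.mem_insert_of_mem _ rfl, hcfg.centralizer_center_eq_top h⟩
  · rintro L (rfl | rfl)
    · exact hJ
    · exact hC

/-- Glauberman's normal `p`-complement theorem, abelian version of `J`. -/
theorem hasNormalPComplement_glauberman {G : Type w} [Group G] [Finite G] (hp : p ≠ 2)
    (P : Sylow p G)
    (hN : HasNormalPComplement p (normalizer (centerThompsonAOf (P : Subgroup G) : Set G))) :
    HasNormalPComplement p G := by
  refine hasNormalPComplement_of_locals hp {centerThompsonALoc p}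
    ⟨centerThompsonALoc p, rfl, fun S => le_rfl⟩ (fun K _ _ Q hcfg => ?_) P ?_
  · refine ⟨centerThompsonALoc p, rfl, ?_⟩
    show normalizer ((centerThompsonAOf (Q : Subgroup K) : Subgroup K) : Set K) = ⊤
    haveI : (centerThompsonAOf (Q : Subgroup K)).Characteristic := by
      rw [← zCore_abelian_eq]
      exact zCore_characteristic hp (goodPred_abelian p) hcfg.centralizer_le Q hcfg.stableAt
    exact normalizer_eq_top_iff.mpr inferInstance
  · rintro L rfl
    exact hN

end CfsgLib.PLocal
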