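import Mathlib.GroupTheory.QuotientGroup.Basic
import Mathlib.GroupTheory.Sylow
import Mathlib.GroupTheory.Commutator.Basic
import Mathlib.GroupTheory.Subgroup.Centralizer
import Mathlib.GroupTheory.Index

/-!
# Commutators with an abelian normalised subgroup; small counting lemmas
-/

set_option autoImplicit false

namespace CfsgLib.PLocal

open Subgroup
open scoped commutatorElement

variable {G : Type*} [Group G]

theorem conj_mem {V A : Subgroup G} (hA : A ≤ normalizer (V : Set G)) {a v : G} (ha : a ∈ A)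
    (hv : v ∈ V) : a * v * a⁻¹ ∈ V :=
  le_normalizer_iff.1 hA a ha v hv

theorem comm_mem {V A : Subgroup G} (hA : A ≤ normalizer (V : Set G)) {a v : G} (ha : a ∈ A)
    (hv : v ∈ V) : ⁅a, v⁆ ∈ V := by
  rw [commutatorElement_def]
  exact V.mul_mem (conj_mem hA ha hv) (V.inv_mem hv)

/-- two elements of an abelian subgroup commute -/
theorem comm_of_mem {V : Subgroup G} (hV : IsMulCommutative V) {x y : G} (hx : x ∈ V) (hy : y ∈ V) :
    x * y = y * x := by
  have := hV.is_comm.comm (⟨x, hx⟩ : V) ⟨y, hy⟩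
  exact congrArg Subtype.val this

/-- `⁅x, y⁆ = 1` in the form `x y x⁻¹ = y` -/
theorem comm_eq_one_iff_conj {x y : G} : ⁅x, y⁆ = 1 ↔ x * y * x⁻¹ = y := by
  rw [commutatorElement_def, mul_inv_eq_one]

theorem mem_centralizer_iff_conj {S : Set G} {a : G} :
    a ∈ centralizer S ↔ ∀ v ∈ S, a * v * a⁻¹ = v := by
  rw [mem_centralizer_iff]
  refine forall₂_congr fun v _ => ?_
  rw [mul_inv_eq_iff_eq_mul]
  exact eq_comm

/-- In an abelian normalised subgroup, `v ↦ ⁅a, v⁆` is multiplicative. -/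
theorem comm_mul_right' {V A : Subgroup G} (hV : IsMulCommutative V)
    (hA : A ≤ normalizer (V : Set G)) {a v w : G} (ha : a ∈ A) (hv : v ∈ V) (hw : w ∈ V) :
    ⁅a, v * w⁆ = ⁅a, v⁆ * ⁅a, w⁆ := by
  rw [commutatorElement_mul_right_eq_mul_conj, mul_assoc ⁅a, v⁆,
    comm_of_mem hV hv (comm_mem hA ha hw), ← mul_assoc, mul_inv_cancel_right]

/-- `⁅a b, v⁆ = a ⁅b, v⁆ a⁻¹ ⁅a, v⁆` -/
theorem comm_mul_left' (a b v : G) : ⁅a * b, v⁆ = a * ⁅b, v⁆ * a⁻¹ * ⁅a, v⁆ :=
  commutatorElement_mul_left_eq_conj_mul a b v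

theorem card_sup_mul_card_inf [Finite G] (H K : Subgroup G) (h : H ≤ normalizer (K : Set G)) :
    Nat.card H * Nat.card K = Nat.card ↥(H ⊔ K) * Nat.card ↥(H ⊓ K) := by
  have := normal_subgroupOf_of_le_normalizer h
  have := normal_subgroupOf_sup_of_le_normalizer h
  have e := Nat.card_congr
    (QuotientGroup.quotientInfEquivProdNormalizerQuotient H K h).toEquiv
  have h1 : Nat.card ↥(K.subgroupOf H) * (K.subgroupOf H).index = Nat.card H := card_mul_index _
  have h2 : Nat.card ↥(K.subgroupOf (H ⊔ K)) * (K.subgroupOf (H ⊔ K)).index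
      = Nat.card ↥(H ⊔ K) := card_mul_index _
  have h3 : Nat.card ↥(K.subgroupOf H) = Nat.card ↥(H ⊓ K) := by
    rw [inf_comm, ← inf_subgroupOf_right]
    exact Nat.card_congr (subgroupOfEquivOfLe inf_le_right).toEquiv
  have h4 : Nat.card ↥(K.subgroupOf (H ⊔ K)) = Nat.card K :=
    Nat.card_congr (subgroupOfEquivOfLe le_sup_right).toEquiv
  rw [h3] at h1
  rw [h4] at h2
  rw [index_eq_card] at h1 h2
  rw [← h1, ← h2, e]
  ring

end CfsgLib.PLocal
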