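import Cfsg.Agent.Lib.PLocal.PSolvable
import Cfsg.Agent.Lib.PLocal.Comm
import Cfsg.Agent.Lib.Core.Coprime
import Cfsg.Agent.Lib.Components.Radicals
import Cfsg.Agent.Lib.Transfer.Conj

/-!
# `O_{p',p}` and `p`-constraint
-/

set_option autoImplicit false

namespace CfsgLib.PLocal

open Subgroup Cfsg CfsgLib.Core

variable {G : Type*} [Group G] {p : ℕ}

/-- normalisers of `p`-subgroups in a quotient by a normal `p'`-subgroup -/
theorem map_normalizer_eq [Finite G] [Fact p.Prime] (N : Subgroup G) [N.Normal]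
    (hN : (Nat.card N).Coprime p) {P : Subgroup G} (hP : IsPGroup p P) :
    (normalizer (P : Set G)).map (QuotientGroup.mk' N)
      = normalizer ((P.map (QuotientGroup.mk' N) : Subgroup (G ⧸ N)) : Set (G ⧸ N)) := by
  refine le_antisymm (le_normalizer_map _) fun q hq => ?_
  obtain ⟨g, rfl⟩ := QuotientGroup.mk'_surjective N q
  set U := P ⊔ N with hU
  have hgU : g ∈ normalizer (U : Set G) := by
    have h1 := comap_normalizer_eq_of_surjective (P.map (QuotientGroup.mk' N))
      (QuotientGroup.mk'_surjective N)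
    rw [comap_map_eq, QuotientGroup.ker_mk'] at h1
    rw [hU, ← h1]
    exact hq
  have hinj : Disjoint P N := by
    obtain ⟨k, hk⟩ := IsPGroup.iff_card.1 hP
    refine disjoint_of_coprime_natCard ?_
    rw [hk]
    exact hN.symm.pow_left k
  have hPi : ¬ p ∣ P.relIndex U := by
    have h1 := card_sup_mul_card_inf P N le_normalizer_of_normal
    rw [hinj.eq_bot, card_bot, mul_one] at h1
    have h2 : Nat.card P * P.relIndex U = Nat.card ↥(P ⊔ N) := by
      rw [← relIndex_bot_left, relIndex_mul_relIndex _ _ _ bot_le (le_sup_left : P ≤ U),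
        relIndex_bot_left]
    rw [← h1] at h2
    rw [Nat.eq_of_mul_eq_mul_left Nat.card_pos h2]
    exact fun hd => (Fact.out : p.Prime).ne_one (Nat.eq_one_of_dvd_coprimes hN hd dvd_rfl)
  have hP' : IsPGroup p (P.map (MulAut.conj g).toMonoidHom) := hP.map _
  have hle : P.map (MulAut.conj g).toMonoidHom ≤ U :=
    (map_mono le_sup_left).trans (mem_normalizer_iff_map_conj_eq.1 hgU).le
  obtain ⟨u, huU, hu⟩ := CfsgLib.Transfer.exists_conj_le hP hPi hle hP'
  have hmem : u⁻¹ * g ∈ normalizer (P : Set G) := by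
    rw [mem_normalizer_iff_map_conj_eq]
    refine eq_of_le_of_card_ge ?_ ?_
    · rintro _ ⟨x, hx, rfl⟩
      have := hu _ ⟨x, hx, rfl⟩
      show u⁻¹ * g * x * (u⁻¹ * g)⁻¹ ∈ P
      convert this using 1
      simp [mul_assoc]
    · exact le_of_eq (Nat.card_congr (equivMapOfInjective _ _ (MulAut.conj _).injective).toEquiv)
  rw [hU, ← SetLike.mem_coe, coe_mul_of_left_le_normalizer_right P N le_normalizer_of_normal] at huU
  obtain ⟨x, hx, n, hn, rfl⟩ := huU
  refine ⟨x * ((x * n)⁻¹ * g), mul_mem (le_normalizer hx) hmem, ?_⟩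
  show QuotientGroup.mk' N (x * ((x * n)⁻¹ * g)) = QuotientGroup.mk' N g
  have hn1 : (QuotientGroup.mk' N) n = 1 := (QuotientGroup.eq_one_iff n).2 hn
  rw [map_mul, map_mul, map_inv, map_mul, hn1, mul_one, mul_inv_cancel_left]

/-- centralisers of `p`-subgroups in a quotient by a normal `p'`-subgroup -/
theorem map_centralizer_eq [Finite G] [Fact p.Prime] (N : Subgroup G) [N.Normal]
    (hN : (Nat.card N).Coprime p) {P : Subgroup G} (hP : IsPGroup p P) :
    (centralizer (P : Set G)).map (QuotientGroup.mk' N)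
      = centralizer ((P.map (QuotientGroup.mk' N) : Subgroup (G ⧸ N)) : Set (G ⧸ N)) := by
  refine le_antisymm ?_ fun q hq => ?_
  · rw [coe_map]; exact map_centralizer_le_centralizer_image _ _
  · have hq' := centralizer_le_normalizer _ hq
    rw [← map_normalizer_eq N hN hP] at hq'
    obtain ⟨g, hg, rfl⟩ := hq'
    refine ⟨g, mem_centralizer_iff_conj.2 fun x hx => ?_, rfl⟩
    have h1 : g * x * g⁻¹ * x⁻¹ ∈ P := P.mul_mem ((mem_normalizer_iff.1 hg x).1 hx) (P.inv_mem hx)
    have h2 : g * x * g⁻¹ * x⁻¹ ∈ N := by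
      rw [← QuotientGroup.eq_one_iff]
      have := mem_centralizer_iff_conj.1 hq _ ⟨x, hx, rfl⟩
      show QuotientGroup.mk' N (g * x * g⁻¹ * x⁻¹) = 1
      rw [map_mul, map_mul, map_mul, map_inv, map_inv, this, mul_inv_cancel]
    have h3 : g * x * g⁻¹ * x⁻¹ = 1 := by
      obtain ⟨k, hk⟩ := IsPGroup.iff_card.1 hP
      have hd : Disjoint P N := disjoint_of_coprime_natCard (by rw [hk]; exact hN.symm.pow_left k)
      exact disjoint_def.1 hd h1 h2
    exact mul_inv_eq_one.1 h3

theorem mem_centralizer_iff_conj' {S : Set G} {a : G} :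
    a ∈ centralizer S ↔ ∀ v ∈ S, a * v * a⁻¹ = v := mem_centralizer_iff_conj

instance pPrimePCore_normal (p : ℕ) (G : Type*) [Group G] : (pPrimePCore p G).Normal :=
  (normal_pCore p (G ⧸ pPrimeCore p G)).comap _

theorem pPrimeCore_le_pPrimePCore : pPrimeCore p G ≤ pPrimePCore p G :=
  le_of_eq_of_le (QuotientGroup.ker_mk' (pPrimeCore p G)).symm (ker_le_comap _ _)

theorem map_pPrimePCore : (pPrimePCore p G).map (QuotientGroup.mk' (pPrimeCore p G))
    = pCore p (G ⧸ pPrimeCore p G) :=
  map_comap_eq_self_of_surjective (QuotientGroup.mk'_surjective _) _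

theorem pCore_le_pPrimePCore : pCore p G ≤ pPrimePCore p G :=
  map_le_iff_le_comap.1 (map_pCore_le _ (QuotientGroup.mk'_surjective _))

/-- a Sylow subgroup of a normal subgroup between `N` and a `p`-group over it covers it -/
theorem sup_eq_of_coprime_relIndex [Fact p.Prime] {P N U : Subgroup G} [N.Normal] (hP : P ≤ U)
    (hN : N ≤ U) (h1 : ¬ p ∣ P.relIndex U) (h2 : ∃ k, N.relIndex U = p ^ k) : P ⊔ N = U := by
  refine le_antisymm (sup_le hP hN) ?_
  rw [← relIndex_eq_one]
  obtain ⟨k, hk⟩ := h2
  obtain ⟨j, _, hj⟩ := (Nat.dvd_prime_pow (Fact.out : p.Prime)).1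
    (hk ▸ relIndex_dvd_of_le_left U (le_sup_right : N ≤ P ⊔ N))
  rcases Nat.eq_zero_or_pos j with rfl | hj0
  · simpa using hj
  · refine absurd ?_ h1
    exact ((dvd_pow_self p hj0.ne').trans hj.symm.dvd).trans (relIndex_dvd_of_le_left U le_sup_left)

theorem relIndex_pPrimeCore_pPrimePCore [Finite G] [Fact p.Prime] :
    ∃ k, (pPrimeCore p G).relIndex (pPrimePCore p G) = p ^ k := by
  obtain ⟨k, hk⟩ := IsPGroup.iff_card.1 (isPGroup_pCore p (G ⧸ pPrimeCore p G))
  refine ⟨k, ?_⟩
  rw [← hk, ← map_pPrimePCore, ← relIndex_ker, QuotientGroup.ker_mk']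

theorem sylow_sup_pPrimeCore [Finite G] [Fact p.Prime] (P : Sylow p ↥(pPrimePCore p G)) :
    (P : Subgroup ↥(pPrimePCore p G)).map (pPrimePCore p G).subtype ⊔ pPrimeCore p G
      = pPrimePCore p G := by
  refine sup_eq_of_coprime_relIndex (map_subtype_le _) pPrimeCore_le_pPrimePCore ?_
    relIndex_pPrimeCore_pPrimePCore
  rw [relIndex, subgroupOf, comap_map_eq_self_of_injective (subtype_injective _)]
  exact P.not_dvd_index

theorem isPConstrained_iff [Finite G] [Fact p.Prime] :
    IsPConstrained p G ↔ centralizer (pCore p (G ⧸ pPrimeCore p G) : Set (G ⧸ pPrimeCore p G))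
      ≤ pCore p (G ⧸ pPrimeCore p G) := by
  have key : ∀ P : Sylow p ↥(pPrimePCore p G),
      (centralizer (((P : Subgroup ↥(pPrimePCore p G)).map (pPrimePCore p G).subtype : Subgroup G)
        : Set G) ≤ pPrimePCore p G ↔ centralizer (pCore p (G ⧸ pPrimeCore p G) :
          Set (G ⧸ pPrimeCore p G)) ≤ pCore p (G ⧸ pPrimeCore p G)) := by
    intro P
    have hmap : ((P : Subgroup ↥(pPrimePCore p G)).map (pPrimePCore p G).subtype).map
        (QuotientGroup.mk' (pPrimeCore p G)) = pCore p (G ⧸ pPrimeCore p G) := by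
      have h := congrArg (Subgroup.map (QuotientGroup.mk' (pPrimeCore p G))) (sylow_sup_pPrimeCore P)
      rwa [Subgroup.map_sup, map_pPrimePCore, QuotientGroup.map_mk'_self, sup_bot_eq] at h
    conv_rhs => lhs; rw [← hmap, ← map_centralizer_eq _ (coprime_card_pPrimeCore p G) (P.2.map _)]
    rw [map_le_iff_le_comap]
    rfl
  obtain ⟨P₀⟩ : Nonempty (Sylow p ↥(pPrimePCore p G)) := inferInstance
  exact ⟨fun h => (key P₀).1 (h P₀), fun h P => (key P).2 h⟩

/-- transport of `C(O_p) ≤ O_p` along isomorphisms -/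
theorem centralizer_pCore_le_congr {H : Type*} [Group H] (e : G ≃* H)
    (h : centralizer (pCore p G : Set G) ≤ pCore p G) :
    centralizer (pCore p H : Set H) ≤ pCore p H := by
  intro x hx
  have h1 : e.symm x ∈ centralizer (pCore p G : Set G) := by
    rw [mem_centralizer_iff]
    intro y hy
    apply e.injective
    have h2 : e y ∈ pCore p H := by
      rw [← map_equiv_pCore e]; exact ⟨y, hy, rfl⟩
    rw [map_mul, map_mul, e.apply_symm_apply]
    exact mem_centralizer_iff.1 hx _ h2
  rw [← map_equiv_pCore e]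
  exact ⟨e.symm x, h h1, e.apply_symm_apply x⟩

theorem isPConstrained_iff_of_core_bot [Finite G] [Fact p.Prime] (h : pPrimeCore p G = ⊥) :
    IsPConstrained p G ↔ centralizer (pCore p G : Set G) ≤ pCore p G := by
  rw [isPConstrained_iff]
  let e : G ⧸ pPrimeCore p G ≃* G :=
    (QuotientGroup.quotientMulEquivOfEq h).trans QuotientGroup.quotientBot
  exact ⟨centralizer_pCore_le_congr e, centralizer_pCore_le_congr e.symm⟩

theorem isPConstrained_quotient_iff [Finite G] [Fact p.Prime] :
    IsPConstrained p (G ⧸ pPrimeCore p G) ↔ IsPConstrained p G := by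
  rw [isPConstrained_iff_of_core_bot (pPrimeCore_quotient_pPrimeCore p G), isPConstrained_iff]

/-- `p`-solvable groups are `p`-constrained -/
theorem isPConstrained_of_isPSolvable [Finite G] [Fact p.Prime] (h : IsPSolvable p G) :
    IsPConstrained p G :=
  isPConstrained_iff.2
    (centralizer_pCore_le (isPSolvable_quotient h _) (pPrimeCore_quotient_pPrimeCore p G))

theorem pPrimeCore_eq_bot_of_charP [Finite G] [Fact p.Prime]
    (hc : centralizer (pCore p G : Set G) ≤ pCore p G) : pPrimeCore p G = ⊥ := by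
  have h1 : ⁅pCore p G, pPrimeCore p G⁆ = ⊥ := commutator_eq_bot_of_disjoint
    (disjoint_iff.2 (pCore_inf_pPrimeCore Fact.out))
  rw [commutator_eq_bot_iff_le_centralizer, le_centralizer_iff] at h1
  rw [eq_bot_iff, ← pCore_inf_pPrimeCore (G := G) (Fact.out : p.Prime)]
  exact le_inf (h1.trans hc) le_rfl

/-- If `O_{p'}(C(P)) …`: the `A × B` lemma applied inside a group with `C(O_p) ≤ O_p`: a
`p'`-subgroup centralising a `p`-group `P` and `C_{O_p}(P)` is trivial. -/
theorem eq_bot_of_centralizes [Finite G] [Fact p.Prime]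
    (hc : centralizer (pCore p G : Set G) ≤ pCore p G) {P Q : Subgroup G} (hP : IsPGroup p P)
    (hQ : (Nat.card Q).Coprime p) (hPQ : P ≤ centralizer (Q : Set G))
    (hC : pCore p G ⊓ centralizer (P : Set G) ≤ centralizer (Q : Set G)) : Q = ⊥ := by
  have h := pq_lemma hP hQ (isPGroup_pCore p G) hPQ le_normalizer_of_normal le_normalizer_of_normal hC
  obtain ⟨k, hk⟩ := IsPGroup.iff_card.1 (isPGroup_pCore p G)
  have hd : Disjoint Q (pCore p G) := disjoint_of_coprime_natCard (by rw [hk]; exact hQ.pow_right k)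
  exact eq_bot_iff.2 ((le_inf le_rfl (h.trans hc)).trans hd.eq_bot.le)

/-- In a group with `C(O_p) ≤ O_p`, a subgroup `X` containing `C(P)` and normalising the
`p`-group `P` has the same property. -/
theorem centralizer_pCore_le_local [Finite G] [Fact p.Prime]
    (hc : centralizer (pCore p G : Set G) ≤ pCore p G) {P X : Subgroup G} (hP : IsPGroup p P)
    (hCX : centralizer (P : Set G) ≤ X) (hXN : X ≤ normalizer (P : Set G))
    (hPX : P ≤ X ∨ X ≤ centralizer (P : Set G)) :
    pPrimeCore p X = ⊥ ∧ centralizer (pCore p X : Set X) ≤ pCore p X := by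
  set R := pCore p G with hR
  have hRX : R ⊓ centralizer (P : Set G) ≤ X := inf_le_right.trans hCX
  -- `C_R(P)` is a normal `p`-subgroup of `X`
  have hn : ((R ⊓ centralizer (P : Set G)).subgroupOf X).Normal := by
    refine (normal_subgroupOf_iff_le_normalizer hRX).2 ?_
    refine le_trans ?_ inf_normalizer_le_normalizer_inf
    refine le_inf le_normalizer_of_normal (hXN.trans ?_)
    exact le_normalizer_iff.2 fun g hg y hy => (mem_centralizer_iff_conj).2 fun v hv => by
      have h1 : g⁻¹ * v * g ∈ P := (mem_normalizer_iff''.1 hg v).1 hv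
      have h2 := mem_centralizer_iff_conj.1 hy _ h1
      calc g * y * g⁻¹ * v * (g * y * g⁻¹)⁻¹ = g * (y * (g⁻¹ * v * g) * y⁻¹) * g⁻¹ := by group
        _ = v := by rw [h2]; group
  have hRp : (R ⊓ centralizer (P : Set G)).subgroupOf X ≤ pCore p X :=
    le_pCore (((isPGroup_pCore p G).to_le inf_le_left).comap_subtype)
  have hcore : pPrimeCore p X = ⊥ := by
    set L := (pPrimeCore p X).map X.subtype with hL
    have hLc : (Nat.card L).Coprime p :=
      (coprime_card_pPrimeCore p X).coprime_dvd_left (card_map_dvd _ _)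
    have hd : ⁅pCore p X, pPrimeCore p X⁆ = ⊥ :=
      commutator_eq_bot_of_disjoint (disjoint_iff.2 (pCore_inf_pPrimeCore Fact.out))
    rw [commutator_eq_bot_iff_le_centralizer] at hd
    have hcomm : ∀ y : X, y ∈ pCore p X → (y : G) ∈ centralizer (L : Set G) := by
      intro y hy
      rw [mem_centralizer_iff]
      rintro _ ⟨l, hl, rfl⟩
      exact congrArg Subtype.val (mem_centralizer_iff.1 (hd hy) l hl)
    have hP' : P ≤ centralizer (L : Set G) := by
      rcases hPX with h | h
      · have := (normal_subgroupOf_iff_le_normalizer h).2 hXN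
        intro x hx
        refine hcomm ⟨x, h hx⟩ (le_pCore (N := P.subgroupOf X) hP.comap_subtype ?_)
        exact hx
      · rw [le_centralizer_iff]
        exact (map_subtype_le _).trans h
    have hL0 : L = ⊥ := eq_bot_of_centralizes hc hP hLc hP' fun r hr =>
      hcomm ⟨r, hRX hr⟩ (hRp hr)
    exact (map_eq_bot_iff_of_injective _ X.subtype_injective).1 hL0
  refine ⟨hcore, ?_⟩
  set K := centralizer (pCore p X : Set X) with hK
  have hKp : IsPGroup p K := by
    by_contra hnp
    obtain ⟨q, hq, hqp, x, hx⟩ : ∃ q : ℕ, q.Prime ∧ q ≠ p ∧ ∃ x : K, orderOf x = q := by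
      have hne : ¬ ∀ q, q.Prime → q ∣ Nat.card K → q = p := fun hall =>
        hnp (IsPGroup.of_card (n := (Nat.card K).primeFactorsList.length)
          (Nat.eq_prime_pow_of_unique_prime_dvd Nat.card_pos.ne' fun {q} h1 h2 => hall q h1 h2))
      push Not at hne
      obtain ⟨q, hq, hqd, hqp⟩ := hne
      haveI := Fact.mk hq
      exact ⟨q, hq, hqp, exists_prime_orderOf_dvd_card' q hqd⟩
    have hxK : (x : X) ∈ centralizer (pCore p X : Set X) := x.2
    have hord : orderOf ((x : X) : G) = q := by rw [orderOf_coe, orderOf_coe, hx]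
    have hPc : P ≤ centralizer (zpowers ((x : X) : G) : Set G) := by
      rw [le_centralizer_iff, zpowers_le, mem_centralizer_iff]
      intro y hy
      rcases hPX with h | h
      · have := (normal_subgroupOf_iff_le_normalizer h).2 hXN
        exact congrArg Subtype.val (mem_centralizer_iff.1 hxK ⟨y, h hy⟩
          (le_pCore (N := P.subgroupOf X) hP.comap_subtype hy))
      · exact mem_centralizer_iff.1 (h (x : X).2) y hy
    have h0 : zpowers ((x : X) : G) = ⊥ := eq_bot_of_centralizes hc hP
      (by rw [Nat.card_zpowers, hord]; exact (Nat.coprime_primes hq Fact.out).2 hqp) hPc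
      (fun r hr => by
        rw [mem_centralizer_iff]
        intro y hy
        obtain ⟨k, rfl⟩ := mem_zpowers_iff.1 hy
        have hxr : Commute (r : G) ((x : X) : G) :=
          congrArg Subtype.val (mem_centralizer_iff.1 hxK ⟨r, hRX hr⟩ (hRp hr))
        exact ((hxr.zpow_right k).symm).eq)
    rw [zpowers_eq_bot] at h0
    rw [h0, orderOf_one] at hord
    exact hq.ne_one hord.symm
  exact le_pCore hKp

theorem pPrimeCore_map_of_le [Finite G] [Fact p.Prime] {N : Subgroup G} [N.Normal]
    (hN : (Nat.card N).Coprime p) (X : Subgroup G)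
    (h : pPrimeCore p ↥(X.map (QuotientGroup.mk' N)) = ⊥) :
    (pPrimeCore p X).map X.subtype = N ⊓ X := by
  refine le_antisymm ?_ ?_
  · refine le_inf ?_ (map_subtype_le _)
    let f : X →* ↥(X.map (QuotientGroup.mk' N)) := (QuotientGroup.mk' N).subgroupMap X
    have h1 := map_pPrimeCore_le (p := p) f ((QuotientGroup.mk' N).subgroupMap_surjective X)
    rw [h, le_bot_iff, Subgroup.map_eq_bot_iff] at h1
    rintro _ ⟨x, hx, rfl⟩
    have h2 := congrArg Subtype.val (MonoidHom.mem_ker.1 (h1 hx))
    exact (QuotientGroup.eq_one_iff _).1 h2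
  · rintro x ⟨hxN, hxX⟩
    refine ⟨⟨x, hxX⟩, le_pPrimeCore (N := N.subgroupOf X) ?_ hxN, rfl⟩
    exact hN.coprime_dvd_left (card_comap_dvd_of_injective N X.subtype X.subtype_injective)

theorem isPConstrained_of_pPrimeCore_map [Finite G] [Fact p.Prime] {N : Subgroup G} [N.Normal]
    (hN : (Nat.card N).Coprime p) (X : Subgroup G)
    (h : pPrimeCore p ↥(X.map (QuotientGroup.mk' N)) = ⊥ ∧
      centralizer (pCore p ↥(X.map (QuotientGroup.mk' N)) : Set ↥(X.map (QuotientGroup.mk' N)))
        ≤ pCore p ↥(X.map (QuotientGroup.mk' N))) :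
    IsPConstrained p X := by
  rw [isPConstrained_iff]
  let f : X →* ↥(X.map (QuotientGroup.mk' N)) := (QuotientGroup.mk' N).subgroupMap X
  have hker : f.ker = pPrimeCore p X := by
    refine map_injective X.subtype_injective ?_
    rw [pPrimeCore_map_of_le hN X h.1]
    ext x
    simp only [mem_map, MonoidHom.mem_ker, coe_subtype, mem_inf]
    constructor
    · rintro ⟨⟨y, hy⟩, h2, rfl⟩
      exact ⟨(QuotientGroup.eq_one_iff _).1 (congrArg Subtype.val h2), hy⟩
    · rintro ⟨hxN, hxX⟩
      exact ⟨⟨x, hxX⟩, Subtype.ext ((QuotientGroup.eq_one_iff _).2 hxN), rfl⟩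
  exact centralizer_pCore_le_congr ((QuotientGroup.quotientMulEquivOfEq hker).symm.trans
    (QuotientGroup.quotientKerEquivOfSurjective f
      ((QuotientGroup.mk' N).subgroupMap_surjective X))).symm h.2

theorem le_normalizer_centralizer {P : Subgroup G} :
    centralizer (P : Set G) ≤ normalizer (P : Set G) := centralizer_le_normalizer _

/-- S0661 / S0631 in one -/
theorem local_of_pConstrained [Finite G] [Fact p.Prime]
    (hc : centralizer (pCore p (G ⧸ pPrimeCore p G) : Set (G ⧸ pPrimeCore p G))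
      ≤ pCore p (G ⧸ pPrimeCore p G)) {P : Subgroup G} (hP : IsPGroup p P) :
    ((pPrimeCore p ↥(normalizer (P : Set G))).map (normalizer (P : Set G)).subtype
        = pPrimeCore p G ⊓ normalizer (P : Set G)) ∧
      IsPConstrained p ↥(normalizer (P : Set G)) ∧ IsPConstrained p ↥(centralizer (P : Set G)) := by
  have hcop := coprime_card_pPrimeCore p G
  set π := QuotientGroup.mk' (pPrimeCore p G)
  have hPp : IsPGroup p (P.map π) := hP.map _
  have hN : pPrimeCore p ↥((normalizer (P : Set G)).map π) = ⊥ ∧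
      centralizer (pCore p ↥((normalizer (P : Set G)).map π) :
        Set ↥((normalizer (P : Set G)).map π)) ≤ pCore p ↥((normalizer (P : Set G)).map π) := by
    refine centralizer_pCore_le_local hc hPp ?_ ?_ (Or.inl (map_mono le_normalizer))
    · rw [map_normalizer_eq _ hcop hP]; exact centralizer_le_normalizer _
    · rw [map_normalizer_eq _ hcop hP]
  have hC : pPrimeCore p ↥((centralizer (P : Set G)).map π) = ⊥ ∧
      centralizer (pCore p ↥((centralizer (P : Set G)).map π) :
        Set ↥((centralizer (P : Set G)).map π)) ≤ pCore p ↥((centralizer (P : Set G)).map π) := by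
    refine centralizer_pCore_le_local hc hPp ?_ ?_ (Or.inr ?_)
    · rw [map_centralizer_eq _ hcop hP]
    · rw [map_centralizer_eq _ hcop hP]; exact centralizer_le_normalizer _
    · rw [map_centralizer_eq _ hcop hP]
  exact ⟨pPrimeCore_map_of_le hcop _ hN.1, isPConstrained_of_pPrimeCore_map hcop _ hN,
    isPConstrained_of_pPrimeCore_map hcop _ hC⟩

/-- S0629: `p`-constraint from `p`-solvability of the centraliser. -/
theorem isPConstrained_of_centralizer [Finite G] [Fact p.Prime]
    (P : Sylow p ↥(pPrimePCore p G))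
    (hsol : IsPSolvable p ↥(centralizer (((P : Subgroup ↥(pPrimePCore p G)).map
      (pPrimePCore p G).subtype : Subgroup G) : Set G))) : IsPConstrained p G := by
  rw [isPConstrained_iff]
  have hcop := coprime_card_pPrimeCore p G
  set π := QuotientGroup.mk' (pPrimeCore p G) with hπ
  set P₀ := (P : Subgroup ↥(pPrimePCore p G)).map (pPrimePCore p G).subtype with hP₀
  have hmap : P₀.map π = pCore p (G ⧸ pPrimeCore p G) := by
    have h := congrArg (Subgroup.map π) (sylow_sup_pPrimeCore P)
    rwa [Subgroup.map_sup, map_pPrimePCore, hπ, QuotientGroup.map_mk'_self, sup_bot_eq] at h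
  set C := centralizer (pCore p (G ⧸ pPrimeCore p G) : Set (G ⧸ pPrimeCore p G)) with hC
  have hsolC : IsPSolvable p C := by
    have := isPSolvable_of_surjective _ (π.subgroupMap_surjective (centralizer (P₀ : Set G))) hsol
    rw [hC, ← hmap, ← map_centralizer_eq _ hcop (P.2.map _)]
    exact this
  have hCn : C.Normal := hC ▸ normal_centralizer
  have hCO : pPrimeCore p C = ⊥ := (map_eq_bot_iff_of_injective _ C.subtype_injective).1
    (eq_bot_iff.2 ((map_subtype_pPrimeCore_le C).trans
      (pPrimeCore_quotient_pPrimeCore p G).le))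
  have h1 := centralizer_pCore_le hsolC hCO
  intro x hx
  have h2 : (⟨x, hx⟩ : C) ∈ centralizer (pCore p C : Set C) := by
    rw [mem_centralizer_iff]
    intro y hy
    exact Subtype.ext (mem_centralizer_iff.1 hx _ (map_subtype_pCore_le C ⟨y, hy, rfl⟩))
  exact map_subtype_pCore_le C ⟨_, h1 h2, rfl⟩

end CfsgLib.PLocal
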