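import Cfsg.Agent.Lib.PLocal.Quadratic
import Cfsg.Prelude.Def_PLocal
import Mathlib.GroupTheory.SemidirectProduct
import Mathlib.GroupTheory.Nilpotent

/-!
# Thompson replacement and best offenders
-/

set_option autoImplicit false

namespace CfsgLib.PLocal

open Subgroup
open scoped commutatorElement

variable {G : Type*} [Group G]

theorem centralizer_sup (H K : Subgroup G) :
    centralizer ((H ⊔ K : Subgroup G) : Set G)
      = centralizer (H : Set G) ⊓ centralizer (K : Set G) := by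
  refine le_antisymm (le_inf (centralizer_le (SetLike.coe_subset_coe.2 le_sup_left))
    (centralizer_le (SetLike.coe_subset_coe.2 le_sup_right))) ?_
  rw [le_centralizer_iff]
  exact sup_le (le_centralizer_iff.1 inf_le_left) (le_centralizer_iff.1 inf_le_right)

theorem le_centralizer_centralizer_inf (V B : Subgroup G) :
    B ≤ centralizer ((V ⊓ centralizer (B : Set G) : Subgroup G) : Set G) :=
  le_centralizer_iff.1 inf_le_right

theorem inf_centralizer_anti (V : Subgroup G) {B A : Subgroup G} (h : B ≤ A) :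
    V ⊓ centralizer (A : Set G) ≤ V ⊓ centralizer (B : Set G) :=
  inf_le_inf_left _ (centralizer_le (SetLike.coe_subset_coe.2 h))

theorem commutator_le_of_le_normalizer {V A U : Subgroup G}
    (hA : A ≤ normalizer (V : Set G)) (hU : U ≤ V) : ⁅U, A⁆ ≤ V :=
  (commutator_mono hU le_rfl).trans (le_normalizer_iff_commutator_le_left.1 hA)

theorem comm_mem_commutator_swap {U A : Subgroup G} {a u : G} (ha : a ∈ A) (hu : u ∈ U) :
    ⁅a, u⁆ ∈ ⁅U, A⁆ := by
  rw [commutator_comm]; exact commutator_mem_commutator ha hu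

theorem commutator_sup_left {V A U₁ U₂ : Subgroup G} (hV : IsMulCommutative V)
    (hA : A ≤ normalizer (V : Set G)) (h₁ : U₁ ≤ V) (h₂ : U₂ ≤ V) :
    ⁅U₁ ⊔ U₂, A⁆ = ⁅U₁, A⁆ ⊔ ⁅U₂, A⁆ := by
  refine le_antisymm ?_ (sup_le (commutator_mono le_sup_left le_rfl)
    (commutator_mono le_sup_right le_rfl))
  rw [commutator_comm, commutator_le]
  intro a ha u hu
  have hn : U₁ ≤ normalizer (U₂ : Set G) :=
    le_normalizer_iff.2 fun x hx y hy => by
      rw [comm_of_mem hV (h₁ hx) (h₂ hy), mul_inv_cancel_right]; exact hy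
  rw [← SetLike.mem_coe, coe_mul_of_left_le_normalizer_right U₁ U₂ hn] at hu
  obtain ⟨x, hx, y, hy, rfl⟩ := hu
  rw [comm_mul_right' hV hA ha (h₁ hx) (h₂ hy)]
  exact mul_mem_sup (comm_mem_commutator_swap ha hx) (comm_mem_commutator_swap ha hy)

theorem commutator_zpowers_left {V A : Subgroup G} (hV : IsMulCommutative V)
    (hA : A ≤ normalizer (V : Set G)) {u : G} (hu : u ∈ V) :
    ⁅zpowers u, A⁆ = closure {x | ∃ a ∈ A, x = ⁅a, u⁆} := by
  refine le_antisymm ?_ ((closure_le _).2 ?_)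
  · rw [commutator_comm, commutator_le]
    intro a ha w hw
    obtain ⟨k, rfl⟩ := mem_zpowers_iff.1 hw
    have h : ⁅a, u ^ k⁆ = ⁅a, u⁆ ^ k := by
      have := map_zpow (commHom hV (hA ha)) (⟨u, hu⟩ : V) k
      have h' := congrArg Subtype.val this
      simpa [commHom] using h'
    rw [h]
    refine Subgroup.zpow_mem _ ?_ k
    exact Subgroup.subset_closure ⟨a, ha, rfl⟩
  · rintro _ ⟨a, ha, rfl⟩
    exact comm_mem_commutator_swap ha (mem_zpowers u)

/-- For `A` abelian modulo `C(V)` the double commutators are symmetric. -/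
theorem comm_comm_symm {V A : Subgroup G} (hV : IsMulCommutative V)
    (hA : A ≤ normalizer (V : Set G)) (hab : ⁅A, A⁆ ≤ centralizer (V : Set G)) {a b u : G}
    (ha : a ∈ A) (hb : b ∈ A) (hu : u ∈ V) : ⁅b, ⁅a, u⁆⁆ = ⁅a, ⁅b, u⁆⁆ := by
  have e : b * (a * u * a⁻¹) * b⁻¹ = a * (b * u * b⁻¹) * a⁻¹ := by
    have hc := mem_centralizer_iff_conj.1 (hab (commutator_mem_commutator hb ha))
    have := hc _ (conj_mem hA (A.mul_mem ha hb) hu)
    rw [commutatorElement_def] at this
    calc b * (a * u * a⁻¹) * b⁻¹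
        = b * a * b⁻¹ * a⁻¹ * (a * b * u * (a * b)⁻¹) * (b * a * b⁻¹ * a⁻¹)⁻¹ := by group
      _ = a * b * u * (a * b)⁻¹ := this
      _ = a * (b * u * b⁻¹) * a⁻¹ := by group
  have h1 : ∀ x y : G, ∀ _ : x ∈ A, ∀ _ : y ∈ A,
      ⁅x, ⁅y, u⁆⁆ = (x * (y * u * y⁻¹) * x⁻¹ * u) * ((x * u * x⁻¹)⁻¹ * (y * u * y⁻¹)⁻¹) := by
    intro x y hx hy
    have A1 := conj_mem hA hx (conj_mem hA hy hu)
    have A2 := conj_mem hA hx hu
    have A3 := conj_mem hA hy hu
    have c1 := comm_of_mem hV hu (V.inv_mem A2)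
    have c2 := comm_of_mem hV (V.inv_mem A3) (V.mul_mem (V.inv_mem A2) hu)
    calc ⁅x, ⁅y, u⁆⁆ = x * (y * u * y⁻¹) * x⁻¹ * ((x * u * x⁻¹)⁻¹ * u) * (y * u * y⁻¹)⁻¹ := by
          simp only [commutatorElement_def]; group
      _ = _ := by rw [← c1]; simp only [mul_assoc]
  rw [h1 b a hb ha, h1 a b ha hb, e,
    comm_of_mem hV (V.inv_mem (conj_mem hA hb hu)) (V.inv_mem (conj_mem hA ha hu))]

/-- `C_A(W)` with `W ≤ V` is normalised by `A` when `A` is abelian modulo `C(V)`. -/
theorem inf_centralizer_normalized {V A W : Subgroup G}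
    (hab : ⁅A, A⁆ ≤ centralizer (V : Set G)) (hW : W ≤ V) :
    A ≤ normalizer ((A ⊓ centralizer (W : Set G) : Subgroup G) : Set G) := by
  refine le_normalizer_iff.2 fun a ha k hk => ?_
  have h1 : ⁅a, k⁆ ∈ A ⊓ centralizer (W : Set G) :=
    ⟨commutator_le_self A (commutator_mem_commutator ha hk.1),
      centralizer_le (SetLike.coe_subset_coe.2 hW) (hab (commutator_mem_commutator ha hk.1))⟩
  have h2 := mul_mem h1 hk
  rwa [commutatorElement_def, inv_mul_cancel_right] at h2

/-- Thompson replacement for one element. -/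
theorem replacement_step [Finite G] {V A : Subgroup G} (hV : IsMulCommutative V)
    (hA : A ≤ normalizer (V : Set G)) (hab : ⁅A, A⁆ ≤ centralizer (V : Set G))
    {u : G} (hu : u ∈ V) :
    Nat.card A * Nat.card ↥(V ⊓ centralizer (A : Set G))
      ≤ Nat.card ↥(A ⊓ centralizer ((⁅zpowers u, A⁆ : Subgroup G) : Set G)) *
          Nat.card ↥(⁅zpowers u, A⁆ ⊔ (V ⊓ centralizer (A : Set G))) := by
  classical
  set W := ⁅zpowers u, A⁆ with hW
  set B := A ⊓ centralizer (W : Set G) with hB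
  set C := V ⊓ centralizer (A : Set G) with hC
  let f : A → ↥(W ⊔ C) ⧸ C.subgroupOf (W ⊔ C) := fun a =>
    QuotientGroup.mk ⟨⁅(a : G), u⁆,
      (le_sup_left : W ≤ W ⊔ C) (comm_mem_commutator_swap a.2 (mem_zpowers u))⟩
  have key : ∀ a a' : A, f a = f a' → (a : G)⁻¹ * a' ∈ B := by
    intro a a' h
    refine ⟨A.mul_mem (A.inv_mem a.2) a'.2, ?_⟩
    rw [QuotientGroup.eq] at h
    have hq : ⁅(a : G), u⁆⁻¹ * ⁅(a' : G), u⁆ ∈ C := h
    show (a : G)⁻¹ * a' ∈ centralizer (W : Set G)
    rw [hW, commutator_zpowers_left hV hA hu, centralizer_closure, mem_centralizer_iff_conj]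
    rintro _ ⟨b, hb, rfl⟩
    set w := ⁅b, u⁆
    have hfix : b * (⁅(a : G), u⁆⁻¹ * ⁅(a' : G), u⁆) * b⁻¹ = ⁅(a : G), u⁆⁻¹ * ⁅(a' : G), u⁆ :=
      mem_centralizer_iff_conj.1 (le_centralizer_centralizer_inf V A hb) _ hq
    have eq2 : ⁅b, ⁅(a : G), u⁆⁆ = ⁅b, ⁅(a' : G), u⁆⁆ := by
      have hx := comm_mem hA a.2 hu
      have hy := comm_mem hA a'.2 hu
      have := comm_mul_right' hV hA hb hx (V.mul_mem (V.inv_mem hx) hy)
      rw [mul_inv_cancel_left, comm_eq_one_iff_conj.2 hfix, mul_one] at this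
      exact this.symm
    rw [comm_comm_symm hV hA hab a.2 hb hu, comm_comm_symm hV hA hab a'.2 hb hu,
      commutatorElement_def, commutatorElement_def] at eq2
    have eq3 : (a : G) * w * (a : G)⁻¹ = a' * w * (a' : G)⁻¹ := mul_right_cancel eq2
    calc (a : G)⁻¹ * a' * w * ((a : G)⁻¹ * a')⁻¹
        = (a : G)⁻¹ * (a' * w * (a' : G)⁻¹) * a := by group
      _ = (a : G)⁻¹ * (a * w * (a : G)⁻¹) * a := by rw [eq3]
      _ = w := by group
  have hinj : Function.Injective fun q : A ⧸ B.subgroupOf A => f q.out := by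
    intro q q' h
    rw [← QuotientGroup.out_eq' q, ← QuotientGroup.out_eq' q', QuotientGroup.eq]
    exact key _ _ h
  have hidx : (B.subgroupOf A).index ≤ (C.subgroupOf (W ⊔ C)).index :=
    Nat.card_le_card_of_injective _ hinj
  have h1 : Nat.card ↥(B.subgroupOf A) * (B.subgroupOf A).index = Nat.card A := card_mul_index _
  have h2 : Nat.card ↥(C.subgroupOf (W ⊔ C)) * (C.subgroupOf (W ⊔ C)).index
      = Nat.card ↥(W ⊔ C) := card_mul_index _
  rw [Nat.card_congr (subgroupOfEquivOfLe (inf_le_left : B ≤ A)).toEquiv] at h1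
  rw [Nat.card_congr (subgroupOfEquivOfLe (le_sup_right : C ≤ W ⊔ C)).toEquiv] at h2
  rw [← h1, ← h2]
  calc Nat.card B * (B.subgroupOf A).index * Nat.card C
      ≤ Nat.card B * (C.subgroupOf (W ⊔ C)).index * Nat.card C :=
        Nat.mul_le_mul_right _ (Nat.mul_le_mul_left _ hidx)
    _ = Nat.card B * (Nat.card C * (C.subgroupOf (W ⊔ C)).index) := by ring

/-- `m(B) = |B| |C_V(B)|` -/
noncomputable def offMeasure (V B : Subgroup G) : ℕ :=
  Nat.card B * Nat.card ↥(V ⊓ centralizer (B : Set G))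

theorem sup_le_cv {V A W : Subgroup G} (hW : W ≤ V) :
    W ⊔ (V ⊓ centralizer (A : Set G)) ≤
      V ⊓ centralizer ((A ⊓ centralizer (W : Set G) : Subgroup G) : Set G) :=
  sup_le (le_inf hW (le_centralizer_iff.1 inf_le_right)) (inf_centralizer_anti V inf_le_left)

/-- Thompson replacement: either some subgroup of `A` beats `A`, or `C_A([U,A])` ties with it. -/
theorem thompson_replacement [Finite G] {V A : Subgroup G} (hV : IsMulCommutative V)
    (hA : A ≤ normalizer (V : Set G)) (hab : ⁅A, A⁆ ≤ centralizer (V : Set G))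
    (hbest : ∀ B : Subgroup G, B ≤ A → offMeasure V B ≤ offMeasure V A) :
    ∀ U : Subgroup G, U ≤ V →
      offMeasure V (A ⊓ centralizer ((⁅U, A⁆ : Subgroup G) : Set G)) = offMeasure V A ∧
      V ⊓ centralizer ((A ⊓ centralizer ((⁅U, A⁆ : Subgroup G) : Set G) : Subgroup G) : Set G)
        = ⁅U, A⁆ ⊔ (V ⊓ centralizer (A : Set G)) := by
  intro U hU
  induction hn : Nat.card U using Nat.strong_induction_on generalizing U with
  | _ n ih =>
    set C := V ⊓ centralizer (A : Set G) with hC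
    -- case 1: `U` cyclic
    by_cases hcyc : ∃ u ∈ U, zpowers u = U
    · obtain ⟨u, hu, hUu⟩ := hcyc
      subst hUu
      set W := ⁅zpowers u, A⁆ with hW
      set B := A ⊓ centralizer (W : Set G) with hB
      have hWV : W ≤ V := commutator_le_of_le_normalizer hA hU
      have hX := sup_le_cv (A := A) hWV
      have h1 : offMeasure V A ≤ Nat.card B * Nat.card ↥(W ⊔ C) :=
        replacement_step hV hA hab (hU hu)
      have h2 : Nat.card B * Nat.card ↥(W ⊔ C) ≤ offMeasure V B :=
        Nat.mul_le_mul_left _ (card_le_of_le hX)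
      have h3 := hbest B inf_le_left
      refine ⟨by omega, (eq_of_le_of_card_ge hX ?_).symm⟩
      refine Nat.le_of_mul_le_mul_left ?_ (Nat.card_pos (α := B))
      exact h3.trans h1
    · -- case 2: split
      push Not at hcyc
      obtain ⟨M, hM, hMco⟩ : ∃ M : Subgroup G, M < U ∧ ∀ M', M < M' → M' ≤ U → M' = U := by
        have hne : ({M : Subgroup G | M < U}).Nonempty := by
          refine ⟨⊥, show (⊥ : Subgroup G) < U from bot_lt_iff_ne_bot.2 fun h => hcyc 1 U.one_mem ?_⟩
          rw [h, zpowers_one_eq_bot]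
        obtain ⟨M, hM⟩ := (Set.toFinite {M : Subgroup G | M < U}).exists_maximal hne
        refine ⟨M, hM.prop, fun M' h1 h2 => ?_⟩
        by_contra h3
        exact h1.not_ge (hM.le_of_ge (lt_of_le_of_ne h2 h3) h1.le)
      obtain ⟨u, huU, huM⟩ := Set.exists_of_ssubset (SetLike.coe_ssubset_coe.2 hM)
      have hsup : M ⊔ zpowers u = U := by
        refine hMco _ (lt_of_le_of_ne le_sup_left fun h => huM ?_)
          (sup_le hM.le (zpowers_le.2 huU))
        exact h ▸ (le_sup_right : zpowers u ≤ _) (mem_zpowers u)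
      have hz : zpowers u < U :=
        lt_of_le_of_ne (zpowers_le.2 huU) (hcyc u huU)
      obtain ⟨e1, c1⟩ := ih _ (hn ▸ Set.Finite.card_lt_card (Set.toFinite _) (SetLike.coe_ssubset_coe.2 hM))
        M (hM.le.trans hU) rfl
      obtain ⟨e2, c2⟩ := ih _ (hn ▸ Set.Finite.card_lt_card (Set.toFinite _) (SetLike.coe_ssubset_coe.2 hz))
        (zpowers u) (hz.le.trans hU) rfl
      have hW : ⁅U, A⁆ = ⁅M, A⁆ ⊔ ⁅zpowers u, A⁆ := by
        rw [← hsup, commutator_sup_left hV hA (hM.le.trans hU) (hz.le.trans hU)]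
      set W1 := ⁅M, A⁆
      set W2 := ⁅zpowers u, A⁆
      have hW1 : W1 ≤ V := commutator_le_of_le_normalizer hA (hM.le.trans hU)
      have hW2 : W2 ≤ V := commutator_le_of_le_normalizer hA (hz.le.trans hU)
      set B1 := A ⊓ centralizer (W1 : Set G) with hB1
      set B2 := A ⊓ centralizer (W2 : Set G) with hB2
      rw [hW]
      have hBeq : A ⊓ centralizer ((W1 ⊔ W2 : Subgroup G) : Set G) = B1 ⊓ B2 := by
        rw [centralizer_sup, hB1, hB2, inf_inf_distrib_left]
      have hsub : (W1 ⊔ W2) ⊔ C ≤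
          V ⊓ centralizer ((A ⊓ centralizer ((W1 ⊔ W2 : Subgroup G) : Set G) : Subgroup G) : Set G) :=
        sup_le_cv (sup_le hW1 hW2)
      have hjoin : (V ⊓ centralizer (B1 : Set G)) ⊔ (V ⊓ centralizer (B2 : Set G))
          = (W1 ⊔ W2) ⊔ C := by
        rw [c1, c2, sup_sup_sup_comm, sup_idem]
      have hmeet : (V ⊓ centralizer (B1 : Set G)) ⊓ (V ⊓ centralizer (B2 : Set G))
          = V ⊓ centralizer ((B1 ⊔ B2 : Subgroup G) : Set G) := by
        rw [centralizer_sup]
        exact (inf_inf_distrib_left ..).symm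
      have hBn : B1 ≤ normalizer (B2 : Set G) :=
        inf_le_left.trans (inf_centralizer_normalized hab hW2)
      have hVn : V ⊓ centralizer (B1 : Set G)
          ≤ normalizer ((V ⊓ centralizer (B2 : Set G) : Subgroup G) : Set G) :=
        le_normalizer_iff.2 fun x hx y hy => by
          rw [comm_of_mem hV hx.1 hy.1, mul_inv_cancel_right]; exact hy
      have p1 := card_sup_mul_card_inf _ _ hBn
      have p2 := card_sup_mul_card_inf _ _ hVn
      rw [hjoin, hmeet] at p2
      set B := A ⊓ centralizer ((W1 ⊔ W2 : Subgroup G) : Set G) with hB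
      rw [← hBeq] at p1
      have h12 := hbest (B1 ⊔ B2) (sup_le inf_le_left inf_le_left)
      have hB0 := hbest B inf_le_left
      -- `m(B1) m(B2) = m(B1 ⊔ B2) * |B| |W ⊔ C|`
      have prodEq : offMeasure V B1 * offMeasure V B2
          = offMeasure V (B1 ⊔ B2) * (Nat.card B * Nat.card ↥((W1 ⊔ W2) ⊔ C)) := by
        unfold offMeasure
        calc Nat.card B1 * Nat.card ↥(V ⊓ centralizer (B1 : Set G)) *
              (Nat.card B2 * Nat.card ↥(V ⊓ centralizer (B2 : Set G)))
            = (Nat.card B1 * Nat.card B2) * (Nat.card ↥(V ⊓ centralizer (B1 : Set G)) *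
              Nat.card ↥(V ⊓ centralizer (B2 : Set G))) := by ring
          _ = _ := by rw [p1, p2]; ring
      rw [e1, e2] at prodEq
      have hpos : 0 < offMeasure V A := Nat.mul_pos Nat.card_pos Nat.card_pos
      have h4 : Nat.card B * Nat.card ↥((W1 ⊔ W2) ⊔ C) ≤ offMeasure V B :=
        Nat.mul_le_mul_left _ (card_le_of_le hsub)
      have h5 : offMeasure V A ≤ Nat.card B * Nat.card ↥((W1 ⊔ W2) ⊔ C) := by
        refine Nat.le_of_mul_le_mul_left ?_ hpos
        rw [prodEq]
        exact Nat.mul_le_mul_right _ h12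
      refine ⟨by omega, (eq_of_le_of_card_ge hsub ?_).symm⟩
      refine Nat.le_of_mul_le_mul_left ?_ (Nat.card_pos (α := B))
      exact hB0.trans h5

end CfsgLib.PLocal

namespace CfsgLib.PLocal

open Subgroup
open scoped commutatorElement

variable {G : Type*} [Group G] {p : ℕ}

theorem bestOffender_of_tie {V A B : Subgroup G} (hA : Cfsg.IsBestOffenderOn p V A) (hB : B ≤ A)
    (h : offMeasure V B = offMeasure V A) : Cfsg.IsBestOffenderOn p V B := by
  refine ⟨fun C hC => ?_, (commutator_mono hB hB).trans hA.2.1, fun a ha => hA.2.2 a (hB ha)⟩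
  have := hA.1 C (hC.trans hB)
  unfold offMeasure at h
  omega

/-- A subgroup `W ≤ V` with `W ≤ [W, A]` is trivial when `A` acts on the `p`-group `V` as a
`p`-group. -/
theorem eq_bot_of_le_commutator [Finite G] [Fact p.Prime] {V A W : Subgroup G}
    (hV : IsPGroup p V) (hA : A ≤ normalizer (V : Set G))
    (hAp : ∀ a ∈ A, ∃ k : ℕ, a ^ p ^ k ∈ centralizer (V : Set G)) (hW : W ≤ V)
    (h : W ≤ ⁅W, A⁆) : W = ⊥ := by
  let φ : A →* MulAut V := V.normalizerMonoidHom.comp (Subgroup.inclusion hA)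
  have hP : IsPGroup p φ.range := by
    rintro ⟨_, a, rfl⟩
    obtain ⟨k, hk⟩ := hAp a a.2
    refine ⟨k, Subtype.ext ?_⟩
    show φ a ^ p ^ k = 1
    rw [← map_pow]
    show V.normalizerMonoidHom (Subgroup.inclusion hA (a ^ p ^ k)) = 1
    rw [← MonoidHom.mem_ker, normalizerMonoidHom_ker, mem_subgroupOf]
    simpa using hk
  have hcard : IsPGroup p (SemidirectProduct V φ.range φ.range.subtype) := by
    obtain ⟨m, hm⟩ := IsPGroup.iff_card.1 hV
    obtain ⟨n, hn⟩ := IsPGroup.iff_card.1 hP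
    exact IsPGroup.of_card (n := m + n) (by rw [SemidirectProduct.card, hm, hn, pow_add])
  have : Finite (SemidirectProduct V φ.range φ.range.subtype) :=
    Finite.of_equiv _ SemidirectProduct.equivProd.symm
  have := hcard.isNilpotent
  have hstep : ∀ n : ℕ, W ≤ (((⊤ : Subgroup (SemidirectProduct V φ.range φ.range.subtype)).lowerCentralSeries
      n).comap SemidirectProduct.inl).map V.subtype := by
    intro n
    induction n with
    | zero => intro w hw; exact ⟨⟨w, hW hw⟩, by simp, rfl⟩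
    | succ n ih =>
      refine h.trans (commutator_le.2 fun w hw a ha => ?_)
      obtain ⟨v, hv, hvw⟩ := ih hw
      let r : φ.range := ⟨φ ⟨a, ha⟩, _, rfl⟩
      refine ⟨v * (φ ⟨a, ha⟩ v)⁻¹, ?_, ?_⟩
      · have hm : ⁅SemidirectProduct.inl v, SemidirectProduct.inr r⁆ ∈
            (⊤ : Subgroup (SemidirectProduct V φ.range φ.range.subtype)).lowerCentralSeries
              (n + 1) :=
          commutator_mem_commutator hv (mem_top _)
        have he : (SemidirectProduct.inl (v * (φ ⟨a, ha⟩ v)⁻¹) :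
            SemidirectProduct V φ.range φ.range.subtype)
            = ⁅(SemidirectProduct.inl v : SemidirectProduct V φ.range φ.range.subtype), SemidirectProduct.inr r⁆ := by
          rw [map_mul, map_inv, show φ ⟨a, ha⟩ v = φ.range.subtype r v from rfl,
            SemidirectProduct.inl_aut, commutatorElement_def, map_inv SemidirectProduct.inr]
          group
        rw [SetLike.mem_coe, mem_comap, he]; exact hm
      · subst hvw
        show (v : G) * (a * v * a⁻¹)⁻¹ = ⁅(v : G), a⁆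
        rw [commutatorElement_def]; group
  obtain ⟨n, hn⟩ := Subgroup.nilpotent_iff_lowerCentralSeries.1 this
  rw [eq_bot_iff]
  refine (hstep n).trans ?_
  rw [hn]
  rintro _ ⟨v, hv, rfl⟩
  have hv1 : (SemidirectProduct.inl v : SemidirectProduct V φ.range φ.range.subtype) = 1 := hv
  rw [mem_bot]
  have : v = 1 := SemidirectProduct.inl_injective (hv1.trans (map_one _).symm)
  simp [this]

theorem isPGroup_of_elementary {V : Subgroup G} (hV : Cfsg.IsElementaryAbelian p V) :
    IsPGroup p V := fun v => ⟨1, Subtype.ext (by simpa using hV.2 v v.2)⟩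

/-- Timmesfeld replacement. -/
theorem timmesfeld [Finite G] [Fact p.Prime] {V A U : Subgroup G}
    (hV : Cfsg.IsElementaryAbelian p V) (hAV : A ≤ normalizer (V : Set G))
    (hA : Cfsg.IsBestOffenderOn p V A) (hU : U ≤ V) :
    Cfsg.IsBestOffenderOn p V (A ⊓ centralizer ((⁅U, A⁆ : Subgroup G) : Set G)) ∧
      V ⊓ centralizer ((A ⊓ centralizer ((⁅U, A⁆ : Subgroup G) : Set G) : Subgroup G) : Set G)
        = ⁅U, A⁆ ⊔ (V ⊓ centralizer (A : Set G)) ∧
      (⁅V, A⁆ ≠ ⊥ → ⁅V, A ⊓ centralizer ((⁅U, A⁆ : Subgroup G) : Set G)⁆ ≠ ⊥) := by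
  obtain ⟨h1, h2⟩ := thompson_replacement hV.1 hAV hA.2.1 hA.1 U hU
  refine ⟨bestOffender_of_tie hA inf_le_left h1, h2, fun hne hbot => hne ?_⟩
  refine eq_bot_of_le_commutator (isPGroup_of_elementary hV) hAV
    (fun a ha => ⟨1, by simpa using hA.2.2 a ha⟩) (commutator_le_of_le_normalizer hAV le_rfl) ?_
  have hV' : V ≤ ⁅V, A⁆ ⊔ (V ⊓ centralizer (A : Set G)) := by
    have h3 := commutator_eq_bot_iff_le_centralizer.1 hbot
    rw [inf_eq_left.2 h3] at h2
    exact h2.le.trans (sup_le_sup_right (commutator_mono hU le_rfl) _)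
  have hW : ⁅V, A⁆ ≤ V := commutator_le_of_le_normalizer hAV le_rfl
  calc ⁅V, A⁆ ≤ ⁅⁅V, A⁆ ⊔ (V ⊓ centralizer (A : Set G)), A⁆ := commutator_mono hV' le_rfl
    _ = ⁅⁅V, A⁆, A⁆ ⊔ ⁅V ⊓ centralizer (A : Set G), A⁆ :=
        commutator_sup_left hV.1 hAV hW inf_le_left
    _ ≤ ⁅⁅V, A⁆, A⁆ := by
        rw [commutator_eq_bot_iff_le_centralizer.2 inf_le_right, sup_bot_eq]

theorem elementary_mono {A B : Subgroup G} (hA : Cfsg.IsElementaryAbelian p A) (h : B ≤ A) :
    Cfsg.IsElementaryAbelian p B :=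
  ⟨Subgroup.le_centralizer_iff_isMulCommutative.1 fun x hx =>
    mem_centralizer_iff.2 fun y hy => comm_of_mem hA.1 (h hy) (h hx),
   fun a ha => hA.2 a (h ha)⟩

/-- join of two commuting elementary abelian subgroups -/
theorem elementary_sup {A B : Subgroup G} (hA : Cfsg.IsElementaryAbelian p A)
    (hB : Cfsg.IsElementaryAbelian p B) (h : A ≤ centralizer (B : Set G)) :
    Cfsg.IsElementaryAbelian p (A ⊔ B : Subgroup G) := by
  have h' := Subgroup.le_centralizer_iff.1 h
  refine ⟨Subgroup.le_centralizer_iff_isMulCommutative.1 ?_, fun x hx => ?_⟩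
  · rw [centralizer_sup]
    have hA' := Subgroup.le_centralizer_iff_isMulCommutative.2 hA.1
    have hB' := Subgroup.le_centralizer_iff_isMulCommutative.2 hB.1
    exact le_inf (sup_le hA' h') (sup_le h hB')
  · rw [← SetLike.mem_coe,
      coe_mul_of_left_le_normalizer_right A B (h.trans (centralizer_le_normalizer _))] at hx
    obtain ⟨a, ha, b, hb, rfl⟩ := hx
    have hc : Commute a b := (mem_centralizer_iff.1 (h ha) b hb).symm
    rw [hc.mul_pow, hA.2 a ha, hB.2 b hb, one_mul]

theorem maxElementary_card {A B : Subgroup G} (hA : A ∈ Cfsg.maxElementaryAbelianSubgroups p G)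
    (hB : Cfsg.IsElementaryAbelian p B) : Nat.card B ≤ Nat.card A := hA.2 B hB

theorem bestOffender_of_maxElementary [Finite G] {V A : Subgroup G} [V.Normal]
    (hV : Cfsg.IsElementaryAbelian p V) (hA : A ∈ Cfsg.maxElementaryAbelianSubgroups p G) :
    Cfsg.IsBestOffenderOn p V A := by
  refine ⟨fun B hB => ?_, ?_, fun a ha => ?_⟩
  · set W := V ⊓ centralizer (B : Set G)
    have hBW : B ≤ centralizer (W : Set G) := le_centralizer_centralizer_inf V B
    have hel := elementary_sup (elementary_mono hA.1 hB) (elementary_mono hV inf_le_left) hBW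
    have h1 := card_sup_mul_card_inf B W (hBW.trans (centralizer_le_normalizer _))
    rw [h1]
    refine Nat.mul_le_mul (hA.2 _ hel) (card_le_of_le ?_)
    refine le_inf (inf_le_right.trans inf_le_left) (fun x hx => ?_)
    exact Subgroup.le_centralizer_iff_isMulCommutative.2 hA.1.1 (hB hx.1)
  · rw [(commutator_self_eq_bot_iff (H := A)).2 hA.1.1]; exact bot_le
  · rw [hA.1.2 a ha]; exact one_mem _

/-- Thompson replacement for the elementary abelian subgroups of largest order. -/
theorem thompson_replacement_max [Finite G] [Fact p.Prime] {V A : Subgroup G} [V.Normal]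
    (hV : Cfsg.IsElementaryAbelian p V) (hA : A ∈ Cfsg.maxElementaryAbelianSubgroups p G) :
    (⁅V, A⁆ ⊔ (A ⊓ centralizer ((⁅V, A⁆ : Subgroup G) : Set G))) ∈
        Cfsg.maxElementaryAbelianSubgroups p G ∧
      ⁅⁅V, ⁅V, A⁆ ⊔ (A ⊓ centralizer ((⁅V, A⁆ : Subgroup G) : Set G))⁆,
        ⁅V, A⁆ ⊔ (A ⊓ centralizer ((⁅V, A⁆ : Subgroup G) : Set G))⁆ = ⊥ ∧
      (⁅V, A⁆ ≠ ⊥ →
        ⁅V, ⁅V, A⁆ ⊔ (A ⊓ centralizer ((⁅V, A⁆ : Subgroup G) : Set G))⁆ ≠ ⊥) := by
  have hAV : A ≤ normalizer (V : Set G) := le_normalizer_of_normal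
  have hbest := bestOffender_of_maxElementary hV hA
  obtain ⟨h1, h2⟩ := thompson_replacement hV.1 hAV hbest.2.1 hbest.1 V le_rfl
  obtain ⟨_, _, hne⟩ := timmesfeld hV hAV hbest (le_refl V)
  set W := ⁅V, A⁆ with hW
  set B := A ⊓ centralizer (W : Set G) with hB
  set C := V ⊓ centralizer (A : Set G) with hC
  have hWV : W ≤ V := commutator_le_of_le_normalizer hAV le_rfl
  -- `C ≤ A` by maximality
  have hCA : C ≤ A := by
    have hel := elementary_sup hA.1 (elementary_mono hV (inf_le_left : C ≤ V))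
      (le_centralizer_centralizer_inf V A)
    have := eq_of_le_of_card_ge (le_sup_left : A ≤ A ⊔ C) (hA.2 _ hel)
    exact (le_sup_right : C ≤ A ⊔ C).trans this.ge
  have hCB : C ≤ B := by
    refine le_inf hCA ?_
    intro x hx
    exact centralizer_le (SetLike.coe_subset_coe.2 hWV)
      (Subgroup.le_centralizer_iff_isMulCommutative.2 hV.1 hx.1)
  have hBV : B ⊓ V = C := by
    refine le_antisymm (le_inf inf_le_right fun x hx => ?_) (le_inf hCB inf_le_left)
    exact Subgroup.le_centralizer_iff_isMulCommutative.2 hA.1.1 hx.1.1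
  have hSeq : W ⊔ B = B ⊔ (W ⊔ C) := by
    rw [sup_comm W B, sup_comm W C, ← sup_assoc, sup_eq_left.2 hCB]
  have hBW : B ≤ centralizer ((W ⊔ C : Subgroup G) : Set G) := by
    rw [centralizer_sup]
    exact le_inf inf_le_right (inf_le_left.trans (le_centralizer_centralizer_inf V A))
  have hel : Cfsg.IsElementaryAbelian p (W ⊔ B : Subgroup G) := by
    rw [hSeq]
    exact elementary_sup (elementary_mono hA.1 inf_le_left)
      (elementary_mono hV (sup_le hWV inf_le_left)) hBW
  have hWC : B ⊓ (W ⊔ C) = C :=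
    le_antisymm ((inf_le_inf_left _ (sup_le hWV inf_le_left)).trans hBV.le)
      (le_inf hCB le_sup_right)
  have hcard : Nat.card ↥(W ⊔ B : Subgroup G) = Nat.card A := by
    have h3 := card_sup_mul_card_inf B (W ⊔ C) (hBW.trans (centralizer_le_normalizer _))
    rw [← hSeq, hWC] at h3
    have h4 : Nat.card B * Nat.card ↥(W ⊔ C) = Nat.card A * Nat.card C := by
      unfold offMeasure at h1
      rw [h2] at h1
      exact h1
    exact Nat.eq_of_mul_eq_mul_right (Nat.card_pos (α := C)) (h3.symm.trans h4)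
  refine ⟨⟨hel, fun D hD => hcard ▸ hA.2 D hD⟩, ?_, fun h hbot => hne h ?_⟩
  · have hle : ⁅V, W ⊔ B⁆ ≤ W := by
      rw [commutator_comm, commutator_le]
      intro x hx v hv
      rw [← SetLike.mem_coe, sup_comm W B, coe_mul_of_left_le_normalizer_right B W
        (inf_le_right.trans (centralizer_le_normalizer _))] at hx
      obtain ⟨b, hb, w, hw, rfl⟩ := hx
      rw [comm_mul_left']
      have hwv : ⁅w, v⁆ = 1 :=
        commutatorElement_eq_one_iff_mul_comm.2 (comm_of_mem hV.1 (hWV hw) hv)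
      rw [hwv]
      simpa using comm_mem_commutator_swap hb.1 hv
    refine eq_bot_iff.2 ((commutator_mono hle le_rfl).trans ?_)
    rw [le_bot_iff, commutator_eq_bot_iff_le_centralizer, centralizer_sup]
    exact le_inf (fun x hx => centralizer_le (SetLike.coe_subset_coe.2 hWV)
      (Subgroup.le_centralizer_iff_isMulCommutative.2 hV.1 (hWV hx)))
      (Subgroup.le_centralizer_iff.1 inf_le_right)
  · exact eq_bot_iff.2 ((commutator_mono le_rfl (le_sup_right : B ≤ W ⊔ B)).trans hbot.le)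

end CfsgLib.PLocal
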