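import Cfsg.Agent.Lib.Core.Cores
import Cfsg.Prelude.Def_Local
import Mathlib.GroupTheory.SchurZassenhaus

/-!
# `p`-solvable groups and the Hall–Higman centraliser lemma
-/

set_option autoImplicit false

namespace CfsgLib.PLocal

open Subgroup Cfsg CfsgLib.Core

variable {G : Type*} [Group G] {p : ℕ}

theorem relIndex_dvd_of_normal_le {A B : Subgroup G} [A.Normal] (C : Subgroup G) (_h : C ≤ B) :
    A.relIndex C ∣ A.relIndex B := by
  have h1 : (A.subgroupOf B).relIndex (C.subgroupOf B) ∣ (A.subgroupOf B).index :=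
    relIndex_dvd_index_of_normal _ _
  rwa [relIndex_subgroupOf _h] at h1

theorem factor_of_dvd (hp : p.Prime) {a b : ℕ} (h : a ∣ b)
    (hb : (∃ m, b = p ^ m) ∨ b.Coprime p) : (∃ m, a = p ^ m) ∨ a.Coprime p := by
  rcases hb with ⟨m, rfl⟩ | hb
  · obtain ⟨k, _, rfl⟩ := (Nat.dvd_prime_pow hp).1 h
    exact Or.inl ⟨k, rfl⟩
  · exact Or.inr (hb.coprime_dvd_left h)

theorem isPSolvable_subgroup [Fact p.Prime] (h : IsPSolvable p G) (X : Subgroup G) :
    IsPSolvable p X := by
  obtain ⟨n, H, h0, hn, hmono, hnorm, hfac⟩ := h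
  refine ⟨n, fun i => (H i).subgroupOf X, by simp [h0], by simp [hn],
    fun i j hij => comap_mono (hmono hij), fun i => (hnorm i).subgroupOf _, fun i => ?_⟩
  refine factor_of_dvd Fact.out ?_ (hfac i)
  have := hnorm i.castSucc
  have he : ((H i.castSucc).subgroupOf X).relIndex ((H i.succ).subgroupOf X)
      = (H i.castSucc).relIndex (H i.succ ⊓ X) := by
    rw [← inf_subgroupOf_right (H i.succ) X, relIndex_subgroupOf inf_le_right]
  rw [he]
  exact relIndex_dvd_of_normal_le _ inf_le_left

theorem isPSolvable_of_surjective [Fact p.Prime] {K : Type*} [Group K] (f : G →* K)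
    (hf : Function.Surjective f) (h : IsPSolvable p G) : IsPSolvable p K := by
  obtain ⟨n, H, h0, hn, hmono, hnorm, hfac⟩ := h
  refine ⟨n, fun i => (H i).map f, by simp [h0],
    by simp only [hn]; exact map_top_of_surjective f hf,
    fun i j hij => map_mono (hmono hij), fun i => (hnorm i).map f hf, fun i => ?_⟩
  refine factor_of_dvd Fact.out ?_ (hfac i)
  rw [← relIndex_comap, comap_map_eq]
  exact relIndex_dvd_of_le_left _ le_sup_left

theorem isPSolvable_congr [Fact p.Prime] {K : Type*} [Group K] (e : G ≃* K)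
    (h : IsPSolvable p G) : IsPSolvable p K :=
  isPSolvable_of_surjective e.toMonoidHom e.surjective h

theorem isPSolvable_quotient [Fact p.Prime] (h : IsPSolvable p G) (N : Subgroup G) [N.Normal] :
    IsPSolvable p (G ⧸ N) :=
  isPSolvable_of_surjective _ (QuotientGroup.mk'_surjective N) h

/-- A normal `p`-subgroup-by-`p'`-subgroup with the `p`-part central has a normal complement. -/
theorem coprime_central_eq [Finite G] [Fact p.Prime] (hO : pPrimeCore p G = ⊥)
    {Z M : Subgroup G} [M.Normal] (hZM : Z ≤ M) (hZ : IsPGroup p Z)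
    (hc : M ≤ centralizer (Z : Set G)) (hi : (Z.relIndex M).Coprime p) : M = Z := by
  have hZn : (Z.subgroupOf M).Normal :=
    (normal_subgroupOf_iff_le_normalizer hZM).2 (hc.trans (centralizer_le_normalizer _))
  have hcop : (Nat.card (Z.subgroupOf M)).Coprime (Z.subgroupOf M).index := by
    obtain ⟨k, hk⟩ := IsPGroup.iff_card.1 hZ
    rw [Nat.card_congr (subgroupOfEquivOfLe hZM).toEquiv, hk]
    exact (Nat.Coprime.symm hi).pow_left k
  obtain ⟨K, hK⟩ := exists_right_complement'_of_coprime hcop
  have hKn : K.Normal := by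
    rw [← normalizer_eq_top_iff, eq_top_iff, ← hK.sup_eq_top]
    refine sup_le ?_ le_normalizer
    refine le_trans ?_ (centralizer_le_normalizer _)
    intro z hz
    rw [mem_centralizer_iff]
    intro k _
    refine Subtype.ext ?_
    exact (mem_centralizer_iff.1 (hc k.2) _ hz).symm
  have hKc : (Nat.card K).Coprime p := by
    have h1 := hK.card_mul_card
    have h2 := card_mul_index (Z.subgroupOf M)
    rw [← h2] at h1
    rw [Nat.eq_of_mul_eq_mul_left Nat.card_pos h1]
    exact hi
  have hKbot : K.map M.subtype = ⊥ := by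
    refine eq_bot_iff.2 (hO ▸ ?_)
    refine le_trans (map_mono (le_pPrimeCore hKc)) ?_
    exact map_subtype_pPrimeCore_le M
  have hK0 : K = ⊥ := (map_eq_bot_iff_of_injective _ M.subtype_injective).1 hKbot
  have h3 := hK.sup_eq_top
  rw [hK0, sup_bot_eq, subgroupOf_eq_top] at h3
  exact le_antisymm h3 hZM

/-- Hall–Higman Lemma 1.2.3. -/
theorem centralizer_pCore_le [Finite G] [Fact p.Prime] (hsol : IsPSolvable p G)
    (hO : pPrimeCore p G = ⊥) : centralizer (pCore p G : Set G) ≤ pCore p G := by
  obtain ⟨n, H, h0, hn, hmono, hnorm, hfac⟩ := hsol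
  set C := centralizer (pCore p G : Set G) with hC
  set Z := C ⊓ pCore p G with hZ
  have key : ∀ i : Fin (n + 1), H i ⊓ C ≤ Z := by
    intro i
    induction i using Fin.induction with
    | zero => rw [h0]; simp
    | succ i ih =>
      have := hnorm i.succ
      have := hnorm i.castSucc
      set M := (H i.succ ⊓ C) ⊔ Z with hM
      have hMC : M ≤ C := sup_le inf_le_right inf_le_left
      have hdvd : Z.relIndex M ∣ (H i.castSucc).relIndex (H i.succ) := by
        rw [hM, relIndex_sup_right]
        refine (relIndex_dvd_of_le_left _ ih).trans ?_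
        have : (H i.castSucc ⊓ C).relIndex (H i.succ ⊓ C)
            = (H i.castSucc).relIndex (H i.succ ⊓ C) := by
          rw [← inf_relIndex_right (H i.castSucc), ← inf_assoc,
            inf_eq_left.2 (hmono (Fin.castSucc_le_succ i))]
        rw [this]
        exact relIndex_dvd_of_normal_le _ inf_le_left
      have hZp : IsPGroup p Z := (isPGroup_pCore p G).to_le inf_le_right
      suffices hMZ : M ≤ Z from le_sup_left.trans hMZ
      rcases factor_of_dvd Fact.out hdvd (hfac i) with ⟨m, hm⟩ | hcop
      · have hMp : IsPGroup p M := by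
          obtain ⟨k, hk⟩ := IsPGroup.iff_card.1 hZp
          refine IsPGroup.of_card (n := k + m) ?_
          rw [← relIndex_bot_left M, ← relIndex_mul_relIndex ⊥ Z M bot_le le_sup_right,
            relIndex_bot_left, hk, hm, pow_add]
        exact le_inf hMC (le_pCore hMp)
      · refine (coprime_central_eq hO le_sup_right hZp ?_ hcop).le
        exact hMC.trans (centralizer_le (SetLike.coe_subset_coe.2 inf_le_right))
  have := key (Fin.last n)
  rw [hn, top_inf_eq] at this
  exact this.trans inf_le_right

end CfsgLib.PLocal
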