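import Cfsg.Agent.Lib.PLocal.Comm
import Cfsg.Prelude.Def_Transfer

/-!
# Quadratic action
-/

set_option autoImplicit false

namespace CfsgLib.PLocal

open Subgroup
open scoped commutatorElement

variable {G : Type*} [Group G]

/-- If `[V,H,H] = 1` then an element of `H` fixes every `⁅b, v⁆`. -/
theorem quad_fix {V H : Subgroup G} (hq : ⁅⁅V, H⁆, H⁆ = ⊥) {a b v : G} (ha : a ∈ H) (hb : b ∈ H)
    (hv : v ∈ V) : a * ⁅b, v⁆ * a⁻¹ = ⁅b, v⁆ := by
  have h1 : ⁅b, v⁆ ∈ ⁅V, H⁆ := by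
    rw [commutator_comm]; exact commutator_mem_commutator hb hv
  have h2 : ⁅H, ⁅V, H⁆⁆ = ⊥ := by rw [commutator_comm]; exact hq
  have h3 := commutator_mem_commutator ha h1
  rw [h2, mem_bot] at h3
  exact comm_eq_one_iff_conj.1 h3

theorem quad_comm_mul {V H : Subgroup G} (hq : ⁅⁅V, H⁆, H⁆ = ⊥) {a b v : G} (ha : a ∈ H)
    (hb : b ∈ H) (hv : v ∈ V) : ⁅a * b, v⁆ = ⁅b, v⁆ * ⁅a, v⁆ := by
  rw [comm_mul_left', quad_fix hq ha hb hv]

/-- Quadratic action: `H` is abelian modulo the centralizer. -/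
theorem quad_commutator_le {V H : Subgroup G} (hV : IsMulCommutative V)
    (hHV : H ≤ normalizer (V : Set G)) (hq : ⁅⁅V, H⁆, H⁆ = ⊥) :
    ⁅H, H⁆ ≤ centralizer (V : Set G) := by
  rw [commutator_le]
  intro a ha b hb
  rw [mem_centralizer_iff_conj]
  intro v hv
  have key : ∀ x ∈ V, a * b * x * (a * b)⁻¹ = b * a * x * (b * a)⁻¹ := by
    intro x hx
    have h : ⁅a * b, x⁆ = ⁅b * a, x⁆ := by
      rw [quad_comm_mul hq ha hb hx, quad_comm_mul hq hb ha hx,
        comm_of_mem hV (comm_mem hHV hb hx) (comm_mem hHV ha hx)]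
    rw [commutatorElement_def, commutatorElement_def] at h
    exact mul_right_cancel h
  have hba : (b * a)⁻¹ * v * (b * a) ∈ V := by
    have := conj_mem hHV (H.inv_mem (H.mul_mem hb ha)) hv
    rwa [inv_inv] at this
  have := key _ hba
  calc ⁅a, b⁆ * v * ⁅a, b⁆⁻¹
      = a * b * ((b * a)⁻¹ * v * (b * a)) * (a * b)⁻¹ := by
        simp only [commutatorElement_def]; group
    _ = b * a * ((b * a)⁻¹ * v * (b * a)) * (b * a)⁻¹ := this
    _ = v := by group

theorem quad_comm_pow {V H : Subgroup G} (hq : ⁅⁅V, H⁆, H⁆ = ⊥) {a v : G} (ha : a ∈ H)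
    (hv : v ∈ V) (n : ℕ) : ⁅a ^ n, v⁆ = ⁅a, v⁆ ^ n := by
  induction n with
  | zero => simp
  | succ n ih => rw [pow_succ, quad_comm_mul hq (H.pow_mem ha n) ha hv, ih, ← pow_succ']

/-- Quadratic action on an elementary abelian group: `p`-th powers act trivially. -/
theorem quad_pow_mem {V H : Subgroup G} {p : ℕ} (hV : Cfsg.IsElementaryAbelian p V)
    (hHV : H ≤ normalizer (V : Set G)) (hq : ⁅⁅V, H⁆, H⁆ = ⊥) {a : G} (ha : a ∈ H) :
    a ^ p ∈ centralizer (V : Set G) := by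
  rw [mem_centralizer_iff_conj]
  intro v hv
  rw [← comm_eq_one_iff_conj, quad_comm_pow hq ha hv]
  exact hV.2 _ (comm_mem hHV ha hv)

/-- `v ↦ ⁅a, v⁆` as an endomorphism of an abelian subgroup normalised by `a`. -/
def commHom {V : Subgroup G} (hV : IsMulCommutative V) {a : G}
    (ha : a ∈ normalizer (V : Set G)) : V →* V :=
  MonoidHom.mk' (fun v => ⟨⁅a, (v : G)⁆, comm_mem le_rfl ha v.2⟩)
    fun v w => Subtype.ext (comm_mul_right' hV le_rfl ha v.2 w.2)

theorem commHom_ker {V : Subgroup G} (hV : IsMulCommutative V) {a : G}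
    (ha : a ∈ normalizer (V : Set G)) :
    (commHom hV ha).ker.map V.subtype = V ⊓ centralizer (zpowers a : Set G) := by
  rw [zpowers_eq_closure, centralizer_closure]
  ext v
  simp only [mem_map, MonoidHom.mem_ker, coe_subtype, mem_inf]
  constructor
  · rintro ⟨⟨x, hx⟩, h, rfl⟩
    refine ⟨hx, mem_centralizer_singleton_iff.2 ?_⟩
    have h' : ⁅a, x⁆ = 1 := congrArg Subtype.val h
    exact (commutatorElement_eq_one_iff_mul_comm.1 h').symm
  · rintro ⟨hv, hc⟩
    refine ⟨⟨v, hv⟩, Subtype.ext ?_, rfl⟩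
    exact commutatorElement_eq_one_iff_mul_comm.2 (mem_centralizer_singleton_iff.1 hc).symm

/-- `|V| ≤ |C_V(a)|²` for quadratic `a`. -/
theorem quad_card_le [Finite G] {V : Subgroup G} (hV : IsMulCommutative V) {a : G}
    (ha : a ∈ normalizer (V : Set G))
    (hq : ⁅⁅V, zpowers a⁆, zpowers a⁆ = ⊥) :
    Nat.card V ≤ Nat.card ↥(V ⊓ centralizer (zpowers a : Set G)) ^ 2 := by
  have hK := commHom_ker hV ha
  have hcard : Nat.card ↥(commHom hV ha).ker
      = Nat.card ↥(V ⊓ centralizer (zpowers a : Set G)) := by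
    rw [← hK]
    exact Nat.card_congr (equivMapOfInjective _ _ V.subtype_injective).toEquiv
  have hle : (commHom hV ha).range.map V.subtype ≤ V ⊓ centralizer (zpowers a : Set G) := by
    rintro x ⟨y, ⟨v, rfl⟩, rfl⟩
    refine ⟨((commHom hV ha) v).2, ?_⟩
    rw [zpowers_eq_closure, centralizer_closure]
    refine mem_centralizer_singleton_iff.2 ?_
    have h := quad_fix hq (mem_zpowers a) (mem_zpowers a) v.2
    rw [mul_inv_eq_iff_eq_mul] at h
    exact h.symm
  have hr : Nat.card ↥(commHom hV ha).range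
      ≤ Nat.card ↥(V ⊓ centralizer (zpowers a : Set G)) := by
    rw [Nat.card_congr (equivMapOfInjective _ _ V.subtype_injective).toEquiv]
    exact card_le_of_le hle
  have h := card_mul_index (commHom hV ha).ker
  rw [index_ker] at h
  rw [sq, ← h, hcard]
  exact Nat.mul_le_mul_left _ hr

end CfsgLib.PLocal
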