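import Cfsg.Agent.Lib.PGroups.AutomizerHall

/-!
# Extensions of `p`-solvable groups
-/

set_option autoImplicit false

namespace CfsgLib.PLocal

open Cfsg Subgroup

universe u

variable {p : ℕ} [Fact p.Prime]

omit [Fact p.Prime] in
/-- A group whose order is a power of `p` or prime to `p` is `p`-solvable. -/
theorem isPSolvable_of_card {G : Type*} [Group G]
    (h : (∃ m, Nat.card G = p ^ m) ∨ (Nat.card G).Coprime p) : IsPSolvable p G := by
  refine ⟨1, ![⊥, ⊤], rfl, rfl, ?_, fun i => ?_, fun i => ?_⟩
  · intro a b hab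
    fin_cases a <;> fin_cases b <;> simp_all
  · fin_cases i <;> simp
  · fin_cases i
    simpa using h

omit [Fact p.Prime] in
/-- A nontrivial `p`-solvable group has a nontrivial normal `p`- or `p'`-subgroup. -/
theorem exists_core_ne_bot {G : Type*} [Group G] [Finite G] [Nontrivial G] (h : IsPSolvable p G) :
    pCore p G ≠ ⊥ ∨ pPrimeCore p G ≠ ⊥ := by
  obtain ⟨n, H, h0, hn, hmono, hnorm, hfac⟩ := h
  obtain ⟨i, hi, hi'⟩ : ∃ i : Fin n, H i.castSucc = ⊥ ∧ H i.succ ≠ ⊥ := by
    by_contra hcon
    push Not at hcon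
    have : ∀ i : Fin (n + 1), H i = ⊥ := fun i => by
      induction i using Fin.induction with
      | zero => exact h0
      | succ i ih => exact hcon i ih
    exact top_ne_bot (hn.symm.trans (this _))
  have := hnorm i.succ
  have h1 := hfac i
  rw [hi, relIndex_bot_left] at h1
  rcases h1 with ⟨m, hm⟩ | hc
  · exact Or.inl fun h0 => hi' (le_bot_iff.1 (h0 ▸ Core.le_pCore (IsPGroup.of_card hm)))
  · exact Or.inr fun h0 => hi' (le_bot_iff.1 (h0 ▸ Core.le_pPrimeCore hc))

theorem isPSolvable_extension_aux (n : ℕ) :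
    ∀ (G : Type u) [Group G] [Finite G], Nat.card G = n → ∀ (N : Subgroup G) [N.Normal],
      IsPSolvable p N → IsPSolvable p (G ⧸ N) → IsPSolvable p G := by
  induction n using Nat.strong_induction_on with
  | _ n ih =>
  intro G _ _ hn N _ hN hQ
  subst hn
  by_cases hN0 : N = ⊥
  · subst hN0
    exact isPSolvable_congr QuotientGroup.quotientBot hQ
  have : Nontrivial N := N.nontrivial_iff_ne_bot.2 hN0
  -- a step with a normal subgroup inside `N`
  have step : ∀ M : Subgroup N, M.Characteristic → M ≠ ⊥ →
      ∃ (M' : Subgroup G) (_ : M'.Normal), M' = M.map N.subtype ∧ IsPSolvable p (G ⧸ M') := by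
    intro M _ hM0
    refine ⟨M.map N.subtype, inferInstance, rfl, ?_⟩
    set M' := M.map N.subtype
    have hle : M' ≤ N := map_subtype_le M
    refine ih _ ?_ (G ⧸ M') rfl (N.map (QuotientGroup.mk' M')) ?_ ?_
    · rw [← index_eq_card, ← M'.index_mul_card]
      refine lt_mul_of_one_lt_right (Nat.pos_of_ne_zero index_ne_zero_of_finite) ?_
      rw [one_lt_card_iff_ne_bot]
      exact fun h => hM0 ((map_eq_bot_iff_of_injective _ N.subtype_injective).1 h)
    · exact isPSolvable_of_surjective ((QuotientGroup.mk' M').subgroupMap N)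
        ((QuotientGroup.mk' M').subgroupMap_surjective N) hN
    · exact isPSolvable_congr (QuotientGroup.quotientQuotientEquivQuotient M' N hle).symm hQ
  rcases exists_core_ne_bot hN with h | h
  · obtain ⟨M', hMn, hM', hs⟩ := step (pCore p N) inferInstance h
    refine CfsgLib.Fusion.isPSolvable_of_ker_pGroup (QuotientGroup.mk' M')
      (QuotientGroup.mk'_surjective M') ?_ hs
    rw [QuotientGroup.ker_mk', hM']
    exact (Core.isPGroup_pCore p N).map _
  · obtain ⟨M', hMn, hM', hs⟩ := step (pPrimeCore p N) inferInstance h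
    refine CfsgLib.PGroups.Automizer.isPSolvable_of_sandwich ⊥ M' bot_le IsPGroup.of_bot ?_ hs
    rw [relIndex_bot_left, hM', card_map_of_injective N.subtype_injective]
    exact ((Fact.out : p.Prime).coprime_iff_not_dvd).1 (Core.coprime_card_pPrimeCore p N).symm

/-- An extension of a `p`-solvable group by a `p`-solvable group is `p`-solvable. -/
theorem isPSolvable_extension {G : Type u} [Group G] [Finite G] (N : Subgroup G) [N.Normal]
    (hN : IsPSolvable p N) (hQ : IsPSolvable p (G ⧸ N)) : IsPSolvable p G :=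
  isPSolvable_extension_aux _ G rfl N hN hQ

end CfsgLib.PLocal
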