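import Cfsg.Agent.Lib.PLocal.PConstrained
import Mathlib.GroupTheory.Nilpotent

/-!
# The upper `p`-series and `p`-length
-/

set_option autoImplicit false

namespace CfsgLib.PLocal

open Subgroup Cfsg CfsgLib.Core

variable {G : Type*} [Group G] {p : ℕ}

theorem upper_odd (k : ℕ) :
    (upperPSeries p G (2 * k + 1)).1 =
      (pPrimeCore p (G ⧸ (upperPSeries p G (2 * k)).1)).comap (QuotientGroup.mk' _) := by
  rw [upperPSeries]
  simp

theorem upper_even (k : ℕ) :
    (upperPSeries p G (2 * k + 2)).1 =
      (pCore p (G ⧸ (upperPSeries p G (2 * k + 1)).1)).comap (QuotientGroup.mk' _) := by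
  rw [upperPSeries]
  simp

theorem upper_succ_ge (n : ℕ) : (upperPSeries p G n).1 ≤ (upperPSeries p G (n + 1)).1 := by
  rcases Nat.even_or_odd' n with ⟨k, rfl | rfl⟩
  · rw [upper_odd]
    exact le_of_eq_of_le (QuotientGroup.ker_mk' _).symm (ker_le_comap _ _)
  · rw [upper_even]
    exact le_of_eq_of_le (QuotientGroup.ker_mk' _).symm (ker_le_comap _ _)

theorem pPrimeCore_quotient_upper_odd [Finite G] [Fact p.Prime] (k : ℕ) :
    pPrimeCore p (G ⧸ (upperPSeries p G (2 * k + 1)).1) = ⊥ := by
  set U0 := (upperPSeries p G (2 * k)).1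
  set U1 := (upperPSeries p G (2 * k + 1)).1 with hU1
  set W := (pPrimeCore p (G ⧸ U1)).comap (QuotientGroup.mk' U1) with hW
  have h01 : U0 ≤ U1 := upper_succ_ge (2 * k)
  have h1W : U1 ≤ W := le_of_eq_of_le (QuotientGroup.ker_mk' _).symm (ker_le_comap _ _)
  have hm1 : U1.map (QuotientGroup.mk' U0) = pPrimeCore p (G ⧸ U0) := by
    rw [hU1, upper_odd]; exact map_comap_eq_self_of_surjective (QuotientGroup.mk'_surjective _) _
  have hi1 : (U0.relIndex U1).Coprime p := by
    have h := relIndex_ker (QuotientGroup.mk' U0) (K := U1)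
    rw [QuotientGroup.ker_mk'] at h
    rw [h, hm1]
    exact coprime_card_pPrimeCore p _
  have hi2 : (U1.relIndex W).Coprime p := by
    have h := relIndex_ker (QuotientGroup.mk' U1) (K := W)
    rw [QuotientGroup.ker_mk'] at h
    rw [h, hW, map_comap_eq_self_of_surjective (QuotientGroup.mk'_surjective _)]
    exact coprime_card_pPrimeCore p _
  have hW1 : W ≤ U1 := by
    have h := relIndex_ker (QuotientGroup.mk' U0) (K := W)
    rw [QuotientGroup.ker_mk'] at h
    have hle : W.map (QuotientGroup.mk' U0) ≤ pPrimeCore p (G ⧸ U0) := by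
      have : (W.map (QuotientGroup.mk' U0)).Normal :=
        ((normal_pPrimeCore p (G ⧸ U1)).comap _).map _ (QuotientGroup.mk'_surjective _)
      refine le_pPrimeCore ?_
      rw [← h, ← relIndex_mul_relIndex _ _ _ h01 h1W]
      exact Nat.Coprime.mul_left hi1 hi2
    rw [hU1, upper_odd]
    exact map_le_iff_le_comap.1 hle
  have := map_eq_bot_iff (H := W) (f := QuotientGroup.mk' U1) |>.2
    (by rw [QuotientGroup.ker_mk']; exact hW1)
  rwa [hW, map_comap_eq_self_of_surjective (QuotientGroup.mk'_surjective _)] at this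

theorem map_upper_even (k : ℕ) :
    (upperPSeries p G (2 * k + 2)).1.map (QuotientGroup.mk' (upperPSeries p G (2 * k + 1)).1)
      = pCore p (G ⧸ (upperPSeries p G (2 * k + 1)).1) := by
  rw [upper_even]
  exact map_comap_eq_self_of_surjective (QuotientGroup.mk'_surjective _) _

theorem upper_centralizer_le [Finite G] [Fact p.Prime] (hsol : IsPSolvable p G) (k : ℕ) :
    centralizer (((upperPSeries p G (2 * k + 2)).1.map
        (QuotientGroup.mk' (upperPSeries p G (2 * k + 1)).1) :
          Subgroup (G ⧸ (upperPSeries p G (2 * k + 1)).1)) : Set (G ⧸ _))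
      ≤ (upperPSeries p G (2 * k + 2)).1.map
        (QuotientGroup.mk' (upperPSeries p G (2 * k + 1)).1) := by
  rw [map_upper_even]
  exact centralizer_pCore_le (isPSolvable_quotient hsol _) (pPrimeCore_quotient_upper_odd k)

/-- the term `γ_{c-j}(S)` of a Sylow subgroup sinks into the `p`-series -/
theorem lowerCentral_le_upper [Finite G] [Fact p.Prime] (hsol : IsPSolvable p G) (S : Sylow p G)
    {c : ℕ} (hc : (S : Subgroup G).lowerCentralSeries c = ⊥) :
    ∀ j ≤ c, (S : Subgroup G).lowerCentralSeries (c - j) ≤ (upperPSeries p G (2 * j)).1 := by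
  intro j
  induction j with
  | zero => intro _; simp [hc]
  | succ j ih =>
    intro hj
    have ih' := ih (by omega)
    set U1 := (upperPSeries p G (2 * j + 1)).1 with hU1
    set π := QuotientGroup.mk' U1 with hπ
    have hsucc : c - j = (c - (j + 1)) + 1 := by omega
    rw [hsucc, Subgroup.lowerCentralSeries_succ] at ih'
    set L := (S : Subgroup G).lowerCentralSeries (c - (j + 1)) with hL
    rw [show 2 * (j + 1) = 2 * j + 2 by ring, upper_even, ← map_le_iff_le_comap]
    have h1 : ⁅L.map π, (S : Subgroup G).map π⁆ = ⊥ := by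
      rw [← map_commutator, eq_bot_iff]
      refine (map_mono (ih'.trans (upper_succ_ge (2 * j)))).trans ?_
      rw [← hU1, hπ, QuotientGroup.map_mk'_self]
    rw [commutator_eq_bot_iff_le_centralizer] at h1
    refine (h1.trans (centralizer_le (SetLike.coe_subset_coe.2 ?_))).trans
      (centralizer_pCore_le (isPSolvable_quotient hsol _) (pPrimeCore_quotient_upper_odd j))
    exact pCore_le_sylow (S.mapSurjective (QuotientGroup.mk'_surjective U1))

theorem pLengthLE_class [Finite G] [Fact p.Prime] (hsol : IsPSolvable p G) (S : Sylow p G) :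
    PLengthLE p (Group.nilpotencyClass ↥(S : Subgroup G)) G := by
  set c := Group.nilpotencyClass ↥(S : Subgroup G)
  have := S.2.isNilpotent
  have hc : (S : Subgroup G).lowerCentralSeries c = ⊥ := by
    have hn : (⊤ : Subgroup ↥(S : Subgroup G)).lowerCentralSeries c = ⊥ :=
      Subgroup.lowerCentralSeries_nilpotencyClass
    have key : ∀ n, ((⊤ : Subgroup ↥(S : Subgroup G)).lowerCentralSeries n).map
        (S : Subgroup G).subtype = (S : Subgroup G).lowerCentralSeries n := by
      intro n
      induction n with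
      | zero => simp [← MonoidHom.range_eq_map]
      | succ n ih =>
        rw [Subgroup.lowerCentralSeries_succ, Subgroup.lowerCentralSeries_succ, map_commutator, ih,
          ← MonoidHom.range_eq_map, range_subtype]
    rw [← key, hn, Subgroup.map_bot]
  have hS : (S : Subgroup G) ≤ (upperPSeries p G (2 * c)).1 := by
    simpa using lowerCentral_le_upper hsol S hc c le_rfl
  rw [PLengthLE, upper_odd, eq_top_iff, ← map_le_iff_le_comap]
  refine le_pPrimeCore (N := (⊤ : Subgroup G).map _) (h := ?_)
  rw [← relIndex_ker, QuotientGroup.ker_mk', relIndex_top_right]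
  refine Nat.Coprime.symm ((Nat.Prime.coprime_iff_not_dvd Fact.out).2 fun hd => ?_)
  exact S.not_dvd_index (hd.trans (index_dvd_of_le hS))

end CfsgLib.PLocal
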