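import Cfsg.Agent.Lib.PLocal.Comm
import Cfsg.Agent.Lib.PGroups.ClassTwo
import Mathlib.GroupTheory.Nilpotent

/-!
# Glauberman's replacement theorem
-/

set_option autoImplicit false

namespace CfsgLib.PLocal

open Subgroup
open scoped commutatorElement

variable {G : Type*} [Group G]

/-- If `[B,B,A] = 1` then `[B,A]` centralises `[B,B]`. -/
theorem comm_centralizes_derived {A B : Subgroup G} (hc : ⁅⁅B, B⁆, A⁆ = ⊥)
    (hAB : A ≤ normalizer (B : Set G)) : ⁅B, A⁆ ≤ centralizer ((⁅B, B⁆ : Subgroup G) : Set G) := by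
  -- three subgroups
  have h1 : ⁅⁅A, ⁅B, B⁆⁆, B⁆ = ⊥ := by rw [commutator_comm A, hc, commutator_bot_left]
  have h2 : ⁅⁅⁅B, B⁆, B⁆, A⁆ = ⊥ :=
    eq_bot_iff.2 ((commutator_mono (commutator_mono (commutator_le_self B) le_rfl) le_rfl).trans hc.le)
  have h3 : ⁅⁅B, A⁆, ⁅B, B⁆⁆ = ⊥ := commutator_commutator_eq_bot_of_rotate h1 h2
  exact commutator_eq_bot_iff_le_centralizer.1 h3

theorem derived_comm_le_center {A B : Subgroup G} (hc : ⁅⁅B, B⁆, A⁆ = ⊥)
    (hAB : A ≤ normalizer (B : Set G)) :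
    ⁅⁅B, A⁆, ⁅B, A⁆⁆ ≤ B ⊓ centralizer (B : Set G) := by
  have hX : ⁅B, A⁆ ≤ B := le_normalizer_iff_commutator_le_left.1 hAB
  refine le_inf ((commutator_mono hX hX).trans (commutator_le_self B)) ?_
  have hc' := comm_centralizes_derived hc hAB
  rw [← commutator_eq_bot_iff_le_centralizer] at hc' ⊢
  have h1 : ⁅⁅⁅B, A⁆, B⁆, ⁅B, A⁆⁆ = ⊥ := by
    refine eq_bot_iff.2 ((commutator_mono (commutator_mono hX le_rfl) le_rfl).trans ?_)
    rw [commutator_comm]; exact hc'.le
  have h2 : ⁅⁅B, ⁅B, A⁆⁆, ⁅B, A⁆⁆ = ⊥ := by rw [commutator_comm B ⁅B, A⁆]; exact h1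
  exact commutator_commutator_eq_bot_of_rotate h1 h2

/-- the key identity: commutators among the `⁅b⁻¹, a⁆` are involutions -/
theorem commutator_gen_sq {A B : Subgroup G} (hAB : A ≤ normalizer (B : Set G))
    (hc : ⁅⁅B, B⁆, A⁆ = ⊥) (hA : IsMulCommutative A) {b : G} (hb : b ∈ B)
    (hq : ⁅⁅closure {g : G | ∃ a ∈ A, g = b⁻¹ * a * b * a⁻¹}, A⁆, A⁆ = ⊥) :
    ∀ w ∈ ⁅closure {g : G | ∃ a ∈ A, g = b⁻¹ * a * b * a⁻¹},
      closure {g : G | ∃ a ∈ A, g = b⁻¹ * a * b * a⁻¹}⁆, w ^ 2 = 1 := by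
  set C := closure {g : G | ∃ a ∈ A, g = b⁻¹ * a * b * a⁻¹} with hC
  have hCX : C ≤ ⁅B, A⁆ := (Subgroup.closure_le _).2 (by
    rintro _ ⟨a, ha, rfl⟩
    have := commutator_mem_commutator (B.inv_mem hb) ha
    rw [commutatorElement_def, inv_inv] at this
    exact this)
  have hX : ⁅B, A⁆ ≤ B := le_normalizer_iff_commutator_le_left.1 hAB
  have hC' := derived_comm_le_center hc hAB
  -- elements of `B'` are fixed by `A`
  have hfix : ∀ x ∈ A, ∀ u ∈ ⁅B, B⁆, x * u * x⁻¹ = u := fun x hx u hu =>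
    mem_centralizer_iff_conj.1 (le_centralizer_iff.1 (commutator_eq_bot_iff_le_centralizer.1 hc) hx)
      u hu
  -- `c` values
  obtain ⟨c, hcdef⟩ : ∃ c : G → G, ∀ a, c a = b⁻¹ * a * b * a⁻¹ := ⟨_, fun _ => rfl⟩
  have hcC : ∀ a ∈ A, c a ∈ C := fun a ha => Subgroup.subset_closure ⟨a, ha, hcdef a⟩
  have hcB : ∀ a ∈ A, c a ∈ B := fun a ha => hX (hCX (hcC a ha))
  have hconjb : ∀ x : G, x * b * x⁻¹ = b * c x := fun x => by rw [hcdef]; group
  -- fixed elements of `B` commute with all `c y`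
  have hfixed : ∀ f ∈ B, (∀ x ∈ A, x * f * x⁻¹ = f) → ∀ y ∈ A, f * c y = c y * f := by
    intro f hf hff y hy
    have h1 : y * ⁅f, b⁆ * y⁻¹ = ⁅f, b⁆ := hfix y hy _ (commutator_mem_commutator hf hb)
    rw [conjugate_commutatorElement, hff y hy, hconjb, commutatorElement_mul_right_eq_mul_conj] at h1
    have h2 : b * ⁅f, c y⁆ * b⁻¹ = 1 := by
      have h3 := congrArg (fun t => ⁅f, b⁆⁻¹ * t) h1
      simpa [mul_assoc] using h3
    have h4 : ⁅f, c y⁆ = 1 := by
      have h5 := congrArg (fun t => b⁻¹ * t * b) h2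
      simpa [mul_assoc] using h5
    exact commutatorElement_eq_one_iff_mul_comm.1 h4
  have hkey : ∀ x ∈ A, ∀ y ∈ A, ⁅c x, c y⁆ ^ 2 = 1 := by
    -- one half
    have half : ∀ x ∈ A, ∀ y ∈ A,
        ⁅b, ⁅x, c y⁆⁆ = ⁅c x, c y⁆⁻¹ ∧ c (x * y) = c x * ⁅x, c y⁆ * c y ∧
        ⁅x, c y⁆ * c x = c x * ⁅x, c y⁆ ∧ ⁅x, c y⁆ ∈ B := by
      intro x hx y hy
      set d := ⁅x, c y⁆ with hd
      have hdCA : d ∈ ⁅C, A⁆ := by
        rw [commutator_comm]; exact commutator_mem_commutator hx (hcC y hy)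
      have hdX : d ∈ ⁅B, A⁆ := commutator_mono (hCX.trans hX) le_rfl hdCA
      have hdfix : ∀ z ∈ A, z * d * z⁻¹ = d := fun z hz =>
        mem_centralizer_iff_conj.1
          (le_centralizer_iff.1 (commutator_eq_bot_iff_le_centralizer.1 hq) hz) d hdCA
      have hdB : d ∈ B := hX hdX
      have hdx := hfixed d hdB hdfix x hx
      have hdy := hfixed d hdB hdfix y hy
      have hxy : x * c y * x⁻¹ = d * c y := by rw [hd, commutatorElement_def]; group
      refine ⟨?_, ?_, hdx, hdB⟩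
      · have h1 : x * ⁅b, c y⁆ * x⁻¹ = ⁅b, c y⁆ :=
          hfix x hx _ (commutator_mem_commutator hb (hcB y hy))
        have hz : ⁅c x, c y⁆ ∈ centralizer (B : Set G) :=
          (hC' (commutator_mem_commutator (hCX (hcC x hx)) (hCX (hcC y hy)))).2
        have hzc := mem_centralizer_iff.1 hz
        have hdc : d * ⁅b, c y⁆ * d⁻¹ = ⁅b, c y⁆ :=
          mem_centralizer_iff_conj.1 (comm_centralizes_derived hc hAB hdX) _
            (commutator_mem_commutator hb (hcB y hy))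
        have e1 : ⁅c x, d⁆ = 1 := commutatorElement_eq_one_iff_mul_comm.2 hdx.symm
        have e2 : ⁅c x, d * c y⁆ = ⁅c x, c y⁆ := by
          rw [commutatorElement_mul_right_eq_mul_conj, e1, one_mul, hzc d hdB, mul_inv_cancel_right]
        rw [conjugate_commutatorElement, hconjb, hxy, commutatorElement_mul_left_eq_conj_mul, e2,
          hzc b hb, mul_inv_cancel_right, commutatorElement_mul_right_eq_mul_conj,
          show ⁅b, d⁆ * d * ⁅b, c y⁆ * d⁻¹ = ⁅b, d⁆ * (d * ⁅b, c y⁆ * d⁻¹) by group, hdc,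
          ← mul_assoc] at h1
        exact eq_inv_of_mul_eq_one_right (mul_eq_right.1 h1)
      · calc c (x * y) = c x * (x * c y * x⁻¹) := by simp only [hcdef]; group
          _ = c x * d * c y := by rw [hxy]; group
    intro x hx y hy
    obtain ⟨h1, h2, h3, hdB⟩ := half x hx y hy
    obtain ⟨h1', h2', h3', _⟩ := half y hy x hx
    have hcomm : x * y = y * x := comm_of_mem hA hx hy
    set d := ⁅x, c y⁆
    set d' := ⁅y, c x⁆
    set z := ⁅c x, c y⁆ with hz
    have hzC : z ∈ centralizer (B : Set G) :=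
      (hC' (commutator_mem_commutator (hCX (hcC x hx)) (hCX (hcC y hy)))).2
    have e : d * z = d' := by
      have h4 : d * (c x * c y) = d' * (c y * c x) := by
        rw [← mul_assoc, ← mul_assoc, h3, h3', ← h2, ← h2', hcomm]
      calc d * z = d * (c x * c y) * (c y * c x)⁻¹ := by
            simp only [hz, commutatorElement_def]; group
        _ = d' := by rw [h4]; group
    have hzb : ⁅b, z⁆ = 1 :=
      commutatorElement_eq_one_iff_mul_comm.2 (mem_centralizer_iff.1 hzC b hb)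
    have h6 : ⁅b, d'⁆ = ⁅b, d⁆ := by
      rw [← e, commutatorElement_mul_right_eq_mul_conj, hzb, mul_one, mul_inv_cancel_right]
    rw [h1, h1', ← commutatorElement_inv, inv_inv] at h6
    rw [sq]
    exact eq_inv_iff_mul_eq_one.1 h6
  -- extend to the commutator subgroup
  let S : Subgroup G :=
    { carrier := {w | w ∈ B ⊓ centralizer (B : Set G) ∧ w ^ 2 = 1}
      one_mem' := ⟨one_mem _, one_pow 2⟩
      mul_mem' := fun {u v} hu hv => ⟨mul_mem hu.1 hv.1, by
        have : Commute u v := (mem_centralizer_iff.1 hv.1.2 u hu.1.1)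
        rw [this.mul_pow, hu.2, hv.2, mul_one]⟩
      inv_mem' := fun {u} hu => ⟨inv_mem hu.1, by rw [inv_pow, hu.2, inv_one]⟩ }
  have hSc : ∀ g ∈ B, ∀ s ∈ S, g * s * g⁻¹ = s := fun g hg s hs => by
    rw [mem_centralizer_iff.1 hs.1.2 g hg, mul_inv_cancel_right]
  have hgen : ∀ u ∈ C, ∀ y ∈ A, ⁅u, c y⁆ ∈ S := by
    intro u hu
    induction hu using Subgroup.closure_induction with
    | mem u hu =>
      obtain ⟨x, hx, rfl⟩ := hu
      intro y hy
      rw [← hcdef]
      exact ⟨hC' (commutator_mem_commutator (hCX (hcC x hx)) (hCX (hcC y hy))), hkey x hx y hy⟩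
    | one => intro y _; rw [commutatorElement_one_left]; exact one_mem _
    | mul u v hu hv ihu ihv =>
      intro y hy
      rw [commutatorElement_mul_left_eq_conj_mul, hSc u (hX (hCX hu)) _ (ihv y hy)]
      exact mul_mem (ihv y hy) (ihu y hy)
    | inv u hu ihu =>
      intro y hy
      rw [commutatorElement_inv_left, ← commutatorElement_inv]
      have := hSc u⁻¹ (B.inv_mem (hX (hCX hu))) _ (inv_mem (ihu y hy))
      rw [inv_inv] at this
      rw [this]; exact inv_mem (ihu y hy)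
  have hall : ∀ v ∈ C, ∀ u ∈ C, ⁅u, v⁆ ∈ S := by
    intro v hv
    induction hv using Subgroup.closure_induction with
    | mem v hv =>
      obtain ⟨y, hy, rfl⟩ := hv
      rw [← hcdef]
      exact fun u hu => hgen u hu y hy
    | one => intro u _; rw [commutatorElement_one_right]; exact one_mem _
    | mul v w hv hw ihv ihw =>
      intro u hu
      rw [commutatorElement_mul_right_eq_mul_conj,
        show ⁅u, v⁆ * v * ⁅u, w⁆ * v⁻¹ = ⁅u, v⁆ * (v * ⁅u, w⁆ * v⁻¹) by group,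
        hSc v (hX (hCX hv)) _ (ihw u hu)]
      exact mul_mem (ihv u hu) (ihw u hu)
    | inv v hv ihv =>
      intro u hu
      rw [commutatorElement_inv_right, ← commutatorElement_inv]
      have := hSc v⁻¹ (B.inv_mem (hX (hCX hv))) _ (inv_mem (ihv u hu))
      rw [inv_inv] at this
      rw [this]; exact inv_mem (ihv u hu)
  intro w hw
  have : ⁅C, C⁆ ≤ S := commutator_le.2 fun u hu v hv => hall v hv u hu
  exact (this hw).2

variable {p : ℕ}

theorem exists_normalizing_element [Finite G] [Fact p.Prime] (hS : IsPGroup p G) (B : Subgroup G)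
    [B.Normal] (A : Subgroup G) (hnot : ¬ B ≤ normalizer (A : Set G)) :
    ∃ b ∈ B, b ∈ normalizer ((normalizer (A : Set G)) : Set G) ∧ b ∉ normalizer (A : Set G) := by
  set N := normalizer (A : Set G) with hN
  have := hS.isNilpotent
  have hnc := Group.normalizerCondition_of_isNilpotent (G := ↥(B ⊔ N : Subgroup G))
  have hlt : N.subgroupOf (B ⊔ N) < ⊤ := by
    refine lt_top_iff_ne_top.2 fun h => hnot ?_
    exact le_sup_left.trans (subgroupOf_eq_top.1 h)
  obtain ⟨m, hm, hmN⟩ := Set.exists_of_ssubset (SetLike.coe_ssubset_coe.2 (hnc _ hlt))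
  rw [SetLike.mem_coe, ← subgroupOf_normalizer_eq (le_sup_right : N ≤ B ⊔ N)] at hm
  have hm' := m.2
  rw [← SetLike.mem_coe, coe_mul_of_right_le_normalizer_left B N le_normalizer_of_normal] at hm'
  obtain ⟨b, hb, n, hn, hbn⟩ := hm'
  refine ⟨b, hb, ?_, fun hbN => hmN ?_⟩
  · have h := mul_mem (show (m : G) ∈ normalizer (N : Set G) from hm) (inv_mem (le_normalizer hn))
    rw [← hbn] at h
    simpa [mul_assoc] using h
  · show (m : G) ∈ N
    rw [← hbn]; exact mul_mem hbN hn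

/-- the subgroup `(A ∩ A^b) [A, b]` -/
def replace (A : Subgroup G) (b : G) : Subgroup G :=
  (A ⊓ A.map (MulAut.conj (b⁻¹)).toMonoidHom) ⊔
    closure {g : G | ∃ a ∈ A, g = a * b⁻¹ * a⁻¹ * b}

structure ReplaceSpec (p : ℕ) (B A : Subgroup G) (b : G) : Prop where
  card_eq : Nat.card ↥(replace A b) = Nat.card A
  comm : IsMulCommutative ↥(replace A b)
  derived_le : ⁅B, B⁆ ≤ replace A b
  lt_inf : A ⊓ B < replace A b ⊓ B
  inf_lt : replace A b ⊓ B < B
  norm_le : A ≤ normalizer ((replace A b : Subgroup G) : Set G)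
  le_norm : replace A b ≤ normalizer (A : Set G)
  mem_norm : b ∈ normalizer ((replace A b : Subgroup G) : Set G)
  norm_lt : normalizer (A : Set G) < normalizer ((replace A b : Subgroup G) : Set G)
  expo : p ≠ 2 → Monoid.exponent ↥(replace A b) ∣ Monoid.exponent A
  le_of_normal : ∀ D : Subgroup G, D.Normal → A ≤ D → replace A b ≤ D

theorem replacement [Finite G] [Fact p.Prime] (hS : IsPGroup p G) (B : Subgroup G) [B.Normal]
    (hB2 : p = 2 → IsMulCommutative B) (A : Subgroup G) (hA : IsMulCommutative A)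
    (hBA : ⁅B, B⁆ ≤ A) (b : G) (hb : b ∈ B)
    (hbN : b ∈ normalizer ((normalizer (A : Set G)) : Set G))
    (hbA : b ∉ normalizer (A : Set G)) : ReplaceSpec p B A b := by
  set N := normalizer (A : Set G) with hN
  set Ab := A.map (MulAut.conj (b⁻¹)).toMonoidHom with hAb
  have memAb : ∀ x, x ∈ Ab ↔ b * x * b⁻¹ ∈ A := fun x => by
    constructor
    · rintro ⟨a, ha, rfl⟩; simpa [mul_assoc] using ha
    · exact fun h => ⟨_, h, by simp [mul_assoc]⟩
  set I := A ⊓ Ab with hI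
  set C := closure {g : G | ∃ a ∈ A, g = b⁻¹ * a * b * a⁻¹} with hC
  have hCeq : closure {g : G | ∃ a ∈ A, g = a * b⁻¹ * a⁻¹ * b} = C := by
    refine le_antisymm ((Subgroup.closure_le _).2 ?_) ((Subgroup.closure_le _).2 ?_) <;>
      rintro _ ⟨a, ha, rfl⟩ <;> rw [SetLike.mem_coe, ← inv_mem_iff] <;>
      exact Subgroup.subset_closure ⟨a, ha, by group⟩
  have hrep : replace A b = I ⊔ C := by rw [replace, hCeq]
  have hAN : A ≤ N := le_normalizer
  have hbNconj : ∀ n ∈ N, b⁻¹ * n * b ∈ N := fun n hn => (mem_normalizer_iff''.1 hbN n).1 hn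
  have hbNconj' : ∀ n ∈ N, b * n * b⁻¹ ∈ N := fun n hn => (mem_normalizer_iff.1 hbN n).1 hn
  have hAbN : Ab ≤ N := by
    rintro _ ⟨a, ha, rfl⟩
    simpa [mul_assoc] using hbNconj a (hAN ha)
  have hNnAb : N ≤ normalizer (Ab : Set G) := le_normalizer_iff.2 fun n hn x hx => by
    rw [memAb] at hx ⊢
    have h := conj_mem (le_refl N) (hbNconj' n hn) hx
    convert h using 1
    group
  have hAbcomm : ∀ x ∈ Ab, ∀ y ∈ Ab, x * y = y * x := by
    rintro _ ⟨x, hx, rfl⟩ _ ⟨y, hy, rfl⟩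
    rw [← map_mul, ← map_mul, comm_of_mem hA hx hy]
  set H := A ⊔ Ab with hH
  have hHN : H ≤ N := sup_le hAN hAbN
  have hdecH : ∀ h ∈ H, ∃ x ∈ A, ∃ y ∈ Ab, x * y = h := fun h hh => by
    rw [hH, ← SetLike.mem_coe,
      coe_mul_of_left_le_normalizer_right A Ab (hAN.trans hNnAb)] at hh
    exact hh
  have hIcentral : ∀ i ∈ I, ∀ h ∈ H, h * i = i * h := by
    intro i hi h hh
    obtain ⟨x, hx, y, hy, rfl⟩ := hdecH h hh
    rw [mul_assoc, hAbcomm y hy i hi.2, ← mul_assoc, comm_of_mem hA hx hi.1, mul_assoc]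
  have hB' : ∀ x ∈ A, x ∈ B → x ∈ I := fun x hx hxB => by
    refine ⟨hx, (memAb x).2 ?_⟩
    have : b * x * b⁻¹ = ⁅b, x⁆ * x := by rw [commutatorElement_def]; group
    rw [this]
    exact A.mul_mem (hBA (commutator_mem_commutator hb hxB)) hx
  -- the generators
  let c : G → G := fun a => b⁻¹ * a * b * a⁻¹
  have hcC : ∀ a ∈ A, c a ∈ C := fun a ha => Subgroup.subset_closure ⟨a, ha, rfl⟩
  have hconjAb : ∀ a ∈ A, b⁻¹ * a * b ∈ Ab := fun a ha => (memAb _).2 (by simpa [mul_assoc] using ha)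
  have hCH : C ≤ H := (Subgroup.closure_le _).2 (by
    rintro _ ⟨a, ha, rfl⟩
    exact H.mul_mem (mem_sup_right (hconjAb a ha)) (mem_sup_left (A.inv_mem ha)))
  have hCB : C ≤ B := (Subgroup.closure_le _).2 (by
    rintro _ ⟨a, _, rfl⟩
    have : b⁻¹ * a * b * a⁻¹ = b⁻¹ * (a * b * a⁻¹) := by group
    rw [this]
    exact B.mul_mem (B.inv_mem hb) (Subgroup.Normal.conj_mem ‹_› b hb a))
  -- `[C, A] ≤ I`
  have hCA : ∀ h ∈ H, ∀ a ∈ A, ⁅h, a⁆ ∈ I := by
    intro h hh a ha
    obtain ⟨x, hx, y, hy, rfl⟩ := hdecH h hh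
    rw [commutatorElement_mul_left_eq_conj_mul,
      commutatorElement_eq_one_iff_mul_comm.2 (comm_of_mem hA hx ha), mul_one]
    refine ⟨conj_mem hAN hx (comm_mem le_rfl (hAbN hy) ha), conj_mem (hAN.trans hNnAb) hx ?_⟩
    have : ⁅y, a⁆ = y * (a * y⁻¹ * a⁻¹) := by rw [commutatorElement_def]; group
    rw [this]
    exact Ab.mul_mem hy (conj_mem (hAN.trans hNnAb) ha (Ab.inv_mem hy))
  have hIle : I ≤ H := inf_le_left.trans le_sup_left
  have hq : ⁅⁅C, A⁆, A⁆ = ⊥ := by
    rw [eq_bot_iff]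
    refine (commutator_mono (commutator_le.2 fun c hc a ha => hCA c (hCH hc) a ha) le_rfl).trans ?_
    rw [le_bot_iff, commutator_eq_bot_iff_le_centralizer]
    exact fun i hi => mem_centralizer_iff.2 fun a ha => (comm_of_mem hA ha hi.1)
  have hB'A : ⁅⁅B, B⁆, A⁆ = ⊥ := by
    rw [commutator_eq_bot_iff_le_centralizer]
    exact hBA.trans (le_centralizer_iff_isMulCommutative.2 hA)
  have hCcomm : ∀ x ∈ C, ∀ y ∈ C, x * y = y * x := by
    intro x hx y hy
    rcases eq_or_ne p 2 with h2 | h2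
    · exact comm_of_mem (hB2 h2) (hCB hx) (hCB hy)
    · have hsq := commutator_gen_sq le_normalizer_of_normal hB'A hA hb hq ⁅x, y⁆
        (commutator_mem_commutator hx hy)
      refine commutatorElement_eq_one_iff_mul_comm.1 ?_
      have hcop : p.Coprime 2 := (Nat.coprime_primes Fact.out Nat.prime_two).2 h2
      exact (hS.powEquiv hcop).injective (by simp [hsq])
  have hXcomm : I ⊔ C ≤ centralizer ((I ⊔ C : Subgroup G) : Set G) := by
    have hCI : C ≤ centralizer (I : Set G) := fun x hx =>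
      mem_centralizer_iff.2 fun i hi => (hIcentral i hi x (hCH hx)).symm
    refine sup_le ?_ ?_ <;> intro x hx <;> rw [mem_centralizer_iff] <;> intro y hy
    · exact hIcentral x hx y ((sup_le hIle hCH) hy)
    · have hx' : x ∈ centralizer ((I : Subgroup G) : Set G) ⊓ centralizer (C : Set G) :=
        ⟨hCI hx, mem_centralizer_iff.2 fun z hz => hCcomm z hz x hx⟩
      have : I ⊔ C ≤ centralizer {x} := sup_le
        (fun i hi => mem_centralizer_singleton_iff.2 (mem_centralizer_iff.1 hx'.1 i hi))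
        (fun z hz => mem_centralizer_singleton_iff.2 (hCcomm z hz x hx))
      exact mem_centralizer_singleton_iff.1 (this hy)
  -- the homomorphism `a ↦ c a`
  set X := I ⊔ C with hX
  have hXmc : IsMulCommutative X := le_centralizer_iff_isMulCommutative.1 hXcomm
  haveI : (I.subgroupOf X).Normal := ⟨fun n hn g => by
    have : g * n * g⁻¹ = n := by rw [hXmc.is_comm.comm g n, mul_inv_cancel_right]
    rw [this]; exact hn⟩
  let φ : A →* X ⧸ I.subgroupOf X := MonoidHom.mk'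
    (fun a => QuotientGroup.mk ⟨c a, mem_sup_right (hcC a a.2)⟩)
    (fun a a' => by
      rw [← QuotientGroup.mk_mul]
      refine (QuotientGroup.eq.2 ?_).symm
      show (c a * c a')⁻¹ * c (a * a') ∈ I
      have : (c a * c a')⁻¹ * c (a * a') = ⁅(c a')⁻¹, (a : G)⁆ := by
        simp only [c, commutatorElement_def]; group
      rw [this]
      exact hCA _ (hCH (inv_mem (hcC a' a'.2))) a a.2)
  have hsurj : φ.range = ⊤ := by
    rw [eq_top_iff]
    rintro q -
    obtain ⟨⟨x, hx⟩, rfl⟩ := QuotientGroup.mk'_surjective _ q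
    have key : X ≤ ((φ.range.comap (QuotientGroup.mk' (I.subgroupOf X))).map X.subtype) := by
      refine sup_le (fun i hi => ⟨⟨i, mem_sup_left hi⟩, ?_, rfl⟩) ((Subgroup.closure_le _).2 ?_)
      · show (QuotientGroup.mk' _) _ ∈ φ.range
        rw [QuotientGroup.mk'_apply, (QuotientGroup.eq_one_iff _).2 (show (⟨i, _⟩ : X) ∈ I.subgroupOf X from hi)]
        exact one_mem _
      · rintro _ ⟨a, ha, rfl⟩
        exact ⟨⟨c a, mem_sup_right (hcC a ha)⟩, ⟨⟨a, ha⟩, rfl⟩, rfl⟩
    obtain ⟨y, hy, hyx⟩ := key hx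
    have : y = ⟨x, hx⟩ := Subtype.ext hyx
    exact this ▸ hy
  have hker : φ.ker.map A.subtype = A ⊓ A.map (MulAut.conj b).toMonoidHom := by
    ext x
    simp only [mem_map, MonoidHom.mem_ker, coe_subtype, mem_inf]
    constructor
    · rintro ⟨a, ha, rfl⟩
      have h1 : (⟨c a, mem_sup_right (hcC a a.2)⟩ : X) ∈ I.subgroupOf X :=
        (QuotientGroup.eq_one_iff _).1 ha
      replace h1 : c a ∈ I := h1
      refine ⟨a.2, b⁻¹ * a * b, ?_, by simp [mul_assoc]⟩
      have := A.mul_mem h1.1 a.2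
      simpa [c, mul_assoc] using this
    · rintro ⟨hx, y, hy, rfl⟩
      refine ⟨⟨_, hx⟩, (QuotientGroup.eq_one_iff _).2 ?_, rfl⟩
      refine hB' _ ?_ (hCB (hcC _ hx))
      show b⁻¹ * (b * y * b⁻¹) * b * (b * y * b⁻¹)⁻¹ ∈ A
      have : b⁻¹ * (b * y * b⁻¹) * b * (b * y * b⁻¹)⁻¹ = y * (b * y * b⁻¹)⁻¹ := by group
      rw [this]
      exact A.mul_mem hy (A.inv_mem hx)
  have hkercard : Nat.card φ.ker = Nat.card I := by
    rw [Nat.card_congr (equivMapOfInjective φ.ker _ A.subtype_injective).toEquiv, hker,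
      Nat.card_congr (equivMapOfInjective _ (MulAut.conj (b⁻¹)).toMonoidHom (MulAut.conj (b⁻¹)).injective).toEquiv,
      map_inf _ _ (MulAut.conj (b⁻¹)).toMonoidHom (MulAut.conj (b⁻¹)).injective, map_map]
    have : ((MulAut.conj (b⁻¹)).toMonoidHom.comp (MulAut.conj b).toMonoidHom) = MonoidHom.id G := by
      ext; simp [mul_assoc]
    rw [this, map_id, inf_comm]
  have hcard : Nat.card X = Nat.card A := by
    have h1 := card_mul_index φ.ker
    rw [index_ker, hsurj, Subgroup.card_top, hkercard, ← index_eq_card] at h1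
    rw [← h1, ← card_mul_index (I.subgroupOf X),
      Nat.card_congr (subgroupOfEquivOfLe (le_sup_left : I ≤ X)).toEquiv]
  have hXH : X ≤ H := sup_le hIle hCH
  have hbX : b ∈ normalizer ((X : Subgroup G) : Set G) := by
    rw [← inv_mem_iff, mem_normalizer_iff_map_conj_eq]
    refine eq_of_le_of_card_ge ?_
      (Nat.card_congr (equivMapOfInjective _ _ (MulAut.conj b⁻¹).injective).toEquiv).le
    rw [hX, Subgroup.map_sup]
    refine sup_le ?_ ?_
    · rintro _ ⟨i, hi, rfl⟩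
      have : b⁻¹ * i * b⁻¹⁻¹ = c i * i := by simp only [c]; group
      show b⁻¹ * i * b⁻¹⁻¹ ∈ I ⊔ C
      rw [this]
      exact mul_mem (mem_sup_right (hcC i hi.1)) (mem_sup_left hi)
    · rintro _ ⟨z, hz, rfl⟩
      show b⁻¹ * z * b⁻¹⁻¹ ∈ I ⊔ C
      have : b⁻¹ * z * b⁻¹⁻¹ = ⁅b⁻¹, z⁆ * z := by rw [commutatorElement_def]; group
      rw [this]
      refine mul_mem (mem_sup_left (hB' _ (hBA ?_) ?_)) (mem_sup_right hz)
      · exact commutator_mem_commutator (B.inv_mem hb) (hCB hz)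
      · exact B.mul_mem (B.mul_mem (B.mul_mem (B.inv_mem hb) (hCB hz)) (B.inv_mem (B.inv_mem hb)))
          (B.inv_mem (hCB hz))
  have hNX : N ≤ normalizer ((X : Subgroup G) : Set G) := by
    intro g hg
    rw [mem_normalizer_iff_map_conj_eq]
    refine eq_of_le_of_card_ge ?_
      (Nat.card_congr (equivMapOfInjective _ _ (MulAut.conj g).injective).toEquiv).le
    rw [hX, Subgroup.map_sup]
    refine sup_le ?_ ?_
    · rintro _ ⟨i, hi, rfl⟩
      exact mem_sup_left ⟨conj_mem le_rfl hg hi.1, conj_mem hNnAb hg hi.2⟩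
    · rw [hC, MonoidHom.map_closure, Subgroup.closure_le]
      rintro _ ⟨_, ⟨a, ha, rfl⟩, rfl⟩
      set n := g * b * g⁻¹ * b⁻¹ with hn
      have hnN : n ∈ N := by
        have : n = g * (b * g⁻¹ * b⁻¹) := by rw [hn]; group
        rw [this]
        exact mul_mem hg (hbNconj' _ (inv_mem hg))
      have hnB : n ∈ B := B.mul_mem (Subgroup.Normal.conj_mem ‹_› b hb g) (B.inv_mem hb)
      set a' := g * a * g⁻¹ with ha'
      have haA : a' ∈ A := conj_mem le_rfl hg ha
      have hm : n⁻¹ * a' * n * a'⁻¹ ∈ A ⊓ B := by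
        constructor
        · have := conj_mem (le_refl N) (inv_mem hnN) haA
          rw [inv_inv] at this
          exact A.mul_mem this (A.inv_mem haA)
        · have : n⁻¹ * a' * n * a'⁻¹ = n⁻¹ * (a' * n * a'⁻¹) := by group
          rw [this]
          exact B.mul_mem (B.inv_mem hnB) (Subgroup.Normal.conj_mem ‹_› n hnB a')
      show g * (b⁻¹ * a * b * a⁻¹) * g⁻¹ ∈ I ⊔ C
      have : g * (b⁻¹ * a * b * a⁻¹) * g⁻¹ = (b⁻¹ * (n⁻¹ * a' * n * a'⁻¹) * b) * c a' := by
        simp only [c, ha', hn]; group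
      rw [this]
      refine mul_mem (mem_sup_left (hB' _ ?_ ?_)) (mem_sup_right (hcC a' haA))
      · have h2 : b⁻¹ * (n⁻¹ * a' * n * a'⁻¹) * b
            = ⁅b⁻¹, n⁻¹ * a' * n * a'⁻¹⁆ * (n⁻¹ * a' * n * a'⁻¹) := by
          rw [commutatorElement_def]; group
        rw [h2]
        exact A.mul_mem (hBA (commutator_mem_commutator (B.inv_mem hb) hm.2)) hm.1
      · have := Subgroup.Normal.conj_mem (‹_› : B.Normal) _ hm.2 b⁻¹
        simpa using this
  suffices hmain : Nat.card ↥X = Nat.card A ∧ IsMulCommutative ↥X ∧ ⁅B, B⁆ ≤ X ∧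
      A ⊓ B < X ⊓ B ∧ X ⊓ B < B ∧ A ≤ normalizer ((X : Subgroup G) : Set G) ∧
      X ≤ normalizer (A : Set G) ∧ b ∈ normalizer ((X : Subgroup G) : Set G) ∧
      normalizer (A : Set G) < normalizer ((X : Subgroup G) : Set G) ∧
      (p ≠ 2 → Monoid.exponent ↥X ∣ Monoid.exponent A) ∧
      (∀ D : Subgroup G, D.Normal → A ≤ D → X ≤ D) by
    rw [← hrep] at hmain
    obtain ⟨h1, h2, h3, h4, h5, h6, h7, h8, h9, h10, h11⟩ := hmain
    exact ⟨h1, h2, h3, h4, h5, h6, h7, h8, h9, h10, h11⟩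
  refine ⟨hcard, hXmc, fun x hx => mem_sup_left (hB' x (hBA hx) (commutator_le_self B hx)), ?_, ?_,
    hAN.trans hNX, hXH.trans hHN, hbX, ?_, fun hp2 => ?_, fun D hD hAD => ?_⟩
  · refine lt_of_le_of_ne (fun x hx => ⟨mem_sup_left (hB' x hx.1 hx.2), hx.2⟩) fun h => hbA ?_
    have h' : C ≤ A := fun z hz => (h.ge ⟨mem_sup_right hz, hCB hz⟩).1
    rw [← inv_mem_iff, mem_normalizer_iff_map_conj_eq]
    refine eq_of_le_of_card_ge ?_
      (Nat.card_congr (equivMapOfInjective _ _ (MulAut.conj b⁻¹).injective).toEquiv).le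
    rintro _ ⟨a, ha, rfl⟩
    have := A.mul_mem (h' (hcC a ha)) ha
    simpa [c, mul_assoc] using this
  · refine lt_of_le_of_ne inf_le_right fun h => hbA ?_
    exact hHN (hXH (h.ge hb).1)
  · exact lt_of_le_of_ne hNX fun h => hbA (h.ge hbX)
  · rw [Monoid.exponent_dvd_iff_forall_pow_eq_one]
    set e := Monoid.exponent A with he
    have hAe : ∀ a ∈ A, a ^ e = 1 := fun a ha =>
      congrArg Subtype.val (Monoid.pow_exponent_eq_one (⟨a, ha⟩ : A))
    have hodd : Odd e := by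
      obtain ⟨k, hk⟩ := (isPGroup_iff_exponent_eq_pow (p := p)).1 (hS.to_subgroup A)
      rw [he, hk]
      exact ((Fact.out : p.Prime).odd_of_ne_two hp2).pow
    let K : Subgroup G :=
      { carrier := {x | x ∈ X ∧ x ^ e = 1}
        one_mem' := ⟨one_mem _, one_pow _⟩
        mul_mem' := fun {u v} hu hv => ⟨mul_mem hu.1 hv.1, by
          have hcm : Commute u v := comm_of_mem hXmc hu.1 hv.1
          rw [hcm.mul_pow, hu.2, hv.2, mul_one]⟩
        inv_mem' := fun {u} hu => ⟨inv_mem hu.1, by rw [inv_pow, hu.2, inv_one]⟩ }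
    have hle : X ≤ K := by
      refine sup_le (fun i hi => ⟨mem_sup_left hi, hAe i hi.1⟩) ((Subgroup.closure_le _).2 ?_)
      rintro _ ⟨a, ha, rfl⟩
      refine ⟨mem_sup_right (hcC a ha), ?_⟩
      -- compute inside `H`
      let x : H := ⟨b⁻¹ * a * b, mem_sup_right (hconjAb a ha)⟩
      let y : H := ⟨a⁻¹, mem_sup_left (A.inv_mem ha)⟩
      have hI' : ⁅(y : G), (x : G)⁆ ∈ I := by
        rw [← commutatorElement_inv]
        exact inv_mem (hCA _ x.2 _ (A.inv_mem ha))
      have hyx : ⁅y, x⁆ ∈ center H := mem_center_iff.2 fun z =>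
        Subtype.ext (hIcentral _ hI' z z.2)
      have := congrArg Subtype.val (CfsgLib.PGroups.mul_pow_of_central_odd hyx hodd
        (Subtype.ext (hAe _ hI'.1)))
      simp only [SubmonoidClass.coe_pow, Subgroup.coe_mul, x, y] at this
      rw [this, inv_pow, hAe a ha, inv_one, mul_one,
        show b⁻¹ * a * b = b⁻¹ * a * b⁻¹⁻¹ by rw [inv_inv], conj_pow, hAe a ha, mul_one,
        mul_inv_cancel]
    intro g
    exact Subtype.ext (hle g.2).2
  · refine sup_le (inf_le_left.trans hAD) ((Subgroup.closure_le _).2 ?_)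
    rintro _ ⟨a, ha, rfl⟩
    have : b⁻¹ * a * b * a⁻¹ = b⁻¹ * a * b⁻¹⁻¹ * a⁻¹ := by group
    rw [this]
    exact D.mul_mem (hD.conj_mem a (hAD ha) b⁻¹) (D.inv_mem (hAD ha))

end CfsgLib.PLocal
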