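/-
A lower bound for the degrees of representations of a group containing the unipotent radical of the long
root parabolic of a triality twisted group, in terms of the relations between a few of its elements.
-/
import Mathlib

set_option autoImplicit false
set_option linter.unusedSectionVars false

namespace CfsgLib.PLocal.Triality

open Module

section Proj

variable {G V A : Type*} [Group G] [AddCommGroup V] [Module ℂ V] [AddCommGroup A] [Fintype A]
variable (ρ : Representation ℂ G V) (φ : AddChar A G) (χ : AddChar A ℂ) (P : Module.End ℂ V)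

/-- the projection onto the `χ`-eigenspace of `φ` inside the range of `P` -/
noncomputable def proj : Module.End ℂ V :=
  (Fintype.card A : ℂ)⁻¹ • ∑ a : A, χ (-a) • (ρ (φ a) * P)

theorem card_ne_zero' {B : Type*} [Fintype B] [Nonempty B] : (Fintype.card B : ℂ) ≠ 0 :=
  Nat.cast_ne_zero.2 Fintype.card_ne_zero

theorem map_mul_proj (b : A) : ρ (φ b) * proj ρ φ χ P = χ b • proj ρ φ χ P := by
  unfold proj
  rw [mul_smul_comm, Finset.mul_sum, smul_comm (χ b) (M := ℂ)]
  congr 1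
  rw [Finset.smul_sum]
  refine Fintype.sum_equiv (Equiv.addLeft b) _ _ fun a => ?_
  rw [mul_smul_comm, ← mul_assoc, ← map_mul, ← AddChar.map_add_eq_mul, smul_smul, Equiv.coe_addLeft,
    ← AddChar.map_add_eq_mul, show b + -(b + a) = -a by abel]

variable {P} (hP : P * P = P) (hc : ∀ a, Commute (ρ (φ a)) P)

include hP hc in
theorem proj_left : P * proj ρ φ χ P = proj ρ φ χ P := by
  rw [proj, mul_smul_comm, Finset.mul_sum]
  congr 1
  refine Finset.sum_congr rfl fun a _ => ?_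
  rw [mul_smul_comm, ← mul_assoc, ← (hc a).eq, mul_assoc, hP]

include hP hc in
theorem proj_idem : proj ρ φ χ P * proj ρ φ χ P = proj ρ φ χ P := by
  nth_rewrite 1 [proj]
  rw [smul_mul_assoc, Finset.sum_mul]
  have : ∀ a : A, (χ (-a) • (ρ (φ a) * P)) * proj ρ φ χ P = proj ρ φ χ P := fun a => by
    rw [smul_mul_assoc, mul_assoc, proj_left ρ φ χ hP hc, map_mul_proj, smul_smul,
      ← AddChar.map_add_eq_mul, neg_add_cancel, AddChar.map_zero_eq_one, one_smul]
  rw [Finset.sum_congr rfl fun a _ => this a, Finset.sum_const, Finset.card_univ, ← Nat.cast_smul_eq_nsmul ℂ,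
    smul_smul, inv_mul_cancel₀ card_ne_zero', one_smul]

include hP hc in
theorem proj_commute {T : Module.End ℂ V} (h : ∀ a, Commute T (ρ (φ a) * P)) :
    Commute T (proj ρ φ χ P) := by
  have _ := hP
  have _ := hc
  exact (Commute.sum_right _ _ _ fun a _ => (h a).smul_right _).smul_right _

theorem proj_apply_of_eigen {v : V} (hv : P v = v) (he : ∀ a, ρ (φ a) v = χ a • v) :
    proj ρ φ χ P v = v := by
  have : ∀ a : A, χ (-a) • ρ (φ a) (P v) = v := fun a => by
    rw [hv, he, smul_smul, ← AddChar.map_add_eq_mul, neg_add_cancel, AddChar.map_zero_eq_one, one_smul]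
  rw [proj, LinearMap.smul_apply, LinearMap.sum_apply]
  simp only [LinearMap.smul_apply, Module.End.mul_apply, this, Finset.sum_const, Finset.card_univ]
  rw [← Nat.cast_smul_eq_nsmul ℂ, smul_smul, inv_mul_cancel₀ card_ne_zero', one_smul]

theorem eigen_of_proj_apply {v : V} (hv : proj ρ φ χ P v = v) (b : A) : ρ (φ b) v = χ b • v := by
  conv_lhs => rw [← hv]
  rw [← Module.End.mul_apply, map_mul_proj, LinearMap.smul_apply, hv]

theorem sum_proj : ∑ ψ : AddChar A ℂ, proj ρ φ ψ P = P := by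
  classical
  simp only [proj]
  rw [← Finset.smul_sum, Finset.sum_comm]
  simp only [← Finset.sum_smul, AddChar.sum_apply_eq_ite, neg_eq_zero, ite_smul, zero_smul]
  rw [Finset.sum_ite_eq' Finset.univ (0 : A), if_pos (Finset.mem_univ _), AddChar.map_zero_eq_one, map_one,
    one_mul, smul_smul, inv_mul_cancel₀ card_ne_zero', one_smul]

variable [FiniteDimensional ℂ V]

/-- the trace of a projection on a subspace where all non-trivial elements have equal trace -/
theorem trace_proj {d c : ℂ} (hd : LinearMap.trace ℂ V P = d)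
    (hc' : ∀ a, a ≠ 0 → LinearMap.trace ℂ V (ρ (φ a) * P) = c) :
    (Fintype.card A : ℂ) * LinearMap.trace ℂ V (proj ρ φ χ P) = (d - c) + c * ∑ a : A, χ a := by
  classical
  rw [proj, map_smul, map_sum, smul_eq_mul, mul_inv_cancel_left₀ card_ne_zero']
  have : ∀ a : A, LinearMap.trace ℂ V (χ (-a) • (ρ (φ a) * P)) = (if a = 0 then d - c else 0) + c * χ (-a) := by
    intro a
    rw [map_smul, smul_eq_mul]
    split_ifs with h
    · subst h
      rw [AddChar.map_zero_eq_one, map_one, one_mul, hd, neg_zero, AddChar.map_zero_eq_one]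
      ring
    · rw [hc' a h]; ring
  rw [Finset.sum_congr rfl fun a _ => this a, Finset.sum_add_distrib, Finset.sum_ite_eq',
    if_pos (Finset.mem_univ _), ← Finset.mul_sum]
  congr 2
  exact Fintype.sum_equiv (Equiv.neg A) _ _ fun a => rfl

end Proj

section Idem

variable {V : Type*} [AddCommGroup V] [Module ℂ V] [FiniteDimensional ℂ V]

theorem trace_idem {P : Module.End ℂ V} (hP : P * P = P) :
    LinearMap.trace ℂ V P = (finrank ℂ (LinearMap.range P) : ℂ) := by
  refine LinearMap.IsProj.trace ⟨fun x => LinearMap.mem_range_self P x, ?_⟩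
  rintro _ ⟨y, rfl⟩
  exact LinearMap.congr_fun hP y

theorem one_le_of_fixed {P : Module.End ℂ V} {n : ℕ} (hP : P * P = P) (hn : LinearMap.trace ℂ V P = (n : ℂ))
    {v : V} (hv : P v = v) (h0 : v ≠ 0) : 1 ≤ n := by
  rw [trace_idem hP, Nat.cast_inj] at hn
  rw [← hn, Submodule.one_le_finrank_iff]
  intro h
  exact h0 (by simpa [hv] using (Submodule.eq_bot_iff _).1 h _ (LinearMap.mem_range_self P v))

theorem eq_one_of_trace_eq {P : Module.End ℂ V} (hP : P * P = P)
    (hn : LinearMap.trace ℂ V P = (finrank ℂ V : ℂ)) : P = 1 := by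
  rw [trace_idem hP, Nat.cast_inj] at hn
  ext x
  obtain ⟨y, rfl⟩ : x ∈ LinearMap.range P := by rw [Submodule.eq_top_of_finrank_eq hn]; trivial
  exact LinearMap.congr_fun hP y

end Idem

section Trace

variable {G V : Type*} [Group G] [AddCommGroup V] [Module ℂ V]

theorem trace_conj (ρ : Representation ℂ G V) {g h h' : G} (e : g * h * g⁻¹ = h') {P : Module.End ℂ V}
    (hg : Commute (ρ g) P) : LinearMap.trace ℂ V (ρ h' * P) = LinearMap.trace ℂ V (ρ h * P) := by
  have hg' : Commute (ρ g⁻¹) P := by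
    refine (?_ : ρ g⁻¹ * P = P * ρ g⁻¹)
    calc ρ g⁻¹ * P = ρ g⁻¹ * (P * (ρ g * ρ g⁻¹)) := by rw [← map_mul, mul_inv_cancel, map_one, mul_one]
      _ = ρ g⁻¹ * (P * ρ g) * ρ g⁻¹ := by simp only [mul_assoc]
      _ = ρ g⁻¹ * (ρ g * P) * ρ g⁻¹ := by rw [hg.eq]
      _ = P * ρ g⁻¹ := by rw [← mul_assoc, ← map_mul, inv_mul_cancel, map_one, one_mul]
  rw [← e, map_mul ρ (g * h), map_mul ρ g, mul_assoc (ρ g * ρ h), hg'.eq, ← mul_assoc, LinearMap.trace_mul_comm,
    ← mul_assoc, ← mul_assoc, ← map_mul, inv_mul_cancel, map_one, one_mul]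

end Trace

variable (F K G : Type*) [Field F] [Field K] [Group G]

/-- the relations used in the bound -/
structure Data where
  /-- long root subgroup of the highest root -/
  z : AddChar F G
  /-- long root subgroup of the next highest root -/
  y : AddChar F G
  /-- long root subgroup of the fundamental long root -/
  x : AddChar F G
  /-- the higher short class -/
  m : AddChar K G
  /-- the lower short class -/
  b : AddChar K G
  /-- the short class in the Levi factor -/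
  A : K → G
  /-- the parameter of a commutator -/
  S : K → K → F
  /-- the cubic form -/
  N : K → F
  hzy : ∀ i a, Commute (z i) (y a)
  hzx : ∀ i a, Commute (z i) (x a)
  hzm : ∀ i s, Commute (z i) (m s)
  hzb : ∀ i u, Commute (z i) (b u)
  hzA : ∀ i t, Commute (z i) (A t)
  hyA : ∀ a t, Commute (y a) (A t)
  hxm : ∀ a s, Commute (x a) (m s)
  hym : ∀ a s, Commute (y a) (m s)
  hby : ∀ u a, Commute (b u) (y a)
  hxy : ∀ a c, x c * y a = y a * x c * z (a * c)
  hbm : ∀ u s, ∃ i, b u * m s = m s * b u * z i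
  torus : ∀ t, t ≠ 0 → ∃ g, g * z 1 * g⁻¹ = z t
  reflB : ∀ a, ∃ g, g * y a * g⁻¹ = z a
  hAm : ∀ t s, A t * m s * (A t)⁻¹ = m s * y (S t s)
  hS : ∀ s, s ≠ 0 → ∀ a, ∃ t, S t s = a
  hAx : ∀ t a, ∃ u s i, A t * x a * (A t)⁻¹ = x a * b u * m s * y (-(a * N t)) * z i
  hN : Function.Surjective N
  scale : ∃ (g : G) (k : K), k ≠ 1 ∧ (∀ i, Commute g (z i)) ∧ (∀ a, Commute g (y a)) ∧
    (∀ s, ∃ s', m s * g = g * m s') ∧ ∀ u, g * b u = b (k * u) * g
  reflA : ∃ n : G, (∀ a, n * x a = y (-a) * n) ∧ (∀ a, n * y a = x a * n) ∧ ∀ i, Commute n (z i)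

namespace Data

variable {F K G} [Fintype F] [Fintype K] (D : Data F K G)
variable {V : Type*} [AddCommGroup V] [Module ℂ V] [FiniteDimensional ℂ V] (ρ : Representation ℂ G V)

/-- the projection onto the fixed space of `z` -/
noncomputable def e0 : Module.End ℂ V := proj ρ D.z 0 1

/-- the projection onto the fixed space of `z` and `y` -/
noncomputable def e1 : Module.End ℂ V := proj ρ D.y 0 (D.e0 ρ)

/-- the projection onto an eigenspace of `y` fixed by `z` -/
noncomputable def eY (χ : AddChar F ℂ) : Module.End ℂ V := proj ρ D.y χ (D.e0 ρ)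

/-- the projection onto the fixed space of `m` in the range of `eY` -/
noncomputable def eL (χ : AddChar F ℂ) : Module.End ℂ V := proj ρ D.m 0 (D.eY ρ χ)

theorem e0_idem : D.e0 ρ * D.e0 ρ = D.e0 ρ :=
  proj_idem ρ D.z 0 (one_mul 1) fun _ => Commute.one_right _

theorem e0_comm {g : G} (h : ∀ i, Commute g (D.z i)) : Commute (ρ g) (D.e0 ρ) :=
  proj_commute ρ D.z 0 (one_mul 1) (fun _ => Commute.one_right _) fun i => by
    rw [mul_one]; exact (h i).map ρ

theorem z_e0 (i : F) : ρ (D.z i) * D.e0 ρ = D.e0 ρ := by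
  rw [e0, map_mul_proj, AddChar.zero_apply, one_smul]

theorem y_e0 (a : F) : Commute (ρ (D.y a)) (D.e0 ρ) := D.e0_comm ρ fun i => (D.hzy i a).symm

theorem eY_idem (χ : AddChar F ℂ) : D.eY ρ χ * D.eY ρ χ = D.eY ρ χ :=
  proj_idem ρ D.y χ (D.e0_idem ρ) (D.y_e0 ρ)

theorem eY_comm (χ : AddChar F ℂ) {g : G} (hz : ∀ i, Commute g (D.z i)) (hy : ∀ a, Commute g (D.y a)) :
    Commute (ρ g) (D.eY ρ χ) :=
  proj_commute ρ D.y χ (D.e0_idem ρ) (D.y_e0 ρ) fun a => ((hy a).map ρ).mul_right (D.e0_comm ρ hz)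

theorem m_eY (χ : AddChar F ℂ) (s : K) : Commute (ρ (D.m s)) (D.eY ρ χ) :=
  D.eY_comm ρ χ (fun i => (D.hzm i s).symm) fun a => (D.hym a s).symm

theorem eL_idem (χ : AddChar F ℂ) : D.eL ρ χ * D.eL ρ χ = D.eL ρ χ :=
  proj_idem ρ D.m 0 (D.eY_idem ρ χ) (D.m_eY ρ χ)

theorem mem_L {χ : AddChar F ℂ} {v : V} (hz : ∀ i, ρ (D.z i) v = v) (hy : ∀ a, ρ (D.y a) v = χ a • v)
    (hm : ∀ s, ρ (D.m s) v = v) : D.eL ρ χ v = v := by
  have h0 : D.e0 ρ v = v :=
    proj_apply_of_eigen ρ D.z 0 rfl fun i => by rw [AddChar.zero_apply, one_smul, hz]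
  exact proj_apply_of_eigen ρ D.m 0 (proj_apply_of_eigen ρ D.y χ h0 hy) fun s => by
    rw [AddChar.zero_apply, one_smul, hm]

theorem of_mem_L {χ : AddChar F ℂ} {v : V} (h : D.eL ρ χ v = v) :
    (∀ i, ρ (D.z i) v = v) ∧ (∀ a, ρ (D.y a) v = χ a • v) ∧ ∀ s, ρ (D.m s) v = v := by
  have hY : D.eY ρ χ v = v := by
    conv_lhs => rw [← h]
    rw [← Module.End.mul_apply]
    conv_rhs => rw [← h]
    rw [eL, proj_left ρ D.m 0 (D.eY_idem ρ χ) (D.m_eY ρ χ)]
  have h0 : D.e0 ρ v = v := by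
    conv_lhs => rw [← hY]
    rw [← Module.End.mul_apply]
    conv_rhs => rw [← hY]
    rw [eY, proj_left ρ D.y χ (D.e0_idem ρ) (D.y_e0 ρ)]
  refine ⟨fun i => ?_, fun a => eigen_of_proj_apply ρ D.y χ hY a, fun s => ?_⟩
  · rw [eigen_of_proj_apply ρ D.z 0 h0 i, AddChar.zero_apply, one_smul]
  · rw [eigen_of_proj_apply ρ D.m 0 h s, AddChar.zero_apply, one_smul]

/-- the common trace of the non-trivial long root elements -/
noncomputable def cz : ℂ := LinearMap.trace ℂ V (ρ (D.z 1))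

theorem trace_z {t : F} (ht : t ≠ 0) : LinearMap.trace ℂ V (ρ (D.z t) * 1) = D.cz ρ := by
  obtain ⟨g, hg⟩ := D.torus t ht
  rw [trace_conj ρ hg (Commute.one_right _), mul_one, cz]

theorem trace_y {a : F} (ha : a ≠ 0) : LinearMap.trace ℂ V (ρ (D.y a) * 1) = D.cz ρ := by
  obtain ⟨g, hg⟩ := D.reflB a
  rw [← trace_conj ρ hg (Commute.one_right _)]
  exact D.trace_z ρ ha

theorem trace_y_e0 {a : F} (ha : a ≠ 0) : LinearMap.trace ℂ V (ρ (D.y a) * D.e0 ρ) = D.cz ρ := by
  have h : ∀ i, LinearMap.trace ℂ V (ρ (D.y a) * ρ (D.z i)) = D.cz ρ := by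
    intro i
    have e : D.x (a⁻¹ * i) * D.y a * (D.x (a⁻¹ * i))⁻¹ = D.y a * D.z i := by
      rw [D.hxy, mul_inv_cancel_left₀ ha, mul_assoc (D.y a), ← (D.hzx i _).eq]
      group
    rw [← map_mul, ← mul_one (ρ _), trace_conj ρ e (Commute.one_right _), D.trace_y ρ ha]
  rw [e0, proj, mul_smul_comm, Finset.mul_sum, map_smul, map_sum]
  simp only [mul_one, AddChar.zero_apply, one_smul, h, Finset.sum_const, Finset.card_univ]
  rw [nsmul_eq_mul, smul_eq_mul, inv_mul_cancel_left₀ card_ne_zero']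

theorem trace_m_eY {χ : AddChar F ℂ} (hχ : χ ≠ 0) {s : K} (hs : s ≠ 0) :
    LinearMap.trace ℂ V (ρ (D.m s) * D.eY ρ χ) = 0 := by
  obtain ⟨a, ha⟩ : ∃ a, χ a ≠ 1 := by
    by_contra h
    push Not at h
    exact hχ (DFunLike.ext _ _ fun a => by rw [h, AddChar.zero_apply])
  obtain ⟨t, ht⟩ := D.hS s hs a
  have h := trace_conj ρ (D.hAm t s) (D.eY_comm ρ χ (fun i => (D.hzA i t).symm) fun a => (D.hyA a t).symm)
  rw [ht, map_mul ρ (D.m s), mul_assoc, eY, map_mul_proj, mul_smul_comm, map_smul, smul_eq_mul] at h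
  by_contra h0
  exact ha (mul_eq_right₀ (a := χ a) h0 |>.1 h)

/-- a vector of the eigenspace of `χ` fixed by `x` -/
theorem exists_fixed_x {χ : AddChar F ℂ} (hχ : χ ≠ 0) (h1 : LinearMap.trace ℂ V (D.eL ρ χ) = 1) :
    ∃ w : V, w ≠ 0 ∧ (∀ i, ρ (D.z i) w = w) ∧ (∀ a, ρ (D.y a) w = χ a • w) ∧ ∀ a, ρ (D.x a) w = w := by
  classical
  have hr : finrank ℂ (LinearMap.range (D.eL ρ χ)) = 1 := by
    have := (trace_idem (D.eL_idem ρ χ)).symm.trans h1
    exact_mod_cast this
  obtain ⟨⟨v, hvm⟩, hv0, hv1⟩ := finrank_eq_one_iff'.1 hr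
  have hv : D.eL ρ χ v = v := by
    obtain ⟨u, rfl⟩ := hvm
    exact LinearMap.congr_fun (D.eL_idem ρ χ) u
  have hv0' : v ≠ 0 := fun h => hv0 (Subtype.ext h)
  obtain ⟨vz, vy, vm⟩ := D.of_mem_L ρ hv
  have scal : ∀ u : V, D.eL ρ χ u = u → ∃ c : ℂ, c • v = u := fun u hu => by
    obtain ⟨c, hc⟩ := hv1 ⟨u, u, hu⟩
    exact ⟨c, congrArg Subtype.val hc⟩
  have app : ∀ g h : G, ρ (g * h) v = ρ g (ρ h v) := fun g h => by rw [map_mul]; rfl
  -- `x` acts on the line by a character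
  have hx : ∀ c, ∃ l : ℂ, l • v = ρ (D.x c) v := fun c => scal _ (D.mem_L ρ
    (fun i => by rw [← app, (D.hzx i c).eq, app, vz])
    (fun a => by
      have e : D.y a * D.x c = D.x c * D.y a * D.z (-(a * c)) := by
        rw [D.hxy, mul_assoc, ← AddChar.map_add_eq_mul, add_neg_cancel, AddChar.map_zero_eq_one, mul_one]
      rw [← app, e, app, vz, app, vy, map_smul])
    (fun s => by rw [← app, ← (D.hxm c s).eq, app, vm]))
  choose l hl using hx
  have hl0 : l 0 = 1 := smul_left_injective ℂ hv0' (by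
    show l 0 • v = (1 : ℂ) • v
    rw [hl, AddChar.map_zero_eq_one, map_one, one_smul]; rfl)
  have hladd : ∀ a c, l (a + c) = l a * l c := fun a c => smul_left_injective ℂ hv0' (by
    show l (a + c) • v = (l a * l c) • v
    rw [hl, AddChar.map_add_eq_mul, app, ← hl c, map_smul, ← hl a, smul_smul, mul_comm])
  obtain ⟨c0, hc0⟩ : ∃ c0, χ.mulShift c0 = ⟨l, hl0, hladd⟩ := by
    refine ((Fintype.bijective_iff_injective_and_card _).2 ⟨?_, (AddChar.card_eq (α := F)).symm⟩).2 _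
    · intro c c' h
      by_contra hne
      refine hχ (DFunLike.ext _ _ fun r => ?_)
      have := DFunLike.congr_fun h ((c - c')⁻¹ * r)
      rw [AddChar.mulShift_apply, AddChar.mulShift_apply] at this
      rw [AddChar.zero_apply, show r = c * ((c - c')⁻¹ * r) + -(c' * ((c - c')⁻¹ * r)) by
        rw [← sub_eq_add_neg, ← sub_mul, mul_inv_cancel_left₀ (sub_ne_zero.2 hne)], AddChar.map_add_eq_mul,
        this, ← AddChar.map_add_eq_mul, add_neg_cancel, AddChar.map_zero_eq_one]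
  -- `b` fixes the line
  have hb : ∀ u, ∃ l : ℂ, l • v = ρ (D.b u) v := fun u => scal _ (D.mem_L ρ
    (fun i => by rw [← app, (D.hzb i u).eq, app, vz])
    (fun a => by rw [← app, ← (D.hby u a).eq, app, vy, map_smul])
    (fun s => by
      obtain ⟨i, hi⟩ := D.hbm u s
      have e : D.m s * D.b u = D.b u * D.m s * D.z (-i) := by
        rw [hi, mul_assoc, ← AddChar.map_add_eq_mul, add_neg_cancel, AddChar.map_zero_eq_one, mul_one]
      rw [← app, e, app, vz, app, vm]))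
  choose μ hμ using hb
  have hμ1 : ∀ u, ρ (D.b u) v = v := by
    obtain ⟨g, k, hk, gz, gy, gm, gb⟩ := D.scale
    obtain ⟨cg, hcg⟩ := scal (ρ g v) (D.mem_L ρ
      (fun i => by rw [← app, ← (gz i).eq, app, vz])
      (fun a => by rw [← app, ← (gy a).eq, app, vy, map_smul])
      (fun s => by
        obtain ⟨s', hs'⟩ := gm s
        rw [← app, hs', app, vm]))
    have hcg0 : cg ≠ 0 := by
      rintro rfl
      rw [zero_smul] at hcg
      apply hv0'
      have := congrArg (ρ g⁻¹) hcg.symm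
      rwa [map_zero, ← app, inv_mul_cancel, map_one] at this
    intro u
    obtain ⟨u', rfl⟩ : ∃ u', u = (k - 1) * u' := ⟨(k - 1)⁻¹ * u, (mul_inv_cancel_left₀ (sub_ne_zero.2 hk) u).symm⟩
    have h1 : μ (k * u') = μ u' := by
      have := congrArg (fun g => ρ g v) (gb u')
      simp only [app] at this
      rw [← hμ, ← hcg, map_smul, map_smul, ← hμ, ← hcg, smul_smul, smul_smul] at this
      have := smul_left_injective ℂ hv0' this
      rw [mul_comm cg] at this
      exact (mul_right_cancel₀ hcg0 this).symm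
    have hne : μ u' ≠ 0 := by
      intro h
      apply hv0'
      have := congrArg (ρ (D.b u')⁻¹) (hμ u')
      rw [h, zero_smul, map_zero, ← app, inv_mul_cancel, map_one] at this
      exact this.symm
    rw [← hμ]
    have h2 : μ ((k - 1) * u') * μ u' = μ u' := smul_left_injective ℂ hv0' (by
      show (μ ((k - 1) * u') * μ u') • v = μ u' • v
      conv_rhs => rw [← h1, hμ, show k * u' = u' + (k - 1) * u' by ring, AddChar.map_add_eq_mul, app, ← hμ,
        map_smul, ← hμ, smul_smul])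
    rw [mul_left_eq_self₀.1 h2 |>.resolve_right hne, one_smul]
  obtain ⟨t, ht⟩ := D.hN c0
  refine ⟨ρ (D.A t)⁻¹ v, fun h => hv0' ?_, fun i => ?_, fun a => ?_, fun a => ?_⟩
  · have := congrArg (ρ (D.A t)) h
    rwa [map_zero, ← app, mul_inv_cancel, map_one] at this
  · rw [← app, (D.hzA i t).inv_right.eq, app, vz]
  · rw [← app, (D.hyA a t).inv_right.eq, app, vy, map_smul]
  · obtain ⟨u, s, i, e⟩ := D.hAx t a
    have e' : D.x a * (D.A t)⁻¹ = (D.A t)⁻¹ * (D.x a * D.b u * D.m s * D.y (-(a * D.N t)) * D.z i) := by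
      rw [← e]; group
    rw [← app, e', app, app, vz, app, vy]
    simp only [map_smul]
    rw [app, vm, app, hμ1, ← hl]
    simp only [map_smul, smul_smul]
    have : χ (-(a * D.N t)) * l a = 1 := by
      rw [show l a = χ (c0 * a) from ((DFunLike.congr_fun hc0 a).symm.trans (AddChar.mulShift_apply ..)),
        ← AddChar.map_add_eq_mul, ht, mul_comm a c0, neg_add_cancel, AddChar.map_zero_eq_one]
    rw [this, one_smul]

/-- the bound -/
theorem bound (q : ℕ) (hF : Fintype.card F = q) (hK : Fintype.card K = q ^ 3)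
    (hne : ∃ i, ρ (D.z i) ≠ 1) :
    q * (q ^ 4 - q ^ 2 + 1) ≤ finrank ℂ V ∨ finrank ℂ V = (q - 1) * (q ^ 4 + q ^ 3 + 1) := by
  classical
  obtain ⟨p, rfl⟩ : ∃ p, q = p + 1 := ⟨q - 1, by have := Fintype.one_lt_card (α := F); omega⟩
  have hs0 : ∑ a : F, (0 : AddChar F ℂ) a = ((p + 1 : ℕ) : ℂ) := by simp [hF]
  have hd : LinearMap.trace ℂ V (1 : Module.End ℂ V) = (finrank ℂ V : ℂ) := LinearMap.trace_one ℂ V
  have E0 := trace_proj ρ D.z 0 hd fun a => D.trace_z ρ (t := a)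
  rw [hF, hs0] at E0
  have E1 := trace_proj ρ D.y 0 (P := D.e0 ρ) rfl fun a => D.trace_y_e0 ρ (a := a)
  rw [hF, hs0] at E1
  -- the multiplicity
  have key : ∀ χ : AddChar F ℂ, χ ≠ 0 →
      ((p + 1 : ℕ) : ℂ) * ((p + 1 : ℕ) : ℂ) ^ 3 * LinearMap.trace ℂ V (D.eL ρ χ) =
        LinearMap.trace ℂ V (D.e0 ρ) - D.cz ρ := by
    intro χ hχ
    have a1 := trace_proj ρ D.y χ (P := D.e0 ρ) rfl fun a => D.trace_y_e0 ρ (a := a)
    have a2 := trace_proj ρ D.m 0 (P := D.eY ρ χ) rfl fun s => D.trace_m_eY ρ hχ (s := s)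
    rw [hF, AddChar.sum_eq_zero_iff_ne_zero.2 hχ, mul_zero, add_zero] at a1
    rw [hK, Nat.cast_pow, sub_zero, zero_mul, add_zero] at a2
    rw [mul_assoc, show D.eL ρ χ = proj ρ D.m 0 (D.eY ρ χ) from rfl, a2, ← a1]
    rfl
  obtain ⟨χ1, hχ1⟩ : ∃ χ : AddChar F ℂ, χ ≠ 0 := by
    have : Nontrivial (AddChar F ℂ) :=
      Fintype.one_lt_card_iff_nontrivial.1 (by rw [AddChar.card_eq]; exact Fintype.one_lt_card)
    exact exists_ne 0
  obtain ⟨m, hm⟩ : ∃ m : ℕ, LinearMap.trace ℂ V (D.eL ρ χ1) = m := ⟨_, trace_idem (D.eL_idem ρ χ1)⟩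
  have k1 := key χ1 hχ1
  rw [hm] at k1
  have e1idem : D.e1 ρ * D.e1 ρ = D.e1 ρ := proj_idem ρ D.y 0 (D.e0_idem ρ) (D.y_e0 ρ)
  obtain ⟨e, he⟩ : ∃ e : ℕ, LinearMap.trace ℂ V (D.e1 ρ) = e := ⟨_, trace_idem e1idem⟩
  rw [show proj ρ D.y 0 (D.e0 ρ) = D.e1 ρ from rfl, he] at E1
  rw [show proj ρ D.z 0 1 = D.e0 ρ from rfl] at E0
  set q' := ((p + 1 : ℕ) : ℂ) with hq'
  have hq0 : q' ≠ 0 := Nat.cast_ne_zero.2 (Nat.succ_ne_zero p)
  have hdim : (finrank ℂ V : ℂ) = e + (q' ^ 5 - q' ^ 3) * m := by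
    apply mul_left_cancel₀ hq0
    linear_combination -q' * E0 - E1 - (q' ^ 2 - 1) * k1
  have hdimN : finrank ℂ V + (p + 1) ^ 3 * m = e + (p + 1) ^ 5 * m := by
    apply Nat.cast_injective (R := ℂ)
    push_cast
    rw [hdim, hq']
    push_cast
    ring
  have hm0 : m ≠ 0 := by
    rintro rfl
    rw [Nat.cast_zero, mul_zero] at k1
    have he0 : LinearMap.trace ℂ V (D.e0 ρ) = finrank ℂ V := by
      linear_combination E0 + (q' - 1) * k1
    obtain ⟨i, hi⟩ := hne
    have := D.z_e0 ρ i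
    rw [eq_one_of_trace_eq (D.e0_idem ρ) he0, mul_one] at this
    exact hi this
  have hpow : (p + 1) ^ 3 ≤ (p + 1) ^ 5 := Nat.pow_le_pow_right (Nat.succ_pos p) (by norm_num)
  have hB : (p + 1) * ((p + 1) ^ 4 - (p + 1) ^ 2 + 1) + (p + 1) ^ 3 = (p + 1) ^ 5 + (p + 1) := by
    obtain ⟨r, hr⟩ := Nat.exists_eq_add_of_le
      (show (p + 1) ^ 2 ≤ (p + 1) ^ 4 from Nat.pow_le_pow_right (Nat.succ_pos p) (by norm_num))
    rw [hr, Nat.add_sub_cancel_left, show (p + 1) ^ 5 = (p + 1) * (p + 1) ^ 4 by ring, hr]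
    ring
  by_cases hm2 : 2 ≤ m
  · left
    have hle : p + 1 + (p + 1) ^ 3 ≤ (p + 1) ^ 5 := by
      have h2 : 2 ≤ p + 1 := by have := Fintype.one_lt_card (α := F); omega
      have h3 : p + 1 ≤ (p + 1) ^ 3 := Nat.le_self_pow (by norm_num) _
      have h4 : 4 * (p + 1) ^ 3 ≤ (p + 1) ^ 5 := by
        rw [pow_succ _ 4, pow_succ _ 3, mul_comm 4, mul_assoc ((p + 1) ^ 3)]
        exact Nat.mul_le_mul_left _ (Nat.mul_le_mul h2 h2)
      omega
    nlinarith [Nat.mul_le_mul_right m hpow, hdimN, hB]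
  have hm1 : m = 1 := by omega
  subst hm1
  -- the fixed space of `z` and `y` contains all non-trivial characters of `x`
  have hep : p ≤ e := by
    have hx : ∀ a, Commute (ρ (D.x a)) (D.e1 ρ) := fun a =>
      proj_commute ρ D.y 0 (D.e0_idem ρ) (D.y_e0 ρ) fun c => by
        have h1 : Commute (ρ (D.x a)) (D.e0 ρ) := D.e0_comm ρ fun i => (D.hzx i a).symm
        refine (?_ : ρ (D.x a) * (ρ (D.y c) * D.e0 ρ) = ρ (D.y c) * D.e0 ρ * ρ (D.x a))
        rw [← mul_assoc, ← map_mul, D.hxy, map_mul, map_mul, mul_assoc, z_e0, mul_assoc, h1.eq, ← mul_assoc]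
    choose n hn using fun ψ : AddChar F ℂ =>
      (⟨_, trace_idem (proj_idem ρ D.x ψ e1idem hx)⟩ : ∃ n : ℕ, LinearMap.trace ℂ V (proj ρ D.x ψ (D.e1 ρ)) = n)
    have hsum : ∑ ψ, n ψ = e := by
      apply Nat.cast_injective (R := ℂ)
      rw [Nat.cast_sum, ← he, ← sum_proj ρ D.x (P := D.e1 ρ), map_sum]
      exact Finset.sum_congr rfl fun ψ _ => (hn ψ).symm
    have hpos : ∀ ψ ∈ Finset.univ.erase (0 : AddChar F ℂ), 1 ≤ n ψ := by
      intro ψ hψ
      have hψ0 : ψ ≠ 0 := Finset.ne_of_mem_erase hψ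
      have h1 : LinearMap.trace ℂ V (D.eL ρ ψ) = 1 := by
        have k2 := key ψ hψ0
        rw [← k1, Nat.cast_one] at k2
        exact mul_left_cancel₀ (mul_ne_zero hq0 (pow_ne_zero 3 hq0)) k2
      obtain ⟨w, hw0, wz, wy, wx⟩ := D.exists_fixed_x ρ hψ0 h1
      obtain ⟨g, gx, gy, gz⟩ := D.reflA
      have app : ∀ g h : G, ρ (g * h) w = ρ g (ρ h w) := fun g h => by rw [map_mul]; rfl
      have hz' : ∀ i, ρ (D.z i) (ρ g w) = ρ g w := fun i => by rw [← app, ← (gz i).eq, app, wz]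
      have hy' : ∀ a, ρ (D.y a) (ρ g w) = ρ g w := fun a => by
        rw [← app, ← neg_neg a, ← gx, app, wx]
      have hx' : ∀ a, ρ (D.x a) (ρ g w) = ψ a • ρ g w := fun a => by
        rw [← app, ← gy, app, wy, map_smul]
      have hf : D.e1 ρ (ρ g w) = ρ g w := proj_apply_of_eigen ρ D.y 0
        (proj_apply_of_eigen ρ D.z 0 rfl fun i => by rw [AddChar.zero_apply, one_smul, hz'])
        fun a => by rw [AddChar.zero_apply, one_smul, hy']
      refine one_le_of_fixed (proj_idem ρ D.x ψ e1idem hx) (hn ψ) (proj_apply_of_eigen ρ D.x ψ hf hx')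
        fun h => hw0 ?_
      have := congrArg (ρ g⁻¹) h
      rwa [map_zero, ← app, inv_mul_cancel, map_one] at this
    have hc := Finset.card_nsmul_le_sum _ _ _ hpos
    rw [Finset.card_erase_of_mem (Finset.mem_univ _), Finset.card_univ, AddChar.card_eq, hF, smul_eq_mul,
      mul_one, Nat.add_sub_cancel] at hc
    exact hc.trans ((Finset.sum_le_sum_of_subset (Finset.erase_subset _ _)).trans hsum.le)
  rw [mul_one, mul_one] at hdimN
  rcases eq_or_lt_of_le hep with h | h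
  · right
    have : (p + 1 - 1) * ((p + 1) ^ 4 + (p + 1) ^ 3 + 1) + (p + 1) ^ 3 = p + (p + 1) ^ 5 := by
      rw [Nat.add_sub_cancel]; ring
    omega
  · left; omega

end Data

end CfsgLib.PLocal.Triality
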