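import Cfsg.Agent.Lib.PLocal.FFStatements
import Cfsg.Agent.Lib.PLocal.Factorization
import Cfsg.Agent.Lib.PLocal.PSolvable
import Cfsg.Agent.Lib.PGroups.FrattiniModule
import Mathlib.GroupTheory.SemidirectProduct

/-!
# The action of a group on a normal elementary abelian subgroup, inside a holomorph
-/

set_option autoImplicit false

namespace CfsgLib.PLocal

open Subgroup
open scoped commutatorElement

variable {G : Type*} [Group G] {p : ℕ}

theorem norm_char {D H : Subgroup G} (L : Subgroup H) [L.Characteristic]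
    (hD : D ≤ normalizer (H : Set G)) :
    D ≤ normalizer ((L.map H.subtype : Subgroup G) : Set G) := by
  refine le_normalizer_iff.2 fun g hg x hx => ?_
  obtain ⟨⟨x, hxH⟩, hxL, rfl⟩ := hx
  refine ⟨H.normalizerMonoidHom ⟨g, hD hg⟩ ⟨x, hxH⟩, ?_, rfl⟩
  exact (characteristic_iff_map_eq.1 inferInstance (H.normalizerMonoidHom ⟨g, hD hg⟩)).le
    ⟨_, hxL, rfl⟩

theorem omegaZClosure_map_equiv [Finite G] [Fact p.Prime] (e : G ≃* G) :
    (omegaZClosure p G).map e.toMonoidHom = omegaZClosure p G := by
  have key : ∀ e : G ≃* G, (omegaZClosure p G).map e.toMonoidHom ≤ omegaZClosure p G := by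
    intro e
    rw [omegaZClosure, Subgroup.map_iSup]
    refine iSup_le fun S => ?_
    have h := omegaZ_map (p := p) e.toMonoidHom (S : Subgroup G) (by
      rw [(MonoidHom.ker_eq_bot_iff _).2 e.injective]; exact disjoint_bot_right)
    exact h.le.trans (le_iSup (fun T : Sylow p G => omegaZ p (T : Subgroup G))
      (S.mapSurjective e.surjective))
  refine le_antisymm (key e) fun x hx => ⟨e.symm x, key e.symm ⟨x, hx, rfl⟩, e.apply_symm_apply x⟩

/-- the holomorph of a subgroup -/
abbrev Hol (W : Subgroup G) := ↥W ⋊[MonoidHom.id (MulAut ↥W)] MulAut ↥W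

instance finite_hol [Finite G] (W : Subgroup G) : Finite (Hol W) :=
  Finite.of_equiv _ SemidirectProduct.equivProd.symm

section Hol

variable (W : Subgroup G) [W.Normal]

/-- conjugation, as a homomorphism into the holomorph -/
noncomputable def toHol : G →* Hol W := SemidirectProduct.inr.comp MulAut.conjNormal

/-- the copy of `W` in its holomorph -/
def modV : Subgroup (Hol W) := (SemidirectProduct.inl : ↥W →* Hol W).range

theorem conj_inl (g : G) (w : W) :
    toHol W g * SemidirectProduct.inl w * (toHol W g)⁻¹ =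
      SemidirectProduct.inl (MulAut.conjNormal g w) := by
  show _ * _ * (SemidirectProduct.inr (MulAut.conjNormal g))⁻¹ = _
  rw [← map_inv SemidirectProduct.inr, toHol, MonoidHom.comp_apply]
  exact (SemidirectProduct.inl_aut (φ := MonoidHom.id (MulAut ↥W)) _ w).symm

theorem range_le_normalizer : (toHol W).range ≤ normalizer (modV W : Set (Hol W)) := by
  refine le_normalizer_iff.2 ?_
  rintro _ ⟨g, rfl⟩ _ ⟨w, rfl⟩
  exact ⟨_, (conj_inl W g w).symm⟩

theorem mem_ker_toHol {g : G} : g ∈ (toHol W).ker ↔ g ∈ centralizer (W : Set G) := by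
  rw [MonoidHom.mem_ker, toHol, MonoidHom.comp_apply, ← map_one SemidirectProduct.inr,
    SemidirectProduct.inr_inj, mem_centralizer_iff_conj]
  constructor
  · intro h w hw
    exact congrArg (fun a : MulAut W => ((a ⟨w, hw⟩ : W) : G)) h
  · intro h
    exact MulEquiv.ext fun w => Subtype.ext (h w w.2)

theorem ker_toHol : (toHol W).ker = centralizer (W : Set G) :=
  SetLike.ext fun _ => mem_ker_toHol W

theorem inl_mem_centralizer_map (A : Subgroup G) (w : W) :
    (SemidirectProduct.inl w : Hol W) ∈ centralizer ((A.map (toHol W) : Subgroup (Hol W)) : Set (Hol W))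
      ↔ (w : G) ∈ centralizer (A : Set G) := by
  rw [mem_centralizer_iff, mem_centralizer_iff]
  constructor
  · intro h a ha
    have h1 := mul_inv_eq_iff_eq_mul.2 (h _ (mem_map_of_mem _ ha))
    rw [conj_inl] at h1
    exact mul_inv_eq_iff_eq_mul.1
      (congrArg Subtype.val (SemidirectProduct.inl_injective h1) : a * (w : G) * a⁻¹ = w)
  · rintro h _ ⟨a, ha, rfl⟩
    refine mul_inv_eq_iff_eq_mul.1 ?_
    rw [conj_inl]
    exact congrArg _ (Subtype.ext (mul_inv_eq_iff_eq_mul.2 (h a ha)))

theorem inf_centralizer_map (A : Subgroup G) :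
    modV W ⊓ centralizer ((A.map (toHol W) : Subgroup (Hol W)) : Set (Hol W)) =
      ((W ⊓ centralizer (A : Set G)).subgroupOf W).map SemidirectProduct.inl := by
  ext x
  constructor
  · rintro ⟨⟨w, rfl⟩, hc⟩
    exact ⟨w, ⟨w.2, (inl_mem_centralizer_map W A w).1 hc⟩, rfl⟩
  · rintro ⟨w, hw, rfl⟩
    exact ⟨⟨w, rfl⟩, (inl_mem_centralizer_map W A w).2 hw.2⟩

theorem card_cent_map (A : Subgroup G) :
    Nat.card ↥(modV W ⊓ centralizer ((A.map (toHol W) : Subgroup (Hol W)) : Set (Hol W))) =
      Nat.card ↥(W ⊓ centralizer (A : Set G)) := by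
  rw [inf_centralizer_map, Subgroup.card_map_of_injective SemidirectProduct.inl_injective]
  exact Nat.card_congr (subgroupOfEquivOfLe inf_le_left).toEquiv

theorem card_modV : Nat.card (modV W) = Nat.card W :=
  (Nat.card_congr (MonoidHom.ofInjective SemidirectProduct.inl_injective).toEquiv).symm

theorem elementary_modV (hW : Cfsg.IsElementaryAbelian p W) :
    Cfsg.IsElementaryAbelian p (modV W) := by
  refine ⟨le_centralizer_iff_isMulCommutative.1 ?_, ?_⟩
  · rintro _ ⟨a, rfl⟩
    refine mem_centralizer_iff.2 ?_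
    rintro _ ⟨b, rfl⟩
    rw [← map_mul, ← map_mul]
    exact congrArg _ (Subtype.ext (comm_of_mem hW.1 b.2 a.2))
  · rintro _ ⟨a, rfl⟩
    rw [← map_pow, show a ^ p = 1 from Subtype.ext (hW.2 a a.2), map_one]

theorem range_faithful :
    (toHol W).range ⊓ centralizer (modV W : Set (Hol W)) = ⊥ := by
  rw [eq_bot_iff]
  rintro _ ⟨⟨g, rfl⟩, hc⟩
  refine mem_bot.2 (show g ∈ (toHol W).ker from (mem_ker_toHol W).2
    (mem_centralizer_iff_conj.2 fun w hw => ?_))
  have h := mem_centralizer_iff_conj.1 hc _ ⟨⟨w, hw⟩, rfl⟩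
  rw [conj_inl] at h
  exact congrArg Subtype.val (SemidirectProduct.inl_injective h)

variable [Finite G]

theorem card_map_toHol (A : Subgroup G) :
    Nat.card ↥(A.map (toHol W)) * Nat.card ↥(A ⊓ centralizer (W : Set G)) = Nat.card A := by
  rw [← ker_toHol]
  have h1 := relIndex_mul_relIndex ⊥ (A ⊓ (toHol W).ker) A bot_le inf_le_left
  rw [relIndex_bot_left, relIndex_bot_left, inf_relIndex_left, relIndex_ker] at h1
  rw [← h1, mul_comm]

theorem bestOffender_map {A : Subgroup G} (hA : Cfsg.IsBestOffenderOn p W A) :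
    Cfsg.IsBestOffenderOn p (modV W) (A.map (toHol W)) := by
  refine ⟨fun B hB => ?_, ?_, ?_⟩
  · set B0 := A ⊓ B.comap (toHol W) with hB0
    have hmap : B0.map (toHol W) = B := by
      refine le_antisymm ((map_mono inf_le_right).trans (map_comap_le _ _)) fun x hx => ?_
      obtain ⟨a, ha, rfl⟩ := hB hx
      exact ⟨a, ⟨ha, hx⟩, rfl⟩
    have hker : B0 ⊓ centralizer (W : Set G) = A ⊓ centralizer (W : Set G) := by
      refine le_antisymm (inf_le_inf_right _ inf_le_left) (le_inf (le_inf inf_le_left ?_) inf_le_right)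
      rintro a ⟨-, ha⟩
      rw [mem_comap, show toHol W a = 1 from (mem_ker_toHol W).2 ha]
      exact one_mem _
    have h := hA.1 B0 inf_le_left
    rw [← hmap, card_cent_map, card_cent_map]
    refine Nat.le_of_mul_le_mul_right ?_ (Nat.card_pos (α := ↥(A ⊓ centralizer (W : Set G))))
    have e1 := card_map_toHol W B0
    rw [hker] at e1
    have e2 := card_map_toHol W A
    calc _ = (Nat.card ↥(B0.map (toHol W)) * Nat.card ↥(A ⊓ centralizer (W : Set G))) *
          Nat.card ↥(W ⊓ centralizer (B0 : Set G)) := by ring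
      _ ≤ (Nat.card ↥(A.map (toHol W)) * Nat.card ↥(A ⊓ centralizer (W : Set G))) *
          Nat.card ↥(W ⊓ centralizer (A : Set G)) := by rw [e1, e2]; exact h
      _ = _ := by ring
  · rw [← map_commutator]
    refine le_trans ?_ bot_le
    rw [le_bot_iff, Subgroup.map_eq_bot_iff, ker_toHol]
    exact hA.2.1
  · rintro _ ⟨a, ha, rfl⟩
    rw [← map_pow, show toHol W (a ^ p) = 1 from (mem_ker_toHol W).2 (hA.2.2 a ha)]
    exact one_mem _

variable [Fact p.Prime]

/-- the self-centralising core of the image of a normal subgroup -/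
theorem hol_setup (hW : Cfsg.IsElementaryAbelian p W) (hsep : Cfsg.IsPSolvable p G)
    (hO : Cfsg.pCore p (G ⧸ centralizer (W : Set G)) = ⊥) (J : Subgroup G) [J.Normal] :
    FF.Setup p (modV W) (J.map (toHol W))
      ((Cfsg.pPrimeCore p ↥(J.map (toHol W))).map (J.map (toHol W)).subtype) := by
  set π := toHol W with hπ
  set H := J.map π with hH
  have hHr : H ≤ π.range := MonoidHom.range_eq_map π ▸ map_mono le_top
  refine FF.setup_core (elementary_modV W hW) (hHr.trans (range_le_normalizer W)) ?_ ?_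
  · rw [eq_bot_iff, ← range_faithful W]
    exact inf_le_inf_right _ hHr
  · refine CfsgLib.PGroups.centralizer_pPrimeCore_le
      (isPSolvable_of_surjective (π.subgroupMap J) (π.subgroupMap_surjective J)
        (isPSolvable_subgroup hsep J)) ?_
    set P := (Cfsg.pCore p H).map H.subtype with hP
    have hrn : π.range ≤ normalizer (P : Set (Hol W)) := by
      refine norm_char _ (le_normalizer_iff.2 ?_)
      rintro _ ⟨g, rfl⟩ _ ⟨j, hj, rfl⟩
      exact ⟨g * j * g⁻¹, (inferInstance : J.Normal).conj_mem j hj g, by simp⟩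
    set D := P.comap π with hD
    have : D.Normal := ⟨fun d hd g => by
      rw [hD, mem_comap, map_mul, map_mul, map_inv]
      exact le_normalizer_iff.1 hrn _ ⟨g, rfl⟩ _ hd⟩
    set q := QuotientGroup.mk' (centralizer (W : Set G))
    have hDP : IsPGroup p P := (CfsgLib.Core.isPGroup_pCore p H).map _
    have hDn : (D.map q).Normal := Subgroup.Normal.map inferInstance q (QuotientGroup.mk'_surjective _)
    have hDp : IsPGroup p ↥(D.map q) := by
      rintro ⟨_, d, hd, rfl⟩
      obtain ⟨k, hk⟩ := hDP ⟨π d, hd⟩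
      refine ⟨k, Subtype.ext ?_⟩
      show q d ^ p ^ k = 1
      rw [← map_pow]
      refine (QuotientGroup.eq_one_iff _).2 ((mem_ker_toHol W).1 ?_)
      rw [MonoidHom.mem_ker, map_pow]
      exact congrArg Subtype.val hk
    have hle : D ≤ centralizer (W : Set G) := by
      have h := CfsgLib.Core.le_pCore (N := D.map q) hDp
      rw [hO, le_bot_iff, Subgroup.map_eq_bot_iff, QuotientGroup.ker_mk'] at h
      exact h
    rw [eq_bot_iff]
    intro x hx
    obtain ⟨j, hj, hjx⟩ := x.2
    have : j ∈ centralizer (W : Set G) := hle (show π j ∈ P from ⟨x, hx, hjx.symm⟩)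
    exact mem_bot.2 (Subtype.ext (hjx.symm.trans ((mem_ker_toHol W).2 this)))

theorem hol_gen (hW : Cfsg.IsElementaryAbelian p W) :
    (Cfsg.thompsonSubgroup p G).map (toHol W) =
      ⨆ A : {A : Subgroup (Hol W) // A ≤ (Cfsg.thompsonSubgroup p G).map (toHol W) ∧
        Cfsg.IsBestOffenderOn p (modV W) A}, (A : Subgroup (Hol W)) := by
  refine le_antisymm ?_ (iSup_le fun A => A.2.1)
  rw [map_le_iff_le_comap]
  refine sSup_le fun A hA => map_le_iff_le_comap.1 ?_
  exact le_iSup_of_le (⟨A.map (toHol W), map_mono (le_thompson hA),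
    bestOffender_map W (bestOffender_of_maxElementary hW hA)⟩ :
    {A : Subgroup (Hol W) // A ≤ _ ∧ Cfsg.IsBestOffenderOn p (modV W) A}) le_rfl

/-- a maximal elementary abelian subgroup is an exact offender -/
theorem offender_card (hW : Cfsg.IsElementaryAbelian p W) (hsep : Cfsg.IsPSolvable p G)
    (hO : Cfsg.pCore p (G ⧸ centralizer (W : Set G)) = ⊥) {A : Subgroup G}
    (hA : A ∈ Cfsg.maxElementaryAbelianSubgroups p G) :
    Nat.card A * Nat.card ↥(W ⊓ centralizer (A : Set G)) =
      Nat.card W * Nat.card ↥(A ⊓ centralizer (W : Set G)) := by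
  have h := hol_setup W hW hsep hO (Cfsg.thompsonSubgroup p G)
  have h1 := h.offender_eq (map_mono (le_thompson hA))
    (bestOffender_map W (bestOffender_of_maxElementary hW hA))
  rw [offMeasure, card_cent_map, card_modV] at h1
  rw [← h1, ← card_map_toHol W A]
  ring

theorem omega_center_le (hW : Cfsg.IsElementaryAbelian p W) (hsep : Cfsg.IsPSolvable p G)
    (hO : Cfsg.pCore p (G ⧸ centralizer (W : Set G)) = ⊥) :
    ⁅Cfsg.omegaOne p (Cfsg.centerThompsonOf p (centralizer (W : Set G))),
      Cfsg.thompsonSubgroup p G⁆ ≤ W := by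
  set C := centralizer (W : Set G) with hC
  set Y := Cfsg.omegaOne p (Cfsg.centerThompsonOf p C) with hY
  set q := QuotientGroup.mk' W
  have key : Cfsg.thompsonSubgroup p G ≤
      (centralizer ((Y.map q : Subgroup (G ⧸ W)) : Set (G ⧸ W))).comap q := by
    refine sSup_le fun A hA => map_le_iff_le_comap.1 ?_
    have hM : (A ⊓ C) ⊔ W ∈ Cfsg.maxElementaryAbelianSubgroups p G := by
      refine ⟨elementary_sup (elementary_mono hA.1 inf_le_left) hW inf_le_right,
        fun B hB => (hA.2 B hB).trans ?_⟩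
      have hn : A ⊓ C ≤ normalizer (W : Set G) := inf_le_right.trans (centralizer_le_normalizer _)
      have h1 := card_sup_mul_card_inf (A ⊓ C) W hn
      have h2 := offender_card W hW hsep hO hA
      have h3 : Nat.card ↥(A ⊓ C ⊓ W) ≤ Nat.card ↥(W ⊓ centralizer (A : Set G)) :=
        card_le_of_le (le_inf inf_le_right ((inf_le_left.trans inf_le_left).trans
          (le_centralizer_iff_isMulCommutative.2 hA.1.1)))
      refine Nat.le_of_mul_le_mul_right ?_ (Nat.card_pos (α := ↥(W ⊓ centralizer (A : Set G))))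
      rw [h2, mul_comm (Nat.card W), h1]
      exact Nat.mul_le_mul_left _ h3
    have hMC : (A ⊓ C) ⊔ W ≤ C :=
      sup_le inf_le_right (le_centralizer_iff_isMulCommutative.2 hW.1)
    have hYM : Y ≤ (A ⊓ C) ⊔ W := by
      refine (Subgroup.closure_le _).2 fun x hx => ?_
      exact mem_maxElementary hM hx.2
        (centralizer_le (SetLike.coe_subset_coe.2 (le_thompsonOf hM hMC)) hx.1.2)
    have h0 : Y.map q ≤ A.map q := by
      refine (map_mono hYM).trans ?_
      rw [Subgroup.map_sup, (Subgroup.map_eq_bot_iff W).2 (by rw [QuotientGroup.ker_mk']), sup_bot_eq]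
      exact map_mono inf_le_left
    haveI := hA.1.1
    exact (le_centralizer_iff_isMulCommutative.2 (show IsMulCommutative (A.map q) from
      le_centralizer_iff_isMulCommutative.1 (by
        rintro _ ⟨a, ha, rfl⟩
        refine mem_centralizer_iff.2 ?_
        rintro _ ⟨b, hb, rfl⟩
        rw [← map_mul, ← map_mul, comm_of_mem hA.1.1 hb ha]))).trans
      (centralizer_le (SetLike.coe_subset_coe.2 h0))
  rw [commutator_le]
  intro y hy j hj
  have h := mem_centralizer_iff.1 (key hj) (q y) (mem_map_of_mem _ hy)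
  rw [← QuotientGroup.eq_one_iff]
  show q ⁅y, j⁆ = 1
  rw [map_commutatorElement]
  exact commutatorElement_eq_one_iff_mul_comm.2 h

end Hol

end CfsgLib.PLocal
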