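import Cfsg.Agent.Lib.PLocal.Offender
import Cfsg.Agent.Lib.Components.Radicals
import Mathlib.Algebra.BigOperators.Group.Finset.Basic

/-!
# Two small lemmas: commutators of subnormal subgroups, Maschke
-/

set_option autoImplicit false

namespace CfsgLib.PLocal

open Subgroup Cfsg
open scoped commutatorElement

variable {G : Type*} [Group G] {p : ℕ}

/-- Maschke: an invariant complemented subgroup has an invariant complement. -/
theorem exists_invariant_complement [Finite G] {V A U W : Subgroup G} (hV : IsMulCommutative V)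
    (hAV : A ≤ normalizer (V : Set G)) (hcop : (Nat.card A).Coprime (Nat.card V))
    (hUV : U ≤ V) (hAU : A ≤ normalizer (U : Set G))
    (hW : W ≤ V) (hUW : U ⊓ W = ⊥) (hUWV : U ⊔ W = V) :
    ∃ W' : Subgroup G, W' ≤ V ∧ A ≤ normalizer (W' : Set G) ∧ U ⊓ W' = ⊥ ∧ U ⊔ W' = V := by
  classical
  have : Fintype A := Fintype.ofFinite A
  letI : CommGroup V := { (inferInstance : Group V) with mul_comm := fun a b => hV.is_comm.comm a b }
  -- projection onto `U` along `W`
  have hdec : ∀ v : V, ∃ u : G, u ∈ U ∧ u⁻¹ * v ∈ W := by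
    rintro ⟨v, hv⟩
    have hn : W ≤ normalizer (U : Set G) := le_normalizer_iff.2 fun w hw u hu => by
      rw [comm_of_mem hV (hW hw) (hUV hu), mul_inv_cancel_right]; exact hu
    rw [← hUWV, ← SetLike.mem_coe, coe_mul_of_right_le_normalizer_left U W hn] at hv
    obtain ⟨u, hu, w, hw, rfl⟩ := hv
    exact ⟨u, hu, by simpa using hw⟩
  choose f hfU hfW using hdec
  have huniq : ∀ (v : V) (u : G), u ∈ U → u⁻¹ * v ∈ W → f v = u := by
    intro v u hu huv
    have h1 : (f v)⁻¹ * u ∈ W := by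
      have := W.mul_mem (hfW v) (W.inv_mem huv)
      simpa [mul_assoc] using this
    have h2 : (f v)⁻¹ * u ∈ U ⊓ W := ⟨U.mul_mem (U.inv_mem (hfU v)) hu, h1⟩
    rw [hUW, mem_bot, inv_mul_eq_one] at h2
    exact h2
  let P : V →* V := MonoidHom.mk' (fun v => ⟨f v, hUV (hfU v)⟩) fun v w => by
    refine Subtype.ext (huniq _ _ (U.mul_mem (hfU v) (hfU w)) ?_)
    have := W.mul_mem (hfW v) (hfW w)
    convert this using 1
    have h3 := comm_of_mem hV (V.inv_mem (hUV (hfU w))) (V.mul_mem (V.inv_mem (hUV (hfU v))) v.2)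
    show (f v * f w)⁻¹ * ((v : G) * w) = _
    calc (f v * f w)⁻¹ * ((v : G) * w) = ((f w)⁻¹ * ((f v)⁻¹ * v)) * w := by group
      _ = _ := by rw [h3]; group
  let act : A → V →* V := fun a => MonoidHom.mk'
    (fun v => ⟨(a : G) * v * (a : G)⁻¹, conj_mem hAV a.2 v.2⟩)
    fun v w => Subtype.ext (by simp [mul_assoc])
  have hact : ∀ (a b : A) (v : V), act a (act b v) = act (a * b) v := fun a b v =>
    Subtype.ext (by simp [act, mul_assoc])
  let T : V → V := fun v => ∏ a : A, act a (P (act a⁻¹ v))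
  have hTmul : ∀ v w, T (v * w) = T v * T w := fun v w => by
    simp only [T, map_mul]; exact Finset.prod_mul_distrib
  let T' : V →* V := MonoidHom.mk' T hTmul
  have hTU : ∀ v, (T' v : G) ∈ U := by
    intro v
    show ((∏ a : A, act a (P (act a⁻¹ v))) : V) ∈ U.subgroupOf V
    exact prod_mem fun a _ => conj_mem hAU a.2 (hfU _)
  have hTfix : ∀ v : V, (v : G) ∈ U → T' v = v ^ Nat.card A := by
    intro v hv
    show ∏ a : A, act a (P (act a⁻¹ v)) = _
    rw [Nat.card_eq_fintype_card, ← Finset.card_univ, ← Finset.prod_const]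
    refine Finset.prod_congr rfl fun a _ => ?_
    have : P (act a⁻¹ v) = act a⁻¹ v := by
      refine Subtype.ext (huniq _ _ (conj_mem hAU (inv_mem a.2) hv) ?_)
      simp [act, mul_assoc]
    rw [this, hact, mul_inv_cancel]
    exact Subtype.ext (by simp [act])
  have hTequiv : ∀ (b : A) (v : V), T' (act b v) = act b (T' v) := by
    intro b v
    show ∏ a : A, act a (P (act a⁻¹ (act b v))) = act b (∏ a : A, act a (P (act a⁻¹ v)))
    rw [map_prod]
    refine (Fintype.prod_equiv (Equiv.mulLeft b) _ _ fun a => ?_).symm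
    simp only [Equiv.coe_mulLeft, hact]
    rw [mul_inv_rev, inv_mul_cancel_right]
  have hcop' : (Nat.card V).Coprime (Nat.card A) := hcop.symm
  refine ⟨T'.ker.map V.subtype, map_subtype_le _, ?_, ?_, ?_⟩
  · refine le_normalizer_iff.2 ?_
    rintro a ha _ ⟨v, hv, rfl⟩
    refine ⟨act ⟨a, ha⟩ v, ?_, rfl⟩
    rw [SetLike.mem_coe, MonoidHom.mem_ker, hTequiv, MonoidHom.mem_ker.1 hv, map_one]
  · rw [eq_bot_iff]
    rintro _ ⟨hu, v, hv, rfl⟩
    rw [mem_bot]
    have h1 := (hTfix v hu).symm.trans (MonoidHom.mem_ker.1 hv)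
    have : v = 1 := (powCoprime hcop').injective (by simp only [powCoprime_apply, one_pow]; exact h1)
    simp [this]
  · refine le_antisymm (sup_le hUV (map_subtype_le _)) fun x hx => ?_
    let v : V := ⟨x, hx⟩
    obtain ⟨w, hw⟩ := (powCoprime hcop').surjective (T' v)
    -- `w ^ |A| = T v`, `w ∈ U`
    have hwU : (w : G) ∈ U := by
      have h1 : (T' v) ∈ U.subgroupOf V := hTU v
      have h2 : ((⟨T' v, hTU v⟩ : U) : G) = T' v := rfl
      have hcU : (Nat.card U).Coprime (Nat.card A) :=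
        hcop'.coprime_dvd_left (card_dvd_of_le hUV)
      obtain ⟨z, hz⟩ := (powCoprime hcU).surjective ⟨T' v, hTU v⟩
      have : w = ⟨z, hUV z.2⟩ := (powCoprime hcop').injective (by
        rw [hw]
        exact Subtype.ext (congrArg Subtype.val hz).symm)
      rw [this]; exact z.2
    have hker : w⁻¹ * v ∈ T'.ker := by
      rw [MonoidHom.mem_ker, map_mul, map_inv, hTfix w hwU, inv_mul_eq_one]
      exact hw
    have hm : ((w⁻¹ * v : V) : G) ∈ T'.ker.map V.subtype := mem_map_of_mem V.subtype hker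
    have := mul_mem_sup hwU hm
    simpa [v] using this

/-- `[V, E₁, E₂] = 1` for subnormal `E₁, E₂` forces `[E₁, E₂] ≤ O_p`. -/
theorem commutator_subnormal_le_pCore [Finite G] [Fact p.Prime] {V H E₁ E₂ : Subgroup G}
    (hV : IsElementaryAbelian p V) (hHV : H ≤ normalizer (V : Set G))
    (hf : H ⊓ centralizer (V : Set G) = ⊥) (h₁ : E₁ ≤ H) (h₂ : E₂ ≤ H)
    (hs₁ : (E₁.subgroupOf H).IsSubnormal) (hs₂ : (E₂.subgroupOf H).IsSubnormal)
    (hc : ⁅⁅V, E₁⁆, E₂⁆ = ⊥) : ⁅E₁, E₂⁆ ≤ (pCore p H).map H.subtype := by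
  set W := ⁅V, E₁⁆ with hW
  have hWV : W ≤ V := commutator_le_of_le_normalizer (h₁.trans hHV) le_rfl
  have hE₁W : E₁ ≤ normalizer (W : Set G) := normalizer_commutator_ge_right V E₁
  have hE₂W : E₂ ≤ centralizer (W : Set G) :=
    le_centralizer_iff.1 (commutator_eq_bot_iff_le_centralizer.1 hc)
  have hcW : ∀ x ∈ ⁅E₁, E₂⁆, x ∈ centralizer (W : Set G) := by
    have : ⁅E₁, E₂⁆ ≤ centralizer (W : Set G) := by
      rw [commutator_le]
      intro a ha b hb
      rw [mem_centralizer_iff_conj]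
      intro w hw
      have hb' := mem_centralizer_iff_conj.1 (hE₂W hb)
      have h1 : a⁻¹ * w * a ∈ W := by
        have := conj_mem hE₁W (inv_mem ha) hw
        simpa using this
      have h2 := mem_centralizer_iff_conj.1 (inv_mem (hE₂W hb)) w hw
      calc ⁅a, b⁆ * w * ⁅a, b⁆⁻¹
          = a * (b * (a⁻¹ * (b⁻¹ * w * b⁻¹⁻¹) * a) * b⁻¹) * a⁻¹ := by
            simp only [commutatorElement_def]; group
        _ = a * (b * (a⁻¹ * w * a) * b⁻¹) * a⁻¹ := by rw [h2]
        _ = w := by rw [hb' _ h1]; group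
    exact fun x hx => this hx
  have hb1 : ∀ a ∈ E₁, ∀ v ∈ V, ⁅a, v⁆ ∈ W := fun a ha v hv => comm_mem_commutator_swap ha hv
  -- `[E₁,E₂]` centralises `V / W`
  have hquot : ∀ x ∈ ⁅E₁, E₂⁆, ∀ v ∈ V, ⁅x, v⁆ ∈ W := by
    intro x hx
    rw [Subgroup.commutator_def] at hx
    induction hx using Subgroup.closure_induction with
    | mem x hx =>
      obtain ⟨a, ha, b, hb, rfl⟩ := hx
      intro v hv
      -- `a b a⁻¹ b⁻¹`
      have hbm : ∀ w ∈ W, b * w * b⁻¹ = w := fun w hw => mem_centralizer_iff_conj.1 (hE₂W hb) w hw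
      have hv1 : b⁻¹ * v * b ∈ V := by
        have := conj_mem (h₂.trans hHV) (inv_mem hb) hv
        simpa using this
      have hv2 : b * (a⁻¹ * (b⁻¹ * v * b) * a) * b⁻¹ ∈ V := by
        refine conj_mem (h₂.trans hHV) hb ?_
        have := conj_mem (h₁.trans hHV) (inv_mem ha) hv1
        simpa using this
      have hw1 : ⁅a⁻¹, b⁻¹ * v * b⁆ ∈ W := hb1 _ (inv_mem ha) _ hv1
      have e1 : b * (a⁻¹ * (b⁻¹ * v * b) * a) * b⁻¹ = ⁅a⁻¹, b⁻¹ * v * b⁆ * v := by
        calc b * (a⁻¹ * (b⁻¹ * v * b) * a) * b⁻¹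
            = (b * ⁅a⁻¹, b⁻¹ * v * b⁆ * b⁻¹) * v := by simp only [commutatorElement_def]; group
          _ = _ := by rw [hbm _ hw1]
      have e2 : ⁅⁅a, b⁆, v⁆ = ⁅a, ⁅a⁻¹, b⁻¹ * v * b⁆ * v⁆ * ⁅a⁻¹, b⁻¹ * v * b⁆ := by
        calc ⁅⁅a, b⁆, v⁆ = a * (b * (a⁻¹ * (b⁻¹ * v * b) * a) * b⁻¹) * a⁻¹ * v⁻¹ := by
              simp only [commutatorElement_def]; group
          _ = a * (⁅a⁻¹, b⁻¹ * v * b⁆ * v) * a⁻¹ * v⁻¹ := by rw [e1]
          _ = ⁅a, ⁅a⁻¹, b⁻¹ * v * b⁆ * v⁆ * ⁅a⁻¹, b⁻¹ * v * b⁆ := by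
              simp only [commutatorElement_def]; group
      rw [e2]
      exact W.mul_mem (hb1 _ ha _ (V.mul_mem (hWV hw1) hv)) hw1
    | one => intro v _; simp
    | mul x y hx hy ihx ihy =>
      intro v hv
      rw [comm_mul_left']
      refine W.mul_mem ?_ (ihx v hv)
      rw [mem_centralizer_iff_conj.1 (hcW x hx) _ (ihy v hv)]
      exact ihy v hv
    | inv x hx ihx =>
      intro v hv
      have h1 : x ∈ H :=
        (sup_le h₁ h₂) ((commutator_le_sup E₁ E₂) hx)
      have hv' : x⁻¹ * v * x ∈ V := by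
        have := conj_mem hHV (inv_mem h1) hv
        simpa using this
      have : ⁅x⁻¹, v⁆ = (⁅x, x⁻¹ * v * x⁆)⁻¹ := by simp only [commutatorElement_def]; group
      rw [this]
      exact W.inv_mem (ihx _ hv')
  have hp : IsPGroup p ↥(⁅E₁, E₂⁆ : Subgroup G) := by
    rintro ⟨x, hx⟩
    refine ⟨1, Subtype.ext ?_⟩
    have hxH : x ∈ H := (sup_le h₁ h₂) ((commutator_le_sup E₁ E₂) hx)
    have hmem : x ^ p ∈ H ⊓ centralizer (V : Set G) := by
      refine ⟨pow_mem hxH p, mem_centralizer_iff_conj.2 fun v hv => ?_⟩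
      rw [← comm_eq_one_iff_conj]
      have : ∀ n : ℕ, ⁅x ^ n, v⁆ = ⁅x, v⁆ ^ n := by
        intro n
        induction n with
        | zero => simp
        | succ n ih =>
          rw [pow_succ, comm_mul_left', mem_centralizer_iff_conj.1 (pow_mem (hcW x hx) n) _
            (hquot x hx v hv), ih, pow_succ']
      rw [this, hV.2 _ (hWV (hquot x hx v hv))]
    rw [hf, mem_bot] at hmem
    simpa using hmem
  have hle : ⁅E₁, E₂⁆ ≤ H := (commutator_le_sup E₁ E₂).trans (sup_le h₁ h₂)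
  have hsn : ((⁅E₁, E₂⁆).subgroupOf H).IsSubnormal := by
    have hj := CfsgLib.Components.isSubnormal_sup hs₁ hs₂
    rw [← subgroupOf_sup h₁ h₂] at hj
    refine Subgroup.IsSubnormal.trans (K := (E₁ ⊔ E₂).subgroupOf H)
      (comap_mono (commutator_le_sup E₁ E₂)) ?_ hj
    refine Subgroup.Normal.isSubnormal ?_
    refine (normal_subgroupOf_iff_le_normalizer (comap_mono (commutator_le_sup E₁ E₂))).2 ?_
    change (E₁ ⊔ E₂).subgroupOf H ≤ normalizer ((⁅E₁, E₂⁆.subgroupOf H : Subgroup H) : Set H)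
    rw [← subgroupOf_normalizer_eq hle]
    exact comap_mono (sup_le (normalizer_commutator_ge_left _ _) (normalizer_commutator_ge_right _ _))
  intro x hx
  exact ⟨⟨x, hle hx⟩, CfsgLib.Components.subnormal_pGroup_le_pCore hsn hp.comap_subtype hx, rfl⟩

end CfsgLib.PLocal
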