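import Cfsg.Agent.Lib.PLocal.FFStatements

/-!
# An elementary abelian `q`-group permuting the factors of a failure of factorisation
-/

set_option autoImplicit false

namespace CfsgLib.PLocal.FF

open Subgroup
open scoped commutatorElement

theorem noncommProd_congr' {M : Type*} [Monoid M] {s t : Multiset M}
    (hs : {x | x ∈ s}.Pairwise Commute) (ht : {x | x ∈ t}.Pairwise Commute) (h : s = t) :
    s.noncommProd hs = t.noncommProd ht := by
  subst h; rfl

/-- the product of the conjugates of `e` under a group `Y` -/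
theorem exists_orbit_prod {M : Type*} [Group M] [Finite M] {Y P Q : Subgroup M} {e : M}
    (hcomm : ∀ a ∈ Y, ∀ b ∈ Y, Commute (a * e * a⁻¹) (b * e * b⁻¹))
    (hP : ∀ a ∈ Y, a * e * a⁻¹ ∈ P) (hQ : ∀ a ∈ Y, a * e * a⁻¹ ≠ e → a * e * a⁻¹ ∈ Q) :
    ∃ r ∈ Q, e * r ∈ P ⊓ centralizer (Y : Set M) := by
  classical
  have := Fintype.ofFinite M
  let D : Finset M := ((Finset.univ : Finset M).filter (· ∈ Y)).image fun a => a * e * a⁻¹
  have hD : ∀ x, x ∈ D ↔ ∃ a ∈ Y, a * e * a⁻¹ = x := fun x => by simp [D]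
  have heD : e ∈ D.val := (hD e).2 ⟨1, one_mem _, by simp⟩
  have hc : {x | x ∈ D.val}.Pairwise Commute := fun x hx z hz _ => by
    obtain ⟨a, ha, rfl⟩ := (hD x).1 hx
    obtain ⟨b, hb, rfl⟩ := (hD z).1 hz
    exact hcomm a ha b hb
  have hP' : ∀ x ∈ D.val, x ∈ P := fun x hx => by
    obtain ⟨a, ha, rfl⟩ := (hD x).1 hx
    exact hP a ha
  have hc' : {x | x ∈ D.val.erase e}.Pairwise Commute :=
    hc.mono fun x hx => Multiset.mem_of_mem_erase hx
  refine ⟨(D.val.erase e).noncommProd hc', Q.multiset_noncommProd_mem _ hc' fun x hx => ?_, ?_⟩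
  · have hne : x ≠ e := fun h => D.nodup.notMem_erase (h ▸ hx)
    obtain ⟨a, ha, rfl⟩ := (hD x).1 (Multiset.mem_of_mem_erase hx)
    exact hQ a ha hne
  rw [Multiset.mul_noncommProd_erase D.val heD hc]
  refine ⟨P.multiset_noncommProd_mem _ hc hP', mem_centralizer_iff.2 fun y hy => ?_⟩
  have hinv : D.val.map (MulAut.conj y) = D.val := by
    refine congrArg Finset.val (show D.map ⟨MulAut.conj y, (MulAut.conj y).injective⟩ = D from ?_)
    refine Finset.eq_of_subset_of_card_le (fun x hx => ?_) (Finset.card_map _).ge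
    obtain ⟨z, hz, rfl⟩ := Finset.mem_map.1 hx
    obtain ⟨a, ha, rfl⟩ := (hD z).1 hz
    exact (hD _).2 ⟨y * a, Y.mul_mem hy ha, by simp [mul_assoc]⟩
  refine mul_inv_eq_iff_eq_mul.1 ?_
  show MulAut.conj y _ = _
  rw [Multiset.map_noncommProd]
  exact noncommProd_congr' _ _ hinv

theorem perm_eq_one {α : Type*} [Finite α] {q : ℕ} (hq : q.Prime) (hlt : Nat.card α < q)
    (σ : Equiv.Perm α) (h : σ ^ q = 1) : σ = 1 := by
  rcases (Nat.dvd_prime hq).1 (orderOf_dvd_of_pow_eq_one h) with h1 | h1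
  · exact orderOf_eq_one_iff.1 h1
  · exfalso
    have h2 := orderOf_dvd_natCard σ
    rw [h1, Nat.card_perm, hq.dvd_factorial] at h2
    omega

variable {G : Type*} [Group G] [Finite G] {p : ℕ} [Fact p.Prime] {V H K B : Subgroup G}

theorem fix_of_small {q : ℕ} (hq : q.Prime) {T : Subgroup G} (hlt : Nat.card T < q) {y : G}
    (hy : y ^ q = 1) (hn : y ∈ normalizer (T : Set G)) : y ∈ centralizer (T : Set G) := by
  have h1 : T.normalizerMonoidHom ⟨y, hn⟩ ^ q = 1 := by
    rw [← map_pow, show (⟨y, hn⟩ : normalizer (T : Set G)) ^ q = 1 from Subtype.ext hy, map_one]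
  have h2 := perm_eq_one hq hlt (MulAut.toPerm T (T.normalizerMonoidHom ⟨y, hn⟩))
    (by rw [← map_pow, h1, map_one])
  exact mem_centralizer_iff_conj.2 fun t ht =>
    congrArg (fun σ : Equiv.Perm T => ((σ ⟨t, ht⟩ : T) : G)) h2

theorem normalizes_small {q : ℕ} [hq : Fact q.Prime] {E T : Subgroup G} (hT : T ≤ E)
    {y : G} (hy : y ^ q = 1) (hn : y ∈ normalizer (E : Set G))
    (hlt : Nat.card {U : Subgroup G // U ≤ E ∧ Nat.card U = Nat.card T} < q) :
    y ∈ normalizer (T : Set G) := by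
  let α := {U : Subgroup G // U ≤ E ∧ Nat.card U = Nat.card T}
  have hstep : ∀ {z : G}, z ∈ normalizer (E : Set G) → ∀ U : α,
      cj U.1 z ≤ E ∧ Nat.card (cj U.1 z) = Nat.card T := fun {z} hz U => by
    refine ⟨?_, by rw [cj, Subgroup.card_map_of_injective (MulAut.conj z).injective, U.2.2]⟩
    rintro _ ⟨u, hu, rfl⟩
    exact le_normalizer_iff.1 (le_refl _) z hz u (U.2.1 hu)
  let σ : Equiv.Perm α :=
    { toFun := fun U => ⟨cj U.1 y, hstep hn U⟩
      invFun := fun U => ⟨cj U.1 y⁻¹, hstep (inv_mem hn) U⟩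
      left_inv := fun U => Subtype.ext (by
        show cj (cj U.1 y) y⁻¹ = U.1
        rw [cj_cj, inv_mul_cancel, cj_one])
      right_inv := fun U => Subtype.ext (by
        show cj (cj U.1 y⁻¹) y = U.1
        rw [cj_cj, mul_inv_cancel, cj_one]) }
  have hpow : ∀ (n : ℕ) (U : α), ((σ ^ n) U).1 = cj U.1 (y ^ n) := by
    intro n
    induction n with
    | zero => intro U; simp [cj_one]
    | succ n ih =>
      intro U
      rw [pow_succ', Equiv.Perm.mul_apply]
      show cj ((σ ^ n) U).1 y = _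
      rw [ih, cj_cj, ← pow_succ']
  have h1 := perm_eq_one hq.out hlt σ (Equiv.ext fun U => Subtype.ext (by
    rw [hpow, hy, cj_one]; rfl))
  rw [mem_normalizer_iff_map_conj_eq]
  exact congrArg (fun τ : Equiv.Perm α => (τ ⟨T, hT, rfl⟩).1) h1

theorem card_order_p_subgroups {E : Subgroup G}
    (e : ↥E ≃* Matrix.SpecialLinearGroup (Fin 2) (ZMod p)) (hp : p = 2 ∨ p = 3) :
    Nat.card {U : Subgroup G // U ≤ E ∧ Nat.card U = p} < 5 := by
  have hc : Nat.card E = p * (p ^ 2 - 1) := by rw [Nat.card_congr e.toEquiv, card_SL2]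
  have hfac : (Nat.card E).factorization p = 1 := by
    rw [hc, Nat.factorization_mul (by omega) (by rcases hp with rfl | rfl <;> norm_num),
      Finsupp.add_apply, (Fact.out : p.Prime).factorization_self,
      Nat.factorization_eq_zero_of_not_dvd (by rcases hp with rfl | rfl <;> norm_num)]
  have hmk : ∀ U : {U : Subgroup G // U ≤ E ∧ Nat.card U = p},
      Nat.card (U.1.subgroupOf E) = p ^ (Nat.card E).factorization p := fun U => by
    rw [hfac, pow_one, Nat.card_congr (subgroupOfEquivOfLe U.2.1).toEquiv, U.2.2]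
  let f : {U : Subgroup G // U ≤ E ∧ Nat.card U = p} → Sylow p E := fun U =>
    Sylow.ofCard (U.1.subgroupOf E) (hmk U)
  have hf : Function.Injective f := fun U U' h => by
    have h' : U.1.subgroupOf E = U'.1.subgroupOf E := congrArg (fun P : Sylow p E => (P : Subgroup E)) h
    refine Subtype.ext ?_
    rw [← map_subgroupOf_eq_of_le U.2.1, h', map_subgroupOf_eq_of_le U'.2.1]
  refine lt_of_le_of_lt (Nat.card_le_card_of_injective f hf) ?_
  obtain ⟨P⟩ := (Sylow.nonempty : Nonempty (Sylow p E))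
  have h1 := P.card_dvd_index
  have h2 := card_sylow_modEq_one p E
  have h3 : (P : Subgroup E).index = p ^ 2 - 1 := by
    have h4 := (P : Subgroup E).card_mul_index
    rw [P.card_eq_multiplicity, hfac, pow_one, hc] at h4
    exact Nat.eq_of_mul_eq_mul_left (Fact.out : p.Prime).pos h4
  rw [h3] at h1
  rcases hp with rfl | rfl
  · have := Nat.le_of_dvd (by norm_num) h1
    norm_num at this
    omega
  · by_contra hlt
    push Not at hlt
    have := Nat.le_of_dvd (by norm_num) h1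
    norm_num at h1 this
    unfold Nat.ModEq at h2
    interval_cases (Nat.card (Sylow 3 E)) <;> simp_all

/-- the standing hypotheses on the operator group -/
structure Ops (q : ℕ) (V H K Y : Subgroup G) : Prop where
  normV : Y ≤ normalizer (V : Set G)
  normH : Y ≤ normalizer (H : Set G)
  normK : Y ≤ normalizer (K : Set G)
  exp : ∀ y ∈ Y, y ^ q = 1
  big : 5 ≤ q

theorem Tv.conj' (h : Setup p V H K) (t : Tv p V H B) {g : G} (hV : g ∈ normalizer (V : Set G))
    (hH : g ∈ normalizer (H : Set G)) : Tv p V H (cj B g) := by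
  have hle : cj B g ≤ H := (map_mono t.le).trans (map_normalized hH).le
  have hc : Nat.card (cj B g) = p := by
    rw [cj, Subgroup.card_map_of_injective (MulAut.conj g).injective, t.card]
  refine ⟨hle, hc, h.best_of_eq hle ?_ ?_⟩
  · refine ⟨(isCyclic_of_prime_card hc).isMulCommutative, fun a ha => ?_⟩
    have := pow_card_eq_one' (x := (⟨a, ha⟩ : cj B g))
    rw [hc] at this
    exact congrArg Subtype.val this
  · have hC : V ⊓ centralizer (cj B g : Set G) = cj (V ⊓ centralizer (B : Set G)) g := by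
      simp only [cj]
      rw [Subgroup.map_inf _ _ (MulAut.conj g).toMonoidHom (MulAut.conj g).injective, map_normalized hV]
      refine congrArg (V ⊓ ·) ?_
      ext y
      rw [mem_centralizer_iff]
      constructor
      · intro hy
        refine ⟨g⁻¹ * y * g, mem_centralizer_iff.2 fun x hx => ?_, by simp [mul_assoc]⟩
        calc x * (g⁻¹ * y * g) = g⁻¹ * ((g * x * g⁻¹) * y) * g := by group
          _ = g⁻¹ * (y * (g * x * g⁻¹)) * g := by rw [hy _ (mem_cj.2 ⟨x, hx, rfl⟩)]
          _ = g⁻¹ * y * g * x := by group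
      · rintro ⟨v, hv, rfl⟩ _ ⟨x, hx, rfl⟩
        show (g * x * g⁻¹) * (g * v * g⁻¹) = (g * v * g⁻¹) * (g * x * g⁻¹)
        calc (g * x * g⁻¹) * (g * v * g⁻¹) = g * (x * v) * g⁻¹ := by group
          _ = g * (v * x) * g⁻¹ := by rw [mem_centralizer_iff.1 hv x hx]
          _ = _ := by group
    rw [offMeasure, hC, hc, cj, Subgroup.card_map_of_injective (MulAut.conj g).injective, t.index h]

theorem cj_fac {g : G} (hK : g ∈ normalizer (K : Set G)) (B : Subgroup G) :
    cj (fac K B) g = fac K (cj B g) := by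
  rw [fac, cj, Subgroup.map_sup, map_commutator, map_normalized hK]
  rfl

variable {q : ℕ} [Fact q.Prime] {Y : Subgroup G}

theorem stab_trivial (h : Setup p V H K) (o : Ops q V H K Y) (tB : Tv p V H B) {y : G} (hy : y ∈ Y)
    (hn : y ∈ normalizer (fac K B : Set G)) :
    y ∈ centralizer (fac K B : Set G) ∧
      y ∈ centralizer ((⁅V, fac K B⁆ : Subgroup G) : Set G) := by
  have hp := (Fact.out : p.Prime)
  have hq := (Fact.out : q.Prime)
  have hq5 := o.big
  have s := fac_spec h tB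
  obtain ⟨e⟩ := s.iso
  have hpq : p < q := by rcases s.prime with rfl | rfl <;> omega
  have hsmall : ∀ T, Tv p V H T → T ≤ fac K B → y ∈ centralizer (T : Set G) := fun T tT hT =>
    fix_of_small hq (tT.card.symm ▸ hpq) (o.exp y hy)
      (normalizes_small hT (o.exp y hy) hn (by
        rw [tT.card]
        exact lt_of_lt_of_le (card_order_p_subgroups e s.prime) hq5))
  obtain ⟨x, hx, hne⟩ := exists_moving h tB
  have hfac : fac K B = B ⊔ cj B x :=
    pair_eq_commutator_sup h tB (tB.conj h (h.le hx)) hx rfl hne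
  refine ⟨?_, mem_centralizer_iff.2 fun w hw => ?_⟩
  · have hle : fac K B ≤ centralizer ((zpowers y : Subgroup G) : Set G) := by
      rw [hfac]
      refine sup_le ?_ ?_
      · exact le_centralizer_iff.1 (zpowers_le.2 (hsmall B tB (le_fac K B)))
      · exact le_centralizer_iff.1 (zpowers_le.2 (hsmall _ (tB.conj h (h.le hx))
          (le_sup_right.trans hfac.ge)))
    exact le_centralizer_iff.1 hle (mem_zpowers y)
  · by_cases hw1 : w = 1
    · subst hw1; simp
    have hzc : Nat.card (zpowers w) = p := by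
      rw [Nat.card_zpowers]
      exact orderOf_eq_prime (h.elem.2 w (s.comm_le hw)) hw1
    obtain ⟨Z, tZ, hZE, hZM⟩ := s.lines _ (zpowers_le.2 hw) hzc
    have hnM : y ∈ normalizer ((zpowers w : Subgroup G) : Set G) := hZM ▸
      comm_normalized (o.normV hy) (centralizer_le_normalizer _ (hsmall Z tZ hZE))
    exact mem_centralizer_iff.1 (fix_of_small hq (hzc.symm ▸ hpq) (o.exp y hy) hnM) w
      (mem_zpowers w)

theorem orbit_cases (h : Setup p V H K) (o : Ops q V H K Y) (tB : Tv p V H B) {a b : G}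
    (ha : a ∈ Y) (hb : b ∈ Y) :
    (b⁻¹ * a ∈ centralizer (fac K B : Set G) ∧
      b⁻¹ * a ∈ centralizer ((⁅V, fac K B⁆ : Subgroup G) : Set G)) ∨
      (⁅V, cj (fac K B) a⁆ ≤ centralizer (cj (fac K B) b : Set G) ∧
        ⁅V, cj (fac K B) b⁆ ≤ centralizer (cj (fac K B) a : Set G) ∧
        ⁅cj (fac K B) a, cj (fac K B) b⁆ = ⊥) := by
  rw [cj_fac (o.normK ha), cj_fac (o.normK hb)]
  rcases fac_cases h (tB.conj' h (o.normV ha) (o.normH ha))
    (tB.conj' h (o.normV hb) (o.normH hb)) with he | hd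
  · refine Or.inl (stab_trivial h o tB (Y.mul_mem (Y.inv_mem hb) ha) ?_)
    rw [mem_normalizer_iff_map_conj_eq]
    rw [← cj_fac (o.normK ha), ← cj_fac (o.normK hb)] at he
    show cj (fac K B) (b⁻¹ * a) = _
    rw [← cj_cj, he, cj_cj, inv_mul_cancel, cj_one]
  · exact Or.inr hd

theorem conj_eq_of_cent {a b x : G} {S : Subgroup G} (h : b⁻¹ * a ∈ centralizer (S : Set G))
    (hx : x ∈ S) : a * x * a⁻¹ = b * x * b⁻¹ := by
  have := mem_centralizer_iff_conj.1 h x hx
  calc a * x * a⁻¹ = b * ((b⁻¹ * a) * x * (b⁻¹ * a)⁻¹) * b⁻¹ := by group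
    _ = b * x * b⁻¹ := by rw [this]

theorem exists_diag (h : Setup p V H K) (o : Ops q V H K Y) (tB : Tv p V H B) {e : G}
    (he : e ∈ fac K B) :
    ∃ r ∈ centralizer (fac K B : Set G) ⊓ centralizer ((⁅V, fac K B⁆ : Subgroup G) : Set G),
      e * r ∈ H ⊓ centralizer (Y : Set G) := by
  have s := fac_spec h tB
  refine exists_orbit_prod (fun a ha b hb => ?_) (fun a ha => ?_) (fun a ha hne => ?_)
  · rcases orbit_cases h o tB ha hb with ⟨hc, -⟩ | ⟨-, -, hc⟩
    · rw [conj_eq_of_cent hc he]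
    · rw [commutator_eq_bot_iff_le_centralizer] at hc
      exact (mem_centralizer_iff.1 (hc (mem_cj.2 ⟨e, he, rfl⟩)) _ (mem_cj.2 ⟨e, he, rfl⟩)).symm
  · exact le_normalizer_iff.1 o.normH a ha e (s.le he)
  · rcases orbit_cases h o tB ha (one_mem Y) with ⟨hc, -⟩ | ⟨-, hc1, hc⟩
    · exact absurd (by simpa using conj_eq_of_cent hc he) hne
    · rw [cj_one] at hc hc1
      rw [commutator_eq_bot_iff_le_centralizer] at hc
      exact ⟨hc (mem_cj.2 ⟨e, he, rfl⟩),
        le_centralizer_iff.1 hc1 (mem_cj.2 ⟨e, he, rfl⟩)⟩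

theorem exists_plane (h : Setup p V H K)
    (hgen : H = ⨆ A : {A : Subgroup G // A ≤ H ∧ Cfsg.IsBestOffenderOn p V A}, (A : Subgroup G))
    (o : Ops q V H K Y) (tB : Tv p V H B) :
    ∃ U : Subgroup G, U ≤ V ⊓ centralizer (Y : Set G) ∧ Nat.card U = p ^ 2 ∧
      H ⊓ centralizer (Y : Set G) ≤ normalizer (U : Set G) ∧
      ∀ d ∈ H ⊓ centralizer (Y : Set G),
        d ∈ centralizer (U : Set G) ↔ d ∈ centralizer ((⁅V, fac K B⁆ : Subgroup G) : Set G) := by
  classical
  have s := fac_spec h tB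
  set E := fac K B with hE
  set W := ⁅V, E⁆ with hW
  set C := V ⊓ centralizer (E : Set G) with hC
  set P : Subgroup G := ⨆ y : Y, cj W (y : G) with hP
  have hPV : P ≤ V := iSup_le fun y =>
    (map_mono s.comm_le).trans (map_normalized (o.normV y.2)).le
  set U := P ⊓ centralizer (Y : Set G) with hU
  have hHW : H ≤ normalizer (W : Set G) := norm_comm h le_rfl (norm_fac h hgen tB)
  have hHC : H ≤ normalizer (C : Set G) := norm_cent h le_rfl (norm_fac h hgen tB)
  have hn : H ⊓ centralizer (Y : Set G) ≤ normalizer (U : Set G) := by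
    refine le_normalizer_iff.2 fun d hd u hu => ⟨?_, ?_⟩
    · have hle : P ≤ P.comap (MulAut.conj d).toMonoidHom := iSup_le fun y => by
        rintro _ ⟨w, hw, rfl⟩
        refine le_iSup (fun y : Y => cj W (y : G)) y
          (mem_cj.2 ⟨d * w * d⁻¹, le_normalizer_iff.1 hHW d hd.1 w hw, ?_⟩)
        show (y : G) * (d * w * d⁻¹) * (y : G)⁻¹ = d * ((y : G) * w * (y : G)⁻¹) * d⁻¹
        have hyd : Commute (y : G) d := mem_centralizer_iff.1 hd.2 y y.2
        calc (y : G) * (d * w * d⁻¹) * (y : G)⁻¹ = ((y : G) * d) * w * ((y : G) * d)⁻¹ := by group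
          _ = (d * y) * w * (d * y)⁻¹ := by rw [hyd.eq]
          _ = _ := by group
      exact hle hu.1
    · exact (centralizer (Y : Set G)).mul_mem ((centralizer (Y : Set G)).mul_mem hd.2 hu.2)
        ((centralizer (Y : Set G)).inv_mem hd.2)
  have hsplit : ∀ w ∈ W, ∃ r ∈ C, w * r ∈ U := by
    intro w hw
    refine exists_orbit_prod (fun a ha b hb => ?_) (fun a ha => ?_) (fun a ha hne => ?_)
    · exact comm_of_mem h.elem.1 (hPV (le_iSup (fun y : Y => cj W (y : G)) ⟨a, ha⟩
        (mem_cj.2 ⟨w, hw, rfl⟩))) (hPV (le_iSup (fun y : Y => cj W (y : G)) ⟨b, hb⟩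
        (mem_cj.2 ⟨w, hw, rfl⟩)))
    · exact le_iSup (fun y : Y => cj W (y : G)) ⟨a, ha⟩ (mem_cj.2 ⟨w, hw, rfl⟩)
    · refine ⟨le_normalizer_iff.1 o.normV a ha w (s.comm_le hw), ?_⟩
      rcases orbit_cases h o tB ha (one_mem Y) with ⟨-, hc⟩ | ⟨hc1, -, -⟩
      · exact absurd (by simpa using conj_eq_of_cent hc hw) hne
      · rw [cj_one] at hc1
        refine hc1 ?_
        rw [show ⁅V, cj E a⁆ = cj W a by
          rw [hW, cj, cj, map_commutator, map_normalized (o.normV ha)]]
        exact mem_cj.2 ⟨w, hw, rfl⟩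
  have hinf : U ⊓ C = ⊥ := by
    set Q : Subgroup G := ⨆ y : Y, cj ⁅K, B⁆ (y : G) with hQ
    have hQK : Q ≤ K := iSup_le fun y =>
      (map_mono s.commK).trans (map_normalized (o.normK y.2)).le
    haveI := h.elem.1
    have hcop : (Nat.card Q).Coprime (Nat.card V) := by
      obtain ⟨k, hk⟩ := IsPGroup.iff_card.1 (isPGroup_of_elementary h.elem)
      rw [hk]
      exact (((Fact.out : p.Prime).coprime_iff_not_dvd.2 fun hd =>
        h.cop (hd.trans (card_dvd_of_le hQK))).symm).pow_right k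
    have hPQ : P ≤ ⁅V, Q⁆ := iSup_le fun y => by
      refine le_of_eq_of_le ?_ (commutator_mono le_rfl (le_iSup (fun y : Y => cj ⁅K, B⁆ (y : G)) y))
      rw [hW, ← s.commQ]
      conv_rhs => rw [← map_normalized (o.normV y.2)]
      exact map_commutator _ _ _
    rw [eq_bot_iff, ← CfsgLib.Core.abelian_inf_eq_bot ((hQK.trans h.le).trans h.norm) hcop]
    rintro x ⟨hxU, hxC⟩
    refine ⟨⟨hPV hxU.1, ?_⟩, hPQ hxU.1⟩
    refine le_centralizer_iff.1 (iSup_le fun y => ?_ :
      Q ≤ centralizer ((zpowers x : Subgroup G) : Set G)) (mem_zpowers x)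
    rintro _ ⟨a, ha, rfl⟩
    refine mem_centralizer_iff.2 fun z hz => ?_
    obtain ⟨n, rfl⟩ := mem_zpowers_iff.1 hz
    have hxa : Commute a x := mem_centralizer_iff.1 hxC.2 a (comm_le_fac K B ha)
    have hxy : Commute (y : G) x := mem_centralizer_iff.1 hxU.2 y y.2
    exact (((hxy.mul_left hxa).mul_left hxy.inv_left).zpow_right n).eq.symm
  have hsup : U ⊔ C = V := by
    refine le_antisymm (sup_le (inf_le_left.trans hPV) inf_le_left) ?_
    rw [← s.sup]
    refine sup_le (fun w hw => ?_) le_sup_right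
    obtain ⟨r, hr, hwr⟩ := hsplit w hw
    have := (U ⊔ C).mul_mem (mem_sup_left hwr) ((U ⊔ C).inv_mem (mem_sup_right hr))
    rwa [mul_inv_cancel_right] at this
  have hcard : Nat.card U = p ^ 2 := by
    have h1 := card_sup_mul_card_inf U C (comm_le_normalizer h (inf_le_left.trans hPV) inf_le_left)
    have h2 := card_sup_mul_card_inf W C (comm_le_normalizer h s.comm_le inf_le_left)
    rw [hsup, hinf, card_bot, mul_one] at h1
    rw [s.sup, s.inf, card_bot, mul_one, s.comm_card] at h2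
    exact Nat.eq_of_mul_eq_mul_right Nat.card_pos (h1.trans h2.symm)
  refine ⟨U, le_inf (inf_le_left.trans hPV) inf_le_right, hcard, hn, fun d hd => ⟨fun hdU => ?_,
    fun hdW => ?_⟩⟩
  · refine mem_centralizer_iff_conj.2 fun w hw => ?_
    obtain ⟨r, hr, hwr⟩ := hsplit w hw
    have h1 := mem_centralizer_iff_conj.1 hdU _ hwr
    have hm : (d * w * d⁻¹) * w⁻¹ ∈ W ⊓ C := by
      refine ⟨W.mul_mem (le_normalizer_iff.1 hHW d hd.1 w hw) (W.inv_mem hw), ?_⟩
      have h2 : (d * w * d⁻¹) * w⁻¹ = w * r * (d * r * d⁻¹)⁻¹ * w⁻¹ := by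
        refine congrArg (· * w⁻¹) ?_
        rw [eq_mul_inv_iff_mul_eq]
        exact (by group : d * w * d⁻¹ * (d * r * d⁻¹) = d * (w * r) * d⁻¹).trans h1
      rw [h2, show w * r * (d * r * d⁻¹)⁻¹ * w⁻¹ = r * (d * r * d⁻¹)⁻¹ by
        rw [mul_assoc w r, comm_of_mem h.elem.1 (s.comm_le hw)
          (V.mul_mem hr.1 (V.inv_mem (le_normalizer_iff.1 hHC d hd.1 r hr).1)), mul_inv_cancel_right]]
      exact C.mul_mem hr (C.inv_mem (le_normalizer_iff.1 hHC d hd.1 r hr))
    rw [s.inf, mem_bot] at hm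
    exact mul_inv_eq_one.1 hm
  · refine mem_centralizer_iff.2 fun u hu => ?_
    refine (mem_centralizer_iff.1 ((le_centralizer_iff.1 ?_) (mem_zpowers d)) u hu.1 : u * d = d * u)
    refine iSup_le fun y => ?_
    rintro _ ⟨w, hw, rfl⟩
    refine mem_centralizer_iff.2 fun z hz => ?_
    obtain ⟨n, rfl⟩ := mem_zpowers_iff.1 hz
    have hwd : Commute w d := mem_centralizer_iff.1 hdW w hw
    have hyd : Commute (y : G) d := mem_centralizer_iff.1 hd.2 y y.2
    exact (((hyd.mul_left hwd).mul_left hyd.inv_left).zpow_right n).eq.symm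

end CfsgLib.PLocal.FF
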