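import Cfsg.Agent.Lib.PLocal.Offender
import Cfsg.Agent.Lib.Signalizer.Basic
import Cfsg.Agent.Lib.Core.Coprime
import Cfsg.Agent.Lib.Core.Cores
import Cfsg.Agent.Lib.PGroups.Basic

/-!
# Best offenders over a self-centralising `p'`-group
-/

set_option autoImplicit false

namespace CfsgLib.PLocal.FF

open Subgroup
open scoped commutatorElement

variable {G : Type*} [Group G] {p : ℕ}

theorem comm_normalized {X Y : Subgroup G} {g : G} (hX : g ∈ normalizer (X : Set G))
    (hY : g ∈ normalizer (Y : Set G)) : g ∈ normalizer ((⁅X, Y⁆ : Subgroup G) : Set G) := by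
  have key : zpowers g ≤ normalizer ((⁅X, Y⁆ : Subgroup G) : Set G) := by
    refine le_normalizer_iff.2 fun h hh z hz => ?_
    refine closure_induction (p := fun z _ => h * z * h⁻¹ ∈ ⁅X, Y⁆) ?_ ?_ ?_ ?_ hz
    · rintro _ ⟨a, ha, b, hb, rfl⟩
      rw [conjugate_commutatorElement]
      exact commutator_mem_commutator (le_normalizer_iff.1 (zpowers_le.2 hX) h hh a ha)
        (le_normalizer_iff.1 (zpowers_le.2 hY) h hh b hb)
    · simp
    · intro u v _ _ hu hv
      simpa [mul_assoc] using mul_mem hu hv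
    · intro u _ hu
      simpa [mul_assoc] using inv_mem hu
  exact key (mem_zpowers g)

variable [Finite G] [Fact p.Prime]

theorem exists_fixed_ne_one {A U : Subgroup G} (hA : IsPGroup p A) (hU : IsPGroup p U)
    (hAU : A ≤ normalizer (U : Set G)) (hne : U ≠ ⊥) : U ⊓ centralizer (A : Set G) ≠ ⊥ := by
  intro hbot
  set X := U ⊔ A with hX
  have hXp : IsPGroup p X := hU.to_sup_of_normal_left' hA hAU
  have : (U.subgroupOf X).Normal :=
    normal_subgroupOf_of_le_normalizer (sup_le le_normalizer hAU)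
  have hne' : U.subgroupOf X ≠ ⊥ := fun h => hne (by
    rw [subgroupOf_eq_bot, disjoint_iff, inf_of_le_left le_sup_left] at h
    exact h)
  obtain ⟨⟨z, hz⟩, hz1⟩ := (Subgroup.ne_bot_iff_exists_ne_one).1
    (CfsgLib.PGroups.inf_center_ne_bot hXp hne')
  have hm : (z : G) ∈ U ⊓ centralizer (A : Set G) := ⟨hz.1, mem_centralizer_iff.2 fun a ha =>
    congrArg Subtype.val (mem_center_iff.1 hz.2 ⟨a, mem_sup_right ha⟩)⟩
  rw [hbot, mem_bot] at hm
  exact hz1 (Subtype.ext (Subtype.ext hm))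

theorem mul_card_le {A B : Subgroup G} (hB : IsPGroup p B) (h : A < B) :
    p * Nat.card A ≤ Nat.card B := by
  have hp := (Fact.out : p.Prime)
  obtain ⟨b, hb⟩ := IsPGroup.iff_card.1 hB
  obtain ⟨a, ha⟩ := IsPGroup.iff_card.1 (hB.to_le h.le)
  have h1 : Nat.card A < Nat.card B := lt_of_le_of_ne (card_le_of_le h.le)
    fun he => h.ne (eq_of_le_of_card_ge h.le he.ge)
  rw [ha, hb] at h1 ⊢
  rw [← pow_succ']
  exact Nat.pow_le_pow_right hp.pos ((Nat.pow_lt_pow_iff_right hp.one_lt).1 h1)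

/-- the standing hypotheses -/
structure Setup (p : ℕ) (V H K : Subgroup G) : Prop where
  elem : Cfsg.IsElementaryAbelian p V
  norm : H ≤ normalizer (V : Set G)
  faithful : H ⊓ centralizer (V : Set G) = ⊥
  le : K ≤ H
  normK : H ≤ normalizer (K : Set G)
  cop : ¬ p ∣ Nat.card K
  selfc : H ⊓ centralizer (K : Set G) ≤ K

theorem setup_core {V H : Subgroup G} (hV : Cfsg.IsElementaryAbelian p V)
    (hHV : H ≤ normalizer (V : Set G)) (hf : H ⊓ centralizer (V : Set G) = ⊥)
    (hS1 : centralizer (Cfsg.pPrimeCore p H : Set H) ≤ Cfsg.pPrimeCore p H) :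
    Setup p V H ((Cfsg.pPrimeCore p H).map H.subtype) := by
  refine ⟨hV, hHV, hf, map_subtype_le _, ?_, ?_, ?_⟩
  · refine le_normalizer_iff.2 fun h hh k hk => ?_
    obtain ⟨k, hk, rfl⟩ := hk
    exact ⟨⟨h, hh⟩ * k * ⟨h, hh⟩⁻¹,
      (inferInstance : (Cfsg.pPrimeCore p H).Normal).conj_mem k hk _, rfl⟩
  · rw [Subgroup.card_map_of_injective H.subtype_injective]
    exact fun h => ((Fact.out : p.Prime).coprime_iff_not_dvd.1
      (CfsgLib.Core.coprime_card_pPrimeCore p H).symm) h
  · rintro h ⟨hh, hc⟩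
    refine ⟨⟨h, hh⟩, hS1 (mem_centralizer_iff.2 fun k hk => Subtype.ext ?_), rfl⟩
    exact mem_centralizer_iff.1 hc k ⟨k, hk, rfl⟩

variable {V H K : Subgroup G}

theorem Setup.eq_one_of_centralizes (h : Setup p V H K) {x : G} (hx : x ∈ H)
    (hfix : ∀ v ∈ V, x * v * x⁻¹ = v) : x = 1 := by
  have : x ∈ H ⊓ centralizer (V : Set G) := ⟨hx, mem_centralizer_iff_conj.2 hfix⟩
  rwa [h.faithful, mem_bot] at this

theorem Setup.inf_K (h : Setup p V H K) {A : Subgroup G} (hA : IsPGroup p A) : A ⊓ K = ⊥ := by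
  rw [inf_comm]
  refine inf_eq_bot_of_coprime ?_
  obtain ⟨k, hk⟩ := IsPGroup.iff_card.1 hA
  rw [hk]
  exact (((Fact.out : p.Prime).coprime_iff_not_dvd.2 h.cop).symm).pow_right k

theorem Setup.inf_centK (h : Setup p V H K) {A : Subgroup G} (hA : IsPGroup p A) (hAH : A ≤ H) :
    A ⊓ centralizer (K : Set G) = ⊥ :=
  eq_bot_iff.2 fun x hx => (h.inf_K hA).le ⟨hx.1, h.selfc ⟨hAH hx.1, hx.2⟩⟩

theorem Setup.elemA (h : Setup p V H K) {A : Subgroup G} (hAH : A ≤ H)
    (hA : Cfsg.IsBestOffenderOn p V A) : Cfsg.IsElementaryAbelian p A := by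
  refine ⟨(commutator_self_eq_bot_iff (H := A)).1 ?_, fun a ha => ?_⟩
  · rw [eq_bot_iff, ← h.faithful]
    exact le_inf ((commutator_le_self A).trans hAH) hA.2.1
  · have : a ^ p ∈ H ⊓ centralizer (V : Set G) := ⟨H.pow_mem (hAH ha) p, hA.2.2 a ha⟩
    rwa [h.faithful, mem_bot] at this

theorem offMeasure_bot : offMeasure V (⊥ : Subgroup G) = Nat.card V := by
  rw [offMeasure, card_bot, one_mul, inf_eq_left.2 fun v _ => mem_centralizer_iff.2 fun g hg => by
    rw [mem_bot.1 hg, one_mul, mul_one]]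

/-- a maximal subgroup of `A` missing `D` with more fixed points -/
theorem Setup.exists_hyperplane (h : Setup p V H K) {A D : Subgroup G} (hAH : A ≤ H)
    (hA : Cfsg.IsElementaryAbelian p A) (hDA : D ≤ A) (hD : D ≠ ⊥) :
    ∃ B : Subgroup G, B ≤ A ∧ p * Nat.card B = Nat.card A ∧ ¬ D ≤ B ∧
      V ⊓ centralizer (A : Set G) < V ⊓ centralizer (B : Set G) := by
  classical
  have hp := (Fact.out : p.Prime)
  have hAp : IsPGroup p A := isPGroup_of_elementary hA
  have hDK : ¬ D ≤ centralizer (K : Set G) := fun hc => hD (eq_bot_iff.2 fun x hx =>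
    (h.inf_centK hAp hAH).le ⟨hDA hx, hc hx⟩)
  obtain ⟨Q, ⟨hQK, hAQ, hDQ⟩, hmin⟩ := Set.exists_min_image
    {Q : Subgroup G | Q ≤ K ∧ A ≤ normalizer (Q : Set G) ∧ ¬ D ≤ centralizer (Q : Set G)}
    (fun Q => Nat.card Q) (Set.toFinite _) ⟨K, le_rfl, hAH.trans h.normK, hDK⟩
  have hQp : ¬ p ∣ Nat.card Q := fun hd => h.cop (hd.trans (card_dvd_of_le hQK))
  obtain ⟨B, hBA, hBidx, hBQ⟩ : ∃ B : Subgroup G, B ≤ A ∧ B.relIndex A ≤ p ∧
      ¬ Q ⊓ centralizer (B : Set G) ≤ Q ⊓ centralizer (D : Set G) := by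
    by_contra hc
    push Not at hc
    exact hDQ (le_centralizer_iff.1
      ((CfsgLib.Signalizer.le_of_hyperplanes_le hA hQp hAQ hc).trans inf_le_right))
  have hAB : A ≤ centralizer (B : Set G) :=
    (le_centralizer_iff_isMulCommutative.2 hA.1).trans (centralizer_le (SetLike.coe_subset_coe.2 hBA))
  have hQB : Q ≤ centralizer (B : Set G) := by
    have hge := hmin (Q ⊓ centralizer (B : Set G)) ⟨inf_le_left.trans hQK,
      (le_inf hAQ (hAB.trans le_normalizer)).trans inf_normalizer_le_normalizer_inf,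
      fun hc => hBQ (le_inf inf_le_left (le_centralizer_iff.1 hc))⟩
    exact (eq_of_le_of_card_ge inf_le_left hge).ge.trans inf_le_right
  have hDB : ¬ D ≤ B := fun hle =>
    hDQ (hle.trans (le_centralizer_iff.1 hQB))
  have hcard : p * Nat.card B = Nat.card A := by
    have h1 : B < A := lt_of_le_of_ne hBA fun he => hDB (he.symm ▸ hDA)
    have h2 := relIndex_mul_relIndex ⊥ B A bot_le hBA
    rw [relIndex_bot_left, relIndex_bot_left] at h2
    refine le_antisymm (mul_card_le hAp h1) ?_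
    rw [← h2, mul_comm]
    exact Nat.mul_le_mul_right _ hBidx
  refine ⟨B, hBA, hcard, hDB, lt_of_le_of_ne (inf_centralizer_anti V hBA) fun heq => ?_⟩
  set W := V ⊓ centralizer (A : Set G) with hW
  have hQV : Q ≤ normalizer (V : Set G) := (hQK.trans h.le).trans h.norm
  have hQW : Q ≤ normalizer (W : Set G) := by
    rw [heq]
    exact (le_inf hQV (hQB.trans le_normalizer)).trans inf_normalizer_le_normalizer_inf
  set Q1 := ⁅Q, A⁆ with hQ1
  have hQ1W : ⁅Q1, W⁆ = ⊥ := by
    have h1 : ⁅A, W⁆ = ⊥ := by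
      rw [commutator_comm, commutator_eq_bot_iff_le_centralizer]
      exact inf_le_right
    refine commutator_commutator_eq_bot_of_rotate ?_ ?_
    · rw [h1, commutator_bot_left]
    · rw [eq_bot_iff]
      refine (commutator_mono (le_normalizer_iff_commutator_le_left.1 hQW) le_rfl).trans ?_
      rw [commutator_comm, h1]
  have hcop : (Nat.card A).Coprime (Nat.card Q) := by
    obtain ⟨k, hk⟩ := IsPGroup.iff_card.1 hAp
    rw [hk]
    exact (hp.coprime_iff_not_dvd.2 hQp).pow_left k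
  have hsolv : Group.IsSolvable A ∨ Group.IsSolvable Q :=
    Or.inl (haveI := hAp.isNilpotent; inferInstance)
  have hQ1le : Q1 ≤ Q := CfsgLib.Core.commutator_le_of_normalizes hAQ
  have hQ1eq : Q1 = Q := by
    refine eq_of_le_of_card_ge hQ1le (hmin Q1 ⟨hQ1le.trans hQK,
      normalizer_commutator_ge_right Q A, fun hc => hDQ ?_⟩)
    rw [le_centralizer_iff]
    rw [← CfsgLib.Core.commutator_sup_centralizer hAQ hcop hsolv]
    refine sup_le (le_centralizer_iff.1 hc) (inf_le_right.trans ?_)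
    exact centralizer_le (SetLike.coe_subset_coe.2 hDA)
  rw [hQ1eq, commutator_eq_bot_iff_le_centralizer] at hQ1W
  -- `B` fixes a point of `[V, Q]`
  haveI := h.elem.1
  have hVp : IsPGroup p V := isPGroup_of_elementary h.elem
  have hcop' : (Nat.card Q).Coprime (Nat.card V) := by
    obtain ⟨k, hk⟩ := IsPGroup.iff_card.1 hVp
    rw [hk]
    exact ((hp.coprime_iff_not_dvd.2 hQp).symm).pow_right k
  have hinf := CfsgLib.Core.abelian_inf_eq_bot hQV hcop'
  have hUV : ⁅V, Q⁆ ≤ V := commutator_le_of_le_normalizer hQV le_rfl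
  have hU : ⁅V, Q⁆ ≠ ⊥ := fun hb => hDQ (by
    rw [commutator_eq_bot_iff_le_centralizer, le_centralizer_iff] at hb
    have hQ1' : Q = ⊥ := eq_bot_iff.2 fun q hq => mem_bot.2
      (h.eq_one_of_centralizes (h.le (hQK hq)) (mem_centralizer_iff_conj.1 (hb hq)))
    rw [hQ1']
    exact fun x _ => mem_centralizer_iff.2 fun g hg => by rw [mem_bot.1 hg, one_mul, mul_one])
  refine exists_fixed_ne_one (hAp.to_le hBA) (hVp.to_le hUV) (fun b hb => comm_normalized
    ((hBA.trans (hAH.trans h.norm)) hb)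
    (le_normalizer_iff.2 (fun x hx q hq => by
      rwa [show x * q * x⁻¹ = q from by
        rw [mem_centralizer_iff.1 (hQB hq) x hx, mul_inv_cancel_right]]) hb)) hU ?_
  rw [eq_bot_iff, ← hinf]
  rintro x ⟨hx, hxB⟩
  have hxW : x ∈ W := heq.ge ⟨hUV hx, hxB⟩
  exact ⟨⟨hUV hx, (le_centralizer_iff.1 hQ1W) hxW⟩, hx⟩

theorem Setup.measure_le (h : Setup p V H K) : ∀ n : ℕ, ∀ A : Subgroup G, Nat.card A ≤ n → A ≤ H →
    Cfsg.IsElementaryAbelian p A → offMeasure V A ≤ Nat.card V := by
  intro n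
  induction n with
  | zero => exact fun A hA => absurd hA (Nat.card_pos (α := A)).not_ge
  | succ n ih =>
    intro A hn hAH hA
    by_cases hA1 : A = ⊥
    · rw [hA1, offMeasure_bot]
    obtain ⟨B, hBA, hc, -, hlt⟩ := h.exists_hyperplane hAH hA le_rfl hA1
    have hB : Nat.card B ≤ n := by
      have := (Fact.out : p.Prime).two_le
      have := Nat.card_pos (α := B)
      nlinarith
    have h1 := ih B hB (hBA.trans hAH) (elementary_mono hA hBA)
    have h2 := mul_card_le ((isPGroup_of_elementary h.elem).to_le inf_le_left) hlt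
    rw [offMeasure] at h1 ⊢
    refine le_trans ?_ h1
    rw [← hc, mul_comm p, mul_assoc]
    exact Nat.mul_le_mul_left _ h2

theorem Setup.le_card (h : Setup p V H K) {A : Subgroup G} (hAH : A ≤ H)
    (hA : Cfsg.IsElementaryAbelian p A) : offMeasure V A ≤ Nat.card V :=
  h.measure_le _ A le_rfl hAH hA

theorem Setup.offender_eq (h : Setup p V H K) {A : Subgroup G} (hAH : A ≤ H)
    (hA : Cfsg.IsBestOffenderOn p V A) : offMeasure V A = Nat.card V := by
  refine le_antisymm (h.le_card hAH (h.elemA hAH hA)) ?_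
  rw [← offMeasure_bot (V := V)]
  exact hA.1 ⊥ bot_le

theorem Setup.best_of_eq (h : Setup p V H K) {A : Subgroup G} (hAH : A ≤ H)
    (hA : Cfsg.IsElementaryAbelian p A) (he : offMeasure V A = Nat.card V) :
    Cfsg.IsBestOffenderOn p V A := by
  refine ⟨fun B hB => ?_, ?_, fun a ha => ?_⟩
  · have := h.le_card (hB.trans hAH) (elementary_mono hA hB)
    rw [← he] at this
    exact this
  · rw [(commutator_self_eq_bot_iff (H := A)).2 hA.1]
    exact bot_le
  · rw [hA.2 a ha]; exact one_mem _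

theorem Setup.exists_best_hyperplane (h : Setup p V H K) {A D : Subgroup G} (hAH : A ≤ H)
    (hA : Cfsg.IsBestOffenderOn p V A) (hDA : D ≤ A) (hD : D ≠ ⊥) :
    ∃ B : Subgroup G, B ≤ A ∧ p * Nat.card B = Nat.card A ∧ ¬ D ≤ B ∧
      Cfsg.IsBestOffenderOn p V B := by
  obtain ⟨B, hBA, hc, hDB, hlt⟩ := h.exists_hyperplane hAH (h.elemA hAH hA) hDA hD
  have hB := elementary_mono (h.elemA hAH hA) hBA
  refine ⟨B, hBA, hc, hDB, h.best_of_eq (hBA.trans hAH) hB (le_antisymm
    (h.le_card (hBA.trans hAH) hB) ?_)⟩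
  have h2 := mul_card_le ((isPGroup_of_elementary h.elem).to_le inf_le_left) hlt
  rw [← h.offender_eq hAH hA, offMeasure, offMeasure, ← hc, mul_comm p, mul_assoc]
  exact Nat.mul_le_mul_left _ h2

theorem Setup.commutator_ne_bot (h : Setup p V H K) {B : Subgroup G} (hBH : B ≤ H) (hB : B ≠ ⊥) :
    ⁅V, B⁆ ≠ ⊥ := fun hb => hB (by
  rw [commutator_eq_bot_iff_le_centralizer, le_centralizer_iff] at hb
  rw [eq_bot_iff, ← h.faithful]
  exact le_inf hBH hb)

theorem Setup.card_of_minimal (h : Setup p V H K) {A : Subgroup G} (hAH : A ≤ H)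
    (hA : Cfsg.IsBestOffenderOn p V A) (hAV : ⁅V, A⁆ ≠ ⊥)
    (hmin : ∀ B : Subgroup G, B ≤ A → Cfsg.IsBestOffenderOn p V B → ⁅V, B⁆ ≠ ⊥ → B = A) :
    Nat.card A = p := by
  have hA1 : A ≠ ⊥ := fun hb => hAV (by rw [hb, commutator_bot_right])
  obtain ⟨B, hBA, hc, hDB, hB⟩ := h.exists_best_hyperplane hAH hA le_rfl hA1
  by_cases hb : B = ⊥
  · rw [← hc, hb, card_bot, mul_one]
  · exact absurd (hmin B hBA hB (h.commutator_ne_bot (hBA.trans hAH) hb)).ge hDB

theorem Setup.minimal_of_card (h : Setup p V H K) {A : Subgroup G} (hAH : A ≤ H)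
    (hc : Nat.card A = p) :
    ⁅V, A⁆ ≠ ⊥ ∧
      ∀ B : Subgroup G, B ≤ A → Cfsg.IsBestOffenderOn p V B → ⁅V, B⁆ ≠ ⊥ → B = A := by
  refine ⟨h.commutator_ne_bot hAH fun hb => ?_, fun B hBA _ hBV => ?_⟩
  · rw [hb, card_bot] at hc
    exact (Fact.out : p.Prime).ne_one hc.symm
  · rcases (Nat.dvd_prime (Fact.out : p.Prime)).1 (hc ▸ card_dvd_of_le hBA) with h1 | h1
    · exact absurd (by rw [card_eq_one.1 h1, commutator_bot_right]) hBV
    · exact eq_of_le_of_card_ge hBA (by rw [h1, hc])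

theorem Setup.exists_min_offender_not_le (h : Setup p V H K) {A B : Subgroup G} (hAH : A ≤ H)
    (hA : Cfsg.IsBestOffenderOn p V A) (hB : B ≤ A) (hidx : p * Nat.card B = Nat.card A) :
    ∃ X : Subgroup G, X ≤ A ∧ Nat.card X = p ∧ Cfsg.IsBestOffenderOn p V X ∧ X ⊓ B = ⊥ := by
  classical
  have hp := (Fact.out : p.Prime)
  have hAB : ¬ A ≤ B := fun hle => by
    have := card_le_of_le hle
    have := Nat.card_pos (α := B)
    have := hp.two_le
    nlinarith
  obtain ⟨X, ⟨hXA, hX, hXB⟩, hmin⟩ := Set.exists_min_image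
    {X : Subgroup G | X ≤ A ∧ Cfsg.IsBestOffenderOn p V X ∧ ¬ X ≤ B}
    (fun X => Nat.card X) (Set.toFinite _) ⟨A, le_rfl, hA, hAB⟩
  have hXH := hXA.trans hAH
  have hXi : X ⊓ B = ⊥ := by
    by_contra hD
    obtain ⟨B', hB'X, hc', hDB', hB'⟩ := h.exists_best_hyperplane hXH hX inf_le_left hD
    by_cases hle : B' ≤ B
    · refine hDB' ?_
      have hlt : X ⊓ B < X := lt_of_le_of_ne inf_le_left fun he => hXB (he.ge.trans inf_le_right)
      have h1 := mul_card_le ((isPGroup_of_elementary (h.elemA hXH hX))) hlt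
      rw [← hc'] at h1
      exact (eq_of_le_of_card_ge (le_inf hB'X hle) (Nat.le_of_mul_le_mul_left h1 hp.pos)).ge
    · have h1 := hmin B' ⟨hB'X.trans hXA, hB', hle⟩
      have := Nat.card_pos (α := B')
      have := hp.two_le
      nlinarith
  refine ⟨X, hXA, ?_, hX, hXi⟩
  have hXne : X ≠ ⊥ := fun hb => hXB (hb ▸ bot_le)
  have hAelem := h.elemA hAH hA
  have hXn : X ≤ normalizer (B : Set G) := (hXA.trans
    ((le_centralizer_iff_isMulCommutative.2 hAelem.1).trans
      (centralizer_le (SetLike.coe_subset_coe.2 hB)))).trans (centralizer_le_normalizer _)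
  have h2 := card_sup_mul_card_inf X B hXn
  rw [hXi, card_bot, mul_one] at h2
  have h3 : Nat.card X * Nat.card B ≤ p * Nat.card B := by
    rw [h2, hidx]; exact card_le_of_le (sup_le hXA hB)
  obtain ⟨k, hk⟩ := IsPGroup.iff_card.1 ((isPGroup_of_elementary hAelem).to_le hXA)
  have h4 : p ^ k ≤ p ^ 1 := by
    rw [pow_one, ← hk]; exact Nat.le_of_mul_le_mul_right h3 Nat.card_pos
  have h5 : k ≠ 0 := fun h0 => hXne (card_eq_one.1 (by rw [hk, h0, pow_zero]))
  have h6 := (Nat.pow_le_pow_iff_right hp.one_lt).1 h4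
  rw [hk, show k = 1 by omega, pow_one]

theorem Setup.decompose (h : Setup p V H K) : ∀ n : ℕ, ∀ A : Subgroup G, Nat.card A ≤ n → A ≤ H →
    Cfsg.IsBestOffenderOn p V A → ∃ (k : ℕ) (B : Fin k → Subgroup G),
      (∀ i, B i ≤ A ∧ Cfsg.IsBestOffenderOn p V (B i) ∧ Nat.card (B i) = p) ∧
        iSupIndep B ∧ ⨆ i, B i = A := by
  intro n
  induction n with
  | zero => exact fun A hA => absurd hA (Nat.card_pos (α := A)).not_ge
  | succ n ih =>
    intro A hn hAH hA
    by_cases hA1 : A = ⊥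
    · refine ⟨0, fun _ => ⊥, fun i => i.elim0, fun i => i.elim0, ?_⟩
      rw [hA1]
      exact le_bot_iff.1 (iSup_le fun i => i.elim0)
    obtain ⟨B0, hB0A, hc, -, hB0⟩ := h.exists_best_hyperplane hAH hA le_rfl hA1
    have hB0n : Nat.card B0 ≤ n := by
      have := (Fact.out : p.Prime).two_le
      have := Nat.card_pos (α := B0)
      nlinarith
    obtain ⟨k, f, hf, hind, hsup⟩ := ih B0 hB0n (hB0A.trans hAH) hB0
    obtain ⟨X, hXA, hXc, hX, hXi⟩ := h.exists_min_offender_not_le hAH hA hB0A hc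
    have hAelem := h.elemA hAH hA
    have hcent : A ≤ centralizer (A : Set G) := le_centralizer_iff_isMulCommutative.2 hAelem.1
    have hXn : X ≤ normalizer (B0 : Set G) := (hXA.trans
      (hcent.trans (centralizer_le (SetLike.coe_subset_coe.2 hB0A)))).trans
        (centralizer_le_normalizer _)
    have hfB : ∀ i, f i ≤ B0 := fun i => (hf i).1
    refine ⟨k + 1, Fin.cons X f, fun i => ?_, fun i => ?_, ?_⟩
    · induction i using Fin.cases with
      | zero => simpa using ⟨hXA, hX, hXc⟩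
      | succ i => simpa using ⟨(hfB i).trans hB0A, (hf i).2⟩
    · rw [disjoint_iff]
      induction i using Fin.cases with
      | zero =>
        simp only [Fin.cons_zero]
        refine le_bot_iff.1 (hXi ▸ inf_le_inf_left X ?_)
        refine iSup₂_le fun j hj => ?_
        obtain ⟨j, rfl⟩ := Fin.exists_succ_eq.2 hj
        simpa using hfB j
      | succ i =>
        simp only [Fin.cons_succ]
        set R := ⨆ j, ⨆ (_ : j ≠ i), f j with hR
        have hRB : R ≤ B0 := iSup₂_le fun j _ => hfB j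
        have hle : (⨆ j, ⨆ (_ : j ≠ i.succ), (Fin.cons X f : Fin (k + 1) → Subgroup G) j) ≤
            X ⊔ R := by
          refine iSup₂_le fun j hj => ?_
          induction j using Fin.cases with
          | zero => simp
          | succ j =>
            simp only [Fin.cons_succ]
            exact le_sup_of_le_right (le_iSup₂_of_le j (fun e => hj (by rw [e])) le_rfl)
        rw [eq_bot_iff]
        rintro b ⟨hb, hb'⟩
        have hRn : X ≤ normalizer (R : Set G) :=
          (hXA.trans (hcent.trans (centralizer_le (SetLike.coe_subset_coe.2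
            (hRB.trans hB0A))))).trans (centralizer_le_normalizer _)
        have hb2 : b ∈ X ⊔ R := hle hb'
        rw [← SetLike.mem_coe, coe_mul_of_left_le_normalizer_right X R hRn] at hb2
        obtain ⟨x, hx, r, hr, rfl⟩ := hb2
        have hxB : x ∈ B0 := by
          simpa using B0.mul_mem (hfB i hb) (B0.inv_mem (hRB hr))
        have hx1 : x = 1 := mem_bot.1 (hXi.le ⟨hx, hxB⟩)
        subst hx1
        simp only [one_mul] at hb ⊢
        exact (hind i).le_bot ⟨hb, hr⟩
    · refine le_antisymm (iSup_le fun i => ?_) ?_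
      · induction i using Fin.cases with
        | zero => simpa using hXA
        | succ i => simpa using (hfB i).trans hB0A
      · have h2 := card_sup_mul_card_inf X B0 hXn
        rw [hXi, card_bot, mul_one, hXc, hc] at h2
        rw [← eq_of_le_of_card_ge (sup_le hXA hB0A) h2.le, ← hsup]
        refine sup_le (le_iSup_of_le 0 (by simp)) (iSup_le fun i => le_iSup_of_le i.succ (by simp))

end CfsgLib.PLocal.FF
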