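import Cfsg.Agent.Lib.PLocal.FFPair
import Cfsg.Agent.Lib.Classical.SL2Sylow
import Cfsg.Agent.Lib.OddLocal.RankTwoAut
import Cfsg.Agent.Lib.PLocal.SLTwo.QdExtension

/-!
# A transvection offender and its conjugates over the `p'`-group span `SL(2, p)` on a plane
-/

set_option autoImplicit false

namespace CfsgLib.PLocal.FF

open Subgroup
open scoped commutatorElement

variable {G : Type*} [Group G] {p : ℕ}

/-- a best offender of order `p` -/
structure Tv (p : ℕ) (V H X : Subgroup G) : Prop where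
  le : X ≤ H
  card : Nat.card X = p
  best : Cfsg.IsBestOffenderOn p V X

/-- the conjugate of `X` by `k` -/
abbrev cj (X : Subgroup G) (k : G) : Subgroup G := X.map (MulAut.conj k).toMonoidHom

theorem mem_cj {X : Subgroup G} {k y : G} : y ∈ cj X k ↔ ∃ x ∈ X, k * x * k⁻¹ = y := Iff.rfl

theorem cj_cj (X : Subgroup G) (a b : G) : cj (cj X a) b = cj X (b * a) := by
  ext y
  simp only [mem_cj]
  constructor
  · rintro ⟨_, ⟨x, hx, rfl⟩, rfl⟩
    exact ⟨x, hx, by group⟩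
  · rintro ⟨x, hx, rfl⟩
    exact ⟨_, ⟨x, hx, rfl⟩, by group⟩

theorem cj_one (X : Subgroup G) : cj X 1 = X := by
  ext y
  simp [mem_cj]

theorem cj_self {X : Subgroup G} {a : G} (ha : a ∈ normalizer (X : Set G)) : cj X a = X := by
  ext y
  rw [mem_cj]
  constructor
  · rintro ⟨x, hx, rfl⟩
    exact (mem_normalizer_iff.1 ha x).1 hx
  · intro hy
    refine ⟨a⁻¹ * y * a, ?_, by group⟩
    rw [mem_normalizer_iff.1 ha]
    simpa [mul_assoc] using hy

theorem comm_pow_fixed {e v : G} (hfix : e * ⁅e, v⁆ * e⁻¹ = ⁅e, v⁆) (n : ℕ) :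
    ⁅e ^ n, v⁆ = ⁅e, v⁆ ^ n := by
  induction n with
  | zero => simp
  | succ n ih =>
    have hc : Commute e ⁅e, v⁆ := mul_inv_eq_iff_eq_mul.1 hfix
    rw [pow_succ, comm_mul_left', ih, (hc.pow_left n).eq, mul_inv_cancel_right, ← pow_succ']

theorem comm_fixed_one {e v : G} (h : ⁅e, v⁆ = 1) : e * v * e⁻¹ = v := comm_eq_one_iff_conj.1 h

variable [Finite G] [Fact p.Prime] {V H K X Y : Subgroup G}

theorem card_inter_prime {L M : Subgroup G} (hL : Nat.card L = p) (h : ¬ L ≤ M) : L ⊓ M = ⊥ := by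
  rcases (Nat.dvd_prime (Fact.out : p.Prime)).1
    (hL ▸ card_dvd_of_le (inf_le_left : L ⊓ M ≤ L)) with h1 | h1
  · exact card_eq_one.1 h1
  · exact absurd ((eq_of_le_of_card_ge inf_le_left (by rw [h1, hL])).ge.trans inf_le_right) h

theorem Tv.isPGroup (t : Tv p V H X) : IsPGroup p X :=
  IsPGroup.of_card (n := 1) (by rw [t.card, pow_one])

theorem Tv.exists_gen (t : Tv p V H X) : ∃ a, a ≠ 1 ∧ zpowers a = X := by
  have hne : X ≠ ⊥ := fun hb => by
    have := t.card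
    rw [hb, card_bot] at this
    exact (Fact.out : p.Prime).ne_one this.symm
  obtain ⟨⟨a, ha⟩, ha1⟩ := (Subgroup.ne_bot_iff_exists_ne_one).1 hne
  refine ⟨a, fun e => ha1 (Subtype.ext e), eq_of_le_of_card_ge (zpowers_le.2 ha) ?_⟩
  rw [t.card, Nat.card_zpowers]
  rcases (Nat.dvd_prime (Fact.out : p.Prime)).1 (t.card ▸ Subgroup.orderOf_dvd_natCard _ ha) with h | h
  · exact absurd (Subtype.ext (orderOf_eq_one_iff.1 h)) ha1
  · exact h.ge

theorem Tv.index (h : Setup p V H K) (t : Tv p V H X) :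
    p * Nat.card ↥(V ⊓ centralizer (X : Set G)) = Nat.card V := by
  have := h.offender_eq t.le t.best
  rwa [offMeasure, t.card] at this

theorem Tv.comm_spec (h : Setup p V H K) (t : Tv p V H X) :
    Nat.card (⁅V, X⁆ : Subgroup G) = p ∧ ⁅V, X⁆ ≤ V ⊓ centralizer (X : Set G) := by
  have hp := (Fact.out : p.Prime)
  obtain ⟨a, ha1, rfl⟩ := t.exists_gen
  have haV : a ∈ normalizer (V : Set G) := h.norm (t.le (mem_zpowers a))
  set f := commHom h.elem.1 haV with hf
  set R := f.range.map V.subtype with hR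
  have hRc : Nat.card R = p := by
    rw [hR, Subgroup.card_map_of_injective V.subtype_injective, ← index_ker]
    have h1 := f.ker.card_mul_index
    have h2 : Nat.card f.ker = Nat.card ↥(V ⊓ centralizer (zpowers a : Set G)) := by
      rw [← commHom_ker h.elem.1 haV, Subgroup.card_map_of_injective V.subtype_injective]
    rw [h2, ← t.index h, mul_comm] at h1
    exact Nat.eq_of_mul_eq_mul_right Nat.card_pos h1
  have hRV : R ≤ V := map_subtype_le _
  have hRmem : ∀ v ∈ V, ⁅a, v⁆ ∈ R := fun v hv => ⟨f ⟨v, hv⟩, ⟨_, rfl⟩, rfl⟩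
  have hXR : zpowers a ≤ normalizer (R : Set G) := by
    refine zpowers_le.2 ((le_normalizer_iff (H := zpowers a) (K := R)).2 ?_ (mem_zpowers a))
    rintro x hx r ⟨_, ⟨⟨v, hv⟩, rfl⟩, rfl⟩
    obtain ⟨i, rfl⟩ := mem_zpowers_iff.1 hx
    show a ^ i * ⁅a, v⁆ * (a ^ i)⁻¹ ∈ R
    rw [conjugate_commutatorElement, ((Commute.refl a).zpow_left i).eq, mul_inv_cancel_right]
    exact hRmem _ (le_normalizer_iff.1 h.norm _ (t.le hx) v hv)
  have hRp : IsPGroup p R := IsPGroup.of_card (n := 1) (by rw [hRc, pow_one])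
  have hRne : R ≠ ⊥ := fun hb => by rw [hb, card_bot] at hRc; exact hp.ne_one hRc.symm
  have hfix : R ≤ centralizer (zpowers a : Set G) := by
    have h1 := exists_fixed_ne_one t.isPGroup hRp hXR hRne
    exact (eq_of_le_of_card_ge inf_le_left (by
      rcases (Nat.dvd_prime hp).1 (hRc ▸ card_dvd_of_le (inf_le_left :
        R ⊓ centralizer (zpowers a : Set G) ≤ R)) with h2 | h2
      · exact absurd (card_eq_one.1 h2) h1
      · rw [h2, hRc])).ge.trans inf_le_right
  have heq : ⁅V, zpowers a⁆ = R := by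
    refine le_antisymm ?_ ?_
    · rw [commutator_comm, commutator_le]
      intro x hx v hv
      obtain ⟨i, rfl⟩ := mem_powers_iff_mem_zpowers.2 hx
      show ⁅a ^ i, v⁆ ∈ R
      rw [comm_pow_fixed (by
        rw [mem_centralizer_iff.1 (hfix (hRmem v hv)) a (mem_zpowers a), mul_inv_cancel_right]) i]
      exact R.pow_mem (hRmem v hv) i
    · rintro _ ⟨_, ⟨⟨v, hv⟩, rfl⟩, rfl⟩
      exact comm_mem_commutator_swap (mem_zpowers a) hv
  rw [heq]
  exact ⟨hRc, le_inf hRV hfix⟩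

theorem Tv.comm_le (h : Setup p V H K) (t : Tv p V H X) : ⁅V, X⁆ ≤ V :=
  (t.comm_spec h).2.trans inf_le_left

theorem Tv.fix (h : Setup p V H K) (t : Tv p V H X) {a u : G} (ha : a ∈ X) (hu : u ∈ ⁅V, X⁆) :
    a * u * a⁻¹ = u := by
  rw [mem_centralizer_iff.1 ((t.comm_spec h).2 hu).2 a ha, mul_inv_cancel_right]

theorem map_normalized {W : Subgroup G} {g : G} (hg : g ∈ normalizer (W : Set G)) :
    W.map (MulAut.conj g).toMonoidHom = W := cj_self hg

theorem Tv.comm_cj (h : Setup p V H K) {g : G} (hg : g ∈ H) :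
    ⁅V, cj X g⁆ = cj ⁅V, X⁆ g := by
  rw [cj, cj, map_commutator, map_normalized (h.norm hg)]

theorem Tv.conj (h : Setup p V H K) (t : Tv p V H X) {g : G} (hg : g ∈ H) :
    Tv p V H (cj X g) := by
  have hle : cj X g ≤ H := by
    rintro _ ⟨x, hx, rfl⟩
    exact H.mul_mem (H.mul_mem hg (t.le hx)) (H.inv_mem hg)
  have hc : Nat.card (cj X g) = p := by
    rw [cj, Subgroup.card_map_of_injective (MulAut.conj g).injective, t.card]
  refine ⟨hle, hc, h.best_of_eq hle ?_ ?_⟩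
  · have := isCyclic_of_prime_card hc
    refine ⟨⟨⟨(IsCyclic.commGroup (α := cj X g)).mul_comm⟩⟩, fun a ha => ?_⟩
    have := pow_card_eq_one' (x := (⟨a, ha⟩ : cj X g))
    rw [hc] at this
    exact congrArg Subtype.val this
  · have hC : V ⊓ centralizer (cj X g : Set G) = cj (V ⊓ centralizer (X : Set G)) g := by
      ext y
      rw [mem_cj]
      constructor
      · rintro ⟨hy, hyc⟩
        refine ⟨g⁻¹ * y * g, ⟨?_, mem_centralizer_iff.2 fun x hx => ?_⟩, by group⟩
        · simpa using le_normalizer_iff.1 h.norm g⁻¹ (H.inv_mem hg) y hy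
        · have := mem_centralizer_iff.1 hyc (g * x * g⁻¹) (mem_cj.2 ⟨x, hx, rfl⟩)
          calc x * (g⁻¹ * y * g) = g⁻¹ * ((g * x * g⁻¹) * y) * g := by group
            _ = g⁻¹ * (y * (g * x * g⁻¹)) * g := by rw [this]
            _ = g⁻¹ * y * g * x := by group
      · rintro ⟨v, ⟨hv, hvc⟩, rfl⟩
        refine ⟨le_normalizer_iff.1 h.norm g hg v hv, mem_centralizer_iff.2 ?_⟩
        rintro _ ⟨x, hx, rfl⟩
        show (g * x * g⁻¹) * (g * v * g⁻¹) = (g * v * g⁻¹) * (g * x * g⁻¹)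
        calc (g * x * g⁻¹) * (g * v * g⁻¹) = g * (x * v) * g⁻¹ := by group
          _ = g * (v * x) * g⁻¹ := by rw [mem_centralizer_iff.1 hvc x hx]
          _ = _ := by group
    rw [offMeasure, hC, hc, cj, Subgroup.card_map_of_injective (MulAut.conj g).injective, t.index h]

/-- elements stabilising the series `1 ≤ U ≤ W ≤ V` -/
theorem series_isPGroup (h : Setup p V H K) {U W : Subgroup G} (hWV : W ≤ V) (hUW : U ≤ W)
    {E : Subgroup G} (hEH : E ≤ H) (h1 : ∀ e ∈ E, ∀ v ∈ V, ⁅e, v⁆ ∈ W)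
    (h2 : ∀ e ∈ E, ∀ w ∈ W, ⁅e, w⁆ ∈ U) (h3 : ∀ e ∈ E, ∀ u ∈ U, e * u * e⁻¹ = u) :
    IsPGroup p E := by
  rintro ⟨e, he⟩
  refine ⟨2, Subtype.ext ?_⟩
  show e ^ p ^ 2 = 1
  refine h.eq_one_of_centralizes (H.pow_mem (hEH he) _) fun v hv => comm_fixed_one ?_
  have hW : ∀ w ∈ W, e ^ p * w * (e ^ p)⁻¹ = w := fun w hw => comm_fixed_one (by
    rw [comm_pow_fixed (h3 e he _ (h2 e he w hw))]
    exact h.elem.2 _ (hWV (hUW (h2 e he w hw))))
  have hm : ⁅e ^ p, v⁆ ∈ W := h1 _ (E.pow_mem he p) v hv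
  rw [pow_two, pow_mul, comm_pow_fixed (hW _ hm)]
  exact h.elem.2 _ (hWV hm)

/-- the subgroup stabilising `1 ≤ U ≤ W ≤ V` -/
def stab (V W U : Subgroup G) : Subgroup G where
  carrier := {e | e ∈ normalizer (V : Set G) ⊓ normalizer (W : Set G) ∧ (∀ v ∈ V, ⁅e, v⁆ ∈ W) ∧
    (∀ w ∈ W, ⁅e, w⁆ ∈ U) ∧ ∀ u ∈ U, e * u * e⁻¹ = u}
  one_mem' := ⟨one_mem _, fun v _ => by rw [commutatorElement_one_left]; exact one_mem _,
    fun w _ => by rw [commutatorElement_one_left]; exact one_mem _, fun u _ => by simp⟩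
  mul_mem' := by
    rintro a b ⟨ha, ha1, ha2, ha3⟩ ⟨hb, hb1, hb2, hb3⟩
    refine ⟨mul_mem ha hb, fun v hv => ?_, fun w hw => ?_, fun u hu => ?_⟩
    · rw [comm_mul_left']
      exact mul_mem ((mem_normalizer_iff.1 ha.2 _).1 (hb1 v hv)) (ha1 v hv)
    · rw [comm_mul_left', ha3 _ (hb2 w hw)]
      exact mul_mem (hb2 w hw) (ha2 w hw)
    · rw [mul_inv_rev, show a * b * u * (b⁻¹ * a⁻¹) = a * (b * u * b⁻¹) * a⁻¹ by group, hb3 u hu,
        ha3 u hu]
  inv_mem' := by
    rintro a ⟨ha, ha1, ha2, ha3⟩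
    have hfix : ∀ u ∈ U, a⁻¹ * u * a⁻¹⁻¹ = u := fun u hu => by
      conv_lhs => rw [← ha3 u hu]
      group
    refine ⟨inv_mem ha, fun v hv => ?_, fun w hw => ?_, hfix⟩
    · rw [show ⁅a⁻¹, v⁆ = a⁻¹ * ⁅a, v⁆⁻¹ * a⁻¹⁻¹ by simp only [commutatorElement_def]; group]
      exact (mem_normalizer_iff.1 (inv_mem ha.2) _).1 (inv_mem (ha1 v hv))
    · rw [show ⁅a⁻¹, w⁆ = a⁻¹ * ⁅a, w⁆⁻¹ * a⁻¹⁻¹ by simp only [commutatorElement_def]; group,
        hfix _ (inv_mem (ha2 w hw))]
      exact inv_mem (ha2 w hw)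

theorem gen_le (t : Tv p V H X) (s : Tv p V H Y) : X ⊔ Y ≤ H := sup_le t.le s.le

theorem sup_not_pGroup (h : Setup p V H K) (t : Tv p V H X) {x : G} (hx : x ∈ K)
    (hY : Y = cj X x) (hne : X ≠ Y) : ¬ IsPGroup p ↥(X ⊔ Y) := by
  intro hp'
  refine hne (eq_of_le_of_card_ge ?_ ?_).symm
  · intro y hy
    rw [hY] at hy
    obtain ⟨a, ha, rfl⟩ := mem_cj.1 hy
    have hm : ⁅x, a⁆ ∈ (X ⊔ Y) ⊓ K := by
      refine ⟨?_, ?_⟩
      · rw [commutatorElement_def]
        refine (X ⊔ Y).mul_mem (mem_sup_right ?_) ((X ⊔ Y).inv_mem (mem_sup_left ha))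
        rw [hY]
        exact mem_cj.2 ⟨a, ha, rfl⟩
      · rw [commutatorElement_def, show x * a * x⁻¹ * a⁻¹ = x * (a * x⁻¹ * a⁻¹) by group]
        exact K.mul_mem hx (le_normalizer_iff.1 h.normK a (t.le ha) _ (K.inv_mem hx))
    rw [h.inf_K hp', mem_bot, commutatorElement_def, mul_inv_eq_one] at hm
    rwa [hm]
  · rw [hY, cj, Subgroup.card_map_of_injective (MulAut.conj x).injective]

/-- the plane of a pair -/
structure Plane (V X Y : Subgroup G) (p : ℕ) : Prop where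
  card : Nat.card (⁅V, X⁆ ⊔ ⁅V, Y⁆ : Subgroup G) = p ^ 2
  inf : (⁅V, X⁆ ⊔ ⁅V, Y⁆) ⊓ (V ⊓ centralizer (X : Set G) ⊓ (V ⊓ centralizer (Y : Set G))) = ⊥
  sup : (⁅V, X⁆ ⊔ ⁅V, Y⁆) ⊔ (V ⊓ centralizer (X : Set G) ⊓ (V ⊓ centralizer (Y : Set G))) = V

theorem comm_le_normalizer (h : Setup p V H K) {A B : Subgroup G} (hA : A ≤ V) (hB : B ≤ V) :
    A ≤ normalizer (B : Set G) :=
  le_normalizer_iff.2 fun a ha b hb => by
    rw [comm_of_mem h.elem.1 (hA ha) (hB hb), mul_inv_cancel_right]; exact hb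

theorem pair_plane (h : Setup p V H K) (t : Tv p V H X) (s : Tv p V H Y) {x : G} (hx : x ∈ K)
    (hY : Y = cj X x) (hne : X ≠ Y) : Plane V X Y p := by
  have hp := (Fact.out : p.Prime)
  set L := ⁅V, X⁆ with hL
  set L' := ⁅V, Y⁆ with hL'
  set W := L ⊔ L' with hW
  set C0 := V ⊓ centralizer (X : Set G) ⊓ (V ⊓ centralizer (Y : Set G)) with hC0
  obtain ⟨hLc, hLC⟩ := t.comm_spec h
  obtain ⟨hL'c, hL'C⟩ := s.comm_spec h
  have hLV : L ≤ V := t.comm_le h
  have hL'V : L' ≤ V := s.comm_le h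
  have hWV : W ≤ V := sup_le hLV hL'V
  have h4 := card_sup_mul_card_inf L L' (comm_le_normalizer h hLV hL'V)
  have hW2 : Nat.card W ≤ p ^ 2 := by
    rw [hLc, hL'c, ← pow_two] at h4
    rw [h4]
    exact Nat.le_mul_of_pos_right _ Nat.card_pos
  have hinf : W ⊓ C0 = ⊥ := by
    by_contra hU
    set U := W ⊓ C0 with hUdef
    have hUX : ∀ u ∈ U, ∀ a ∈ X, a * u * a⁻¹ = u := fun u hu a ha => by
      rw [mem_centralizer_iff.1 hu.2.1.2 a ha, mul_inv_cancel_right]
    have hUY : ∀ u ∈ U, ∀ a ∈ Y, a * u * a⁻¹ = u := fun u hu a ha => by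
      rw [mem_centralizer_iff.1 hu.2.2.2 a ha, mul_inv_cancel_right]
    have main : ∀ (X' L₁ : Subgroup G), Tv p V H X' → L₁ = ⁅V, X'⁆ → L₁ ≤ W →
        (∀ u ∈ U, ∀ a ∈ X', a * u * a⁻¹ = u) → X' ≤ stab V W U := by
      intro X' L₁ t' hL₁ hL₁W hfix a ha
      subst hL₁
      have hstep : ∀ v ∈ V, ⁅a, v⁆ ∈ ⁅V, X'⁆ := fun v hv => comm_mem_commutator_swap ha hv
      have hWn : a ∈ normalizer (W : Set G) := by
        refine (le_normalizer_iff (H := X') (K := W)).2 (fun b hb w hw => ?_) ha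
        rw [show b * w * b⁻¹ = ⁅b, w⁆ * w by rw [commutatorElement_def]; group]
        exact W.mul_mem (hL₁W (comm_mem_commutator_swap hb (hWV hw))) hw
      refine ⟨⟨h.norm (t'.le ha), hWn⟩, fun v hv => hL₁W (hstep v hv), fun w hw => ?_,
        fun u hu => hfix u hu a ha⟩
      by_cases hle : ⁅V, X'⁆ ≤ U
      · exact hle (hstep w (hWV hw))
      · have hc1 := (t'.comm_spec h).1
        have hi := card_inter_prime hc1 hle
        have hUV : U ≤ V := inf_le_left.trans hWV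
        have h2 := card_sup_mul_card_inf ⁅V, X'⁆ U (comm_le_normalizer h (t'.comm_le h) hUV)
        rw [hi, card_bot, mul_one, hc1] at h2
        have hUc : p ≤ Nat.card U := by
          have := mul_card_le ((isPGroup_of_elementary h.elem).to_le hUV)
            (bot_lt_iff_ne_bot.2 hU)
          rwa [card_bot, mul_one] at this
        have heqW : ⁅V, X'⁆ ⊔ U = W := eq_of_le_of_card_ge (sup_le hL₁W inf_le_left) (by
          rw [← h2]
          exact hW2.trans ((pow_two p).le.trans (Nat.mul_le_mul_left p hUc)))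
        have hle2 : W ≤ centralizer (X' : Set G) := by
          rw [← heqW]
          refine sup_le ((t'.comm_spec h).2.trans inf_le_right) fun u hu => ?_
          exact mem_centralizer_iff.2 fun b hb => mul_inv_eq_iff_eq_mul.1 (hfix u hu b hb)
        rw [commutatorElement_eq_one_iff_mul_comm.2 (mem_centralizer_iff.1 (hle2 hw) a ha)]
        exact one_mem _
    have hS : X ⊔ Y ≤ stab V W U :=
      sup_le (main X L t rfl le_sup_left hUX) (main Y L' s rfl le_sup_right hUY)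
    exact sup_not_pGroup h t hx hY hne (series_isPGroup h hWV inf_le_left (gen_le t s)
      (fun e he => (hS he).2.1) (fun e he => (hS he).2.2.1) (fun e he => (hS he).2.2.2))
  have hLL : L ⊓ L' = ⊥ := card_inter_prime hLc fun hle => by
    have hLC0 : L ≤ W ⊓ C0 := le_inf le_sup_left (le_inf hLC (hle.trans hL'C))
    rw [hinf, le_bot_iff] at hLC0
    have hLc' : Nat.card L = p := hLc
    rw [hLC0, card_bot] at hLc'
    exact hp.ne_one hLc'.symm
  rw [hLL, card_bot, mul_one, hLc, hL'c, ← pow_two] at h4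
  have hWc : Nat.card W = p ^ 2 := h4.symm
  refine ⟨hWc, hinf, eq_of_le_of_card_ge (sup_le hWV (inf_le_left.trans inf_le_left)) ?_⟩
  have hC0V : C0 ≤ V := inf_le_left.trans inf_le_left
  have h5 := card_sup_mul_card_inf W C0 (comm_le_normalizer h hWV hC0V)
  rw [hinf, card_bot, mul_one, hWc] at h5
  rw [← h5]
  set CX := V ⊓ centralizer (X : Set G)
  set CY := V ⊓ centralizer (Y : Set G)
  have h6 := card_sup_mul_card_inf CX CY (comm_le_normalizer h inf_le_left inf_le_left)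
  have h7 : Nat.card CX * Nat.card CY ≤ Nat.card V * Nat.card C0 := by
    rw [h6]; exact Nat.mul_le_mul_right _ (card_le_of_le (sup_le inf_le_left inf_le_left))
  have e1 := t.index h
  have e2 := s.index h
  refine Nat.le_of_mul_le_mul_left ?_ (Nat.card_pos (α := V))
  calc Nat.card V * Nat.card V = (p * Nat.card CX) * (p * Nat.card CY) := by rw [e1, e2]
    _ = p ^ 2 * (Nat.card CX * Nat.card CY) := by ring
    _ ≤ p ^ 2 * (Nat.card V * Nat.card C0) := Nat.mul_le_mul_left _ h7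
    _ = Nat.card V * (p ^ 2 * Nat.card C0) := by ring

/-- consequences for `E = X ⊔ Y` -/
theorem pair_action (h : Setup p V H K) (t : Tv p V H X) (s : Tv p V H Y) (P : Plane V X Y p) :
    X ⊔ Y ≤ normalizer ((⁅V, X⁆ ⊔ ⁅V, Y⁆ : Subgroup G) : Set G) ∧
      (X ⊔ Y) ⊓ centralizer ((⁅V, X⁆ ⊔ ⁅V, Y⁆ : Subgroup G) : Set G) = ⊥ ∧
      ⁅V, X ⊔ Y⁆ = ⁅V, X⁆ ⊔ ⁅V, Y⁆ ∧
      V ⊓ centralizer ((X ⊔ Y : Subgroup G) : Set G) =
        V ⊓ centralizer (X : Set G) ⊓ (V ⊓ centralizer (Y : Set G)) := by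
  set W := ⁅V, X⁆ ⊔ ⁅V, Y⁆ with hW
  set C0 := V ⊓ centralizer (X : Set G) ⊓ (V ⊓ centralizer (Y : Set G)) with hC0
  have hWV : W ≤ V := sup_le (t.comm_le h) (s.comm_le h)
  have hN : ∀ Z : Subgroup G, Z ≤ H → ⁅V, Z⁆ ≤ W → Z ≤ normalizer (W : Set G) := fun Z hZ hZW =>
    le_normalizer_iff.2 fun a ha w hw => by
      rw [show a * w * a⁻¹ = ⁅a, w⁆ * w by rw [commutatorElement_def]; group]
      exact W.mul_mem (hZW (comm_mem_commutator_swap ha (hWV hw))) hw
  have hn : X ⊔ Y ≤ normalizer (W : Set G) :=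
    sup_le (hN X t.le le_sup_left) (hN Y s.le le_sup_right)
  have hfixC : X ⊔ Y ≤ centralizer (C0 : Set G) :=
    sup_le (le_centralizer_iff.1 (inf_le_left.trans inf_le_right))
      (le_centralizer_iff.1 (inf_le_right.trans inf_le_right))
  have hdec : ∀ v ∈ V, ∃ w ∈ W, ∃ c ∈ C0, w * c = v := fun v hv => by
    have hv' : v ∈ ((W ⊔ C0 : Subgroup G) : Set G) := by rw [P.sup]; exact hv
    rw [coe_mul_of_left_le_normalizer_right W C0
      (comm_le_normalizer h hWV (inf_le_left.trans inf_le_left))] at hv'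
    obtain ⟨w, hw, c, hc, e⟩ := hv'
    exact ⟨w, hw, c, hc, e⟩
  refine ⟨hn, eq_bot_iff.2 fun e he => mem_bot.2 (h.eq_one_of_centralizes (gen_le t s he.1)
    fun v hv => ?_), le_antisymm ?_ (sup_le (commutator_mono le_rfl le_sup_left)
      (commutator_mono le_rfl le_sup_right)), ?_⟩
  · obtain ⟨w, hw, c, hc, rfl⟩ := hdec v hv
    have e1 : e * w * e⁻¹ = w := mem_centralizer_iff_conj.1 he.2 w hw
    have e2 : e * c * e⁻¹ = c := mem_centralizer_iff_conj.1 (hfixC he.1) c hc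
    calc e * (w * c) * e⁻¹ = (e * w * e⁻¹) * (e * c * e⁻¹) := by group
      _ = w * c := by rw [e1, e2]
  · rw [commutator_comm, commutator_le]
    intro e he v hv
    obtain ⟨w, hw, c, hc, rfl⟩ := hdec v hv
    have e2 : e * c * e⁻¹ = c := mem_centralizer_iff_conj.1 (hfixC he) c hc
    have : ⁅e, w * c⁆ = (e * w * e⁻¹) * w⁻¹ := by
      calc ⁅e, w * c⁆ = (e * w * e⁻¹) * (e * c * e⁻¹) * c⁻¹ * w⁻¹ := by
            rw [commutatorElement_def]; group
        _ = _ := by rw [e2]; group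
    rw [this]
    exact W.mul_mem (le_normalizer_iff.1 hn e he w hw) (W.inv_mem hw)
  · rw [CfsgLib.PLocal.centralizer_sup, hC0, ← inf_inf_distrib_left]

theorem pair_iso (h : Setup p V H K) (t : Tv p V H X) (s : Tv p V H Y) (P : Plane V X Y p)
    (hne : X ≠ Y) : Nonempty (↥(X ⊔ Y) ≃* Matrix.SpecialLinearGroup (Fin 2) (ZMod p)) := by
  classical
  obtain ⟨hn, hfaith, -, -⟩ := pair_action h t s P
  set W := ⁅V, X⁆ ⊔ ⁅V, Y⁆ with hW
  set E := X ⊔ Y with hE
  have hWV : W ≤ V := sup_le (t.comm_le h) (s.comm_le h)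
  letI : CommGroup W := { (inferInstance : Group W) with
    mul_comm := fun a b => Subtype.ext (comm_of_mem h.elem.1 (hWV a.2) (hWV b.2)) }
  obtain ⟨χ, hχ⟩ := CfsgLib.OddLocal.RankTwoAut.exists_hom_GL (p := p) (V := W)
    (fun w => Subtype.ext (h.elem.2 w (hWV w.2))) P.card
  let φ : E →* MulAut W := W.normalizerMonoidHom.comp (Subgroup.inclusion hn)
  have hφ : Function.Injective φ := by
    rw [← MonoidHom.ker_eq_bot_iff, eq_bot_iff]
    intro e he
    rw [mem_bot]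
    have he' : Subgroup.inclusion hn e ∈ W.normalizerMonoidHom.ker := he
    rw [normalizerMonoidHom_ker] at he'
    exact Subtype.ext (mem_bot.1 (hfaith.le ⟨e.2, mem_subgroupOf.1 he'⟩))
  let θ : E →* GL (Fin 2) (ZMod p) := χ.comp φ
  have hθ : Function.Injective θ := hχ.comp hφ
  let toGL : Matrix.SpecialLinearGroup (Fin 2) (ZMod p) →* GL (Fin 2) (ZMod p) :=
    Matrix.SpecialLinearGroup.toGL
  have htoGL : Function.Injective toGL := Matrix.SpecialLinearGroup.toGL_injective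
  have himg : ∀ Z : Subgroup G, Z ≤ E → Nat.card Z = p → ∃ x, (Z.subgroupOf E).map θ =
      (CfsgLib.Classical.Two.rootGroup (F := ZMod p) x).map toGL := by
    intro Z hZ hZc
    have hc : Nat.card ((Z.subgroupOf E).map θ) = p := by
      rw [Subgroup.card_map_of_injective hθ, Nat.card_congr (subgroupOfEquivOfLe hZ).toEquiv, hZc]
    have hPp : IsPGroup p ((Z.subgroupOf E).map θ) := IsPGroup.of_card (n := 1) (by rw [hc, pow_one])
    have hdet : (Z.subgroupOf E).map θ ≤ toGL.range := by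
      have := CfsgLib.Classical.Two.det_eq_one_of_isPGroup p _ hPp
      rwa [← CfsgLib.Classical.toGL_range_eq_ker_det] at this
    set P' := ((Z.subgroupOf E).map θ).comap toGL with hP'
    have hc' : Nat.card P' = p := by
      rw [← Subgroup.card_map_of_injective (K := P') htoGL, hP', map_comap_eq_self hdet, hc]
    obtain ⟨Q, hQ⟩ := (IsPGroup.of_card (n := 1) (show Nat.card P' = p ^ 1 by
      rw [hc', pow_one])).exists_le_sylow
    have hQe : P' = (Q : Subgroup _) := eq_of_le_of_card_ge hQ (by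
      rw [hc', CfsgLib.Classical.Two.card_sylow_SL_two p Q, ZMod.card])
    obtain ⟨x, hx⟩ := CfsgLib.Classical.Two.exists_point_sylow_SL p Q
    exact ⟨x, by rw [← hx, ← hQe, hP', map_comap_eq_self hdet]⟩
  obtain ⟨x1, h1⟩ := himg X le_sup_left t.card
  obtain ⟨x2, h2⟩ := himg Y le_sup_right s.card
  have hx12 : x1 ≠ x2 := fun e => hne (by
    subst e
    have h3 := map_injective hθ (h1.trans h2.symm)
    have h4 := congrArg (Subgroup.map E.subtype) h3
    rwa [subgroupOf_map_subtype, subgroupOf_map_subtype, inf_of_le_left le_sup_left,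
      inf_of_le_left le_sup_right] at h4)
  have hrange : θ.range = toGL.range := by
    have htop : X.subgroupOf E ⊔ Y.subgroupOf E = ⊤ := by
      apply map_injective E.subtype_injective
      rw [Subgroup.map_sup, subgroupOf_map_subtype, subgroupOf_map_subtype,
        inf_of_le_left le_sup_left, inf_of_le_left le_sup_right, ← MonoidHom.range_eq_map,
        range_subtype]
    rw [MonoidHom.range_eq_map, ← htop, Subgroup.map_sup, h1, h2, ← Subgroup.map_sup,
      CfsgLib.Classical.Two.rootGroup_sup_eq_top hx12, ← MonoidHom.range_eq_map]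
  exact ⟨(MonoidHom.ofInjective hθ).trans ((MulEquiv.subgroupCongr hrange).trans
    (MonoidHom.ofInjective htoGL).symm)⟩

theorem card_SL2 (p : ℕ) [Fact p.Prime] :
    Nat.card (Matrix.SpecialLinearGroup (Fin 2) (ZMod p)) = p * (p ^ 2 - 1) := by
  rw [CfsgLib.Classical.Two.card_SL_two, ZMod.card]

theorem pair_prime (h : Setup p V H K) (t : Tv p V H X) {x : G} (hx : x ∈ K) (hY : Y = cj X x)
    (hiso : Nonempty (↥(X ⊔ Y) ≃* Matrix.SpecialLinearGroup (Fin 2) (ZMod p))) :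
    p = 2 ∨ p = 3 := by
  have hp := (Fact.out : p.Prime)
  obtain ⟨e⟩ := hiso
  set E := X ⊔ Y with hE
  by_contra hc
  have hp4 : p ≠ 4 := fun h4 => by rw [h4] at hp; norm_num at hp
  have hp3 : 3 < p := by have := hp.two_le; omega
  have hEH : E ≤ H := sup_le t.le (by
    rw [hY]
    rintro _ ⟨a, ha, rfl⟩
    exact H.mul_mem (H.mul_mem (h.le hx) (t.le ha)) (H.inv_mem (h.le hx)))
  haveI hn : (K.subgroupOf E).Normal :=
    normal_subgroupOf_of_le_normalizer (hEH.trans h.normK)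
  set π := QuotientGroup.mk' (K.subgroupOf E)
  have hXtop : (X.subgroupOf E).map π = ⊤ := by
    refine eq_top_iff.2 fun z _ => ?_
    obtain ⟨y, rfl⟩ := QuotientGroup.mk'_surjective (K.subgroupOf E) z
    have hy : (y : G) ∈ ((K.subgroupOf E ⊔ X.subgroupOf E).map E.subtype) := by
      rw [Subgroup.map_sup, subgroupOf_map_subtype, subgroupOf_map_subtype,
        inf_of_le_left (le_sup_left : X ≤ E)]
      have hle : E ≤ (K ⊓ E) ⊔ X := by
        refine sup_le le_sup_right ?_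
        intro b hb
        rw [hY] at hb
        obtain ⟨a, ha, rfl⟩ := mem_cj.1 hb
        have hm : ⁅x, a⁆ ∈ K ⊓ E := by
          refine ⟨?_, ?_⟩
          · rw [commutatorElement_def, show x * a * x⁻¹ * a⁻¹ = x * (a * x⁻¹ * a⁻¹) by group]
            exact K.mul_mem hx (le_normalizer_iff.1 h.normK a (t.le ha) _ (K.inv_mem hx))
          · rw [commutatorElement_def]
            refine E.mul_mem (mem_sup_right ?_) (E.inv_mem (mem_sup_left ha))
            rw [hY]
            exact mem_cj.2 ⟨a, ha, rfl⟩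
        rw [show x * a * x⁻¹ = ⁅x, a⁆ * a by rw [commutatorElement_def]; group]
        exact mul_mem (mem_sup_left hm) (mem_sup_right ha)
      exact hle y.2
    obtain ⟨y', hy', hyy⟩ := hy
    obtain rfl : y' = y := Subtype.ext hyy
    obtain ⟨k, hk, z, hz, rfl⟩ := mem_sup_of_normal_left.1 hy'
    refine ⟨z, hz, ?_⟩
    rw [map_mul, (QuotientGroup.eq_one_iff k).2 hk |> fun e => (show π k = 1 from e), one_mul]
  have hcyc : IsCyclic (E ⧸ K.subgroupOf E) := by
    haveI : IsCyclic (X.subgroupOf E) := isCyclic_of_prime_card (p := p) (by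
      rw [Nat.card_congr (subgroupOfEquivOfLe (le_sup_left : X ≤ E)).toEquiv, t.card])
    refine isCyclic_of_surjective (π.comp (X.subgroupOf E).subtype) ?_
    rw [← MonoidHom.range_eq_top, MonoidHom.range_comp, range_subtype, hXtop]
  have hcomm : commutator E ≤ K.subgroupOf E := by
    rw [_root_.commutator_def, commutator_le]
    intro u _ v _
    rw [← QuotientGroup.eq_one_iff]
    show π ⁅u, v⁆ = 1
    rw [map_commutatorElement, commutatorElement_eq_one_iff_mul_comm]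
    exact (IsCyclic.commGroup (α := E ⧸ K.subgroupOf E)).mul_comm _ _
  have htop : (⊤ : Subgroup E) ≤ K.subgroupOf E := by
    refine le_trans (le_of_eq ?_) hcomm
    apply map_injective (f := e.toMonoidHom) e.injective
    rw [map_top_of_surjective _ e.surjective, _root_.commutator_def, map_commutator,
      map_top_of_surjective _ e.surjective]
    exact (CfsgLib.PLocal.SLTwo.commutator_S2_top hp3).symm
  have hXK : X ≤ X ⊓ K := le_inf le_rfl fun a ha =>
    mem_subgroupOf.1 (htop (mem_top (⟨a, mem_sup_left ha⟩ : E)))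
  rw [h.inf_K t.isPGroup, le_bot_iff] at hXK
  have := t.card
  rw [hXK, card_bot] at this
  omega

/-- every line of the plane is the commutator of a conjugate -/
theorem pair_lines (h : Setup p V H K) (t : Tv p V H X) (s : Tv p V H Y) {x : G} (hx : x ∈ K)
    (hY : Y = cj X x) (P : Plane V X Y p) {M : Subgroup G} (hM : M ≤ ⁅V, X⁆ ⊔ ⁅V, Y⁆)
    (hMc : Nat.card M = p) : ∃ k ∈ K, cj X k ≤ X ⊔ Y ∧ ⁅V, cj X k⁆ = M := by
  have hp := (Fact.out : p.Prime)
  by_cases hML : M = ⁅V, X⁆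
  · exact ⟨1, one_mem _, by rw [cj_one]; exact le_sup_left, by rw [cj_one, hML]⟩
  set L := ⁅V, X⁆ with hL
  set L' := ⁅V, Y⁆ with hL'
  obtain ⟨hLc, hLC⟩ := t.comm_spec h
  obtain ⟨hL'c, hL'C⟩ := s.comm_spec h
  have hLV : L ≤ V := t.comm_le h
  have hL'V : L' ≤ V := s.comm_le h
  have hnot : ¬ M ≤ L := fun hle => hML (eq_of_le_of_card_ge hle (by rw [hMc, hLc]))
  obtain ⟨w, hwM, hwL⟩ := SetLike.not_le_iff_exists.1 hnot
  have hw := hM hwM
  rw [← SetLike.mem_coe, coe_mul_of_left_le_normalizer_right L L'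
    (comm_le_normalizer h hLV hL'V)] at hw
  obtain ⟨l, hl, l', hl', rfl⟩ := hw
  obtain ⟨a, -, haX⟩ := t.exists_gen
  have ha : a ∈ X := haX ▸ mem_zpowers a
  have hzp : ∀ {N : Subgroup G}, Nat.card N = p → ∀ {z : G}, z ∈ N → z ≠ 1 → zpowers z = N := by
    intro N hN z hz hz1
    refine eq_of_le_of_card_ge (zpowers_le.2 hz) ?_
    rw [hN, Nat.card_zpowers]
    rcases (Nat.dvd_prime hp).1 (hN ▸ Subgroup.orderOf_dvd_natCard _ hz) with h1 | h1
    · exact absurd (orderOf_eq_one_iff.1 h1) hz1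
    · exact h1.ge
  have hl'1 : l' ≠ 1 := fun e => hwL (by simpa [e] using hl)
  have hc1 : ⁅a, l'⁆ ≠ 1 := fun e => hl'1 (by
    have : l' ∈ (L ⊔ L') ⊓ (V ⊓ centralizer (X : Set G) ⊓ (V ⊓ centralizer (Y : Set G))) := by
      refine ⟨mem_sup_right hl', ⟨hL'V hl', ?_⟩, hL'C hl'⟩
      rw [← haX, zpowers_eq_closure, centralizer_closure]
      exact mem_centralizer_singleton_iff.2 (commutatorElement_eq_one_iff_mul_comm.1 e).symm
    rwa [P.inf, mem_bot] at this)
  have hgen : zpowers ⁅a, l'⁆ = L :=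
    hzp hLc (comm_mem_commutator_swap ha (hL'V hl')) hc1
  obtain ⟨i, hi⟩ := mem_powers_iff_mem_zpowers.2 (hgen.ge (L.inv_mem hl))
  have hi' : ⁅a, l'⁆ ^ i = l⁻¹ := hi
  have hconj : a ^ i * (l * l') * (a ^ i)⁻¹ = l' := by
    have e1 : a ^ i * l * (a ^ i)⁻¹ = l := t.fix h (X.pow_mem ha i) hl
    have e2 : ⁅a ^ i, l'⁆ = l⁻¹ := by
      rw [comm_pow_fixed (t.fix h ha (comm_mem_commutator_swap ha (hL'V hl'))), hi']
    calc a ^ i * (l * l') * (a ^ i)⁻¹ = (a ^ i * l * (a ^ i)⁻¹) * (⁅a ^ i, l'⁆ * l') := by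
          rw [commutatorElement_def]; group
      _ = l' := by rw [e1, e2]; group
  set g := (a ^ i)⁻¹ with hg
  have hgX : g ∈ X := X.inv_mem (X.pow_mem ha i)
  refine ⟨g * x * g⁻¹, le_normalizer_iff.1 h.normK g (t.le hgX) x hx, ?_, ?_⟩
  all_goals
    have hk : cj X (g * x * g⁻¹) = cj Y g := by
      rw [hY, cj_cj, ← cj_cj X g⁻¹ (g * x), cj_self (le_normalizer (X.inv_mem hgX))]
    rw [hk]
  · rintro _ ⟨y, hy, rfl⟩
    exact (X ⊔ Y).mul_mem ((X ⊔ Y).mul_mem (mem_sup_left hgX) (mem_sup_right hy))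
      ((X ⊔ Y).inv_mem (mem_sup_left hgX))
  · rw [Tv.comm_cj h (t.le hgX)]
    refine eq_of_le_of_card_ge ?_ ?_
    · rw [← hzp hL'c hl' hl'1, cj, MonoidHom.map_zpowers]
      refine zpowers_le.2 ?_
      show g * l' * g⁻¹ ∈ M
      rw [← hconj, hg]
      convert hwM using 1
      group
    · rw [hMc, cj, Subgroup.card_map_of_injective (MulAut.conj g).injective, hL'c]

/-- all conjugates of `X` under `K` lie in `X ⊔ Y` -/
theorem pair_all (h : Setup p V H K) (t : Tv p V H X) (s : Tv p V H Y) {x : G} (hx : x ∈ K)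
    (hY : Y = cj X x) (hne : X ≠ Y) {k : G} (hk : k ∈ K) : cj X k ≤ X ⊔ Y := by
  have hp := (Fact.out : p.Prime)
  have P := pair_plane h t s hx hY hne
  set W := ⁅V, X⁆ ⊔ ⁅V, Y⁆ with hW
  have hWV : W ≤ V := sup_le (t.comm_le h) (s.comm_le h)
  set Z := cj X k with hZ
  have u : Tv p V H Z := t.conj h (h.le hk)
  set C := V ⊓ centralizer (Z : Set G) with hC
  have hne' : W ⊓ C ≠ ⊥ := fun hb => by
    have h1 := card_sup_mul_card_inf W C (comm_le_normalizer h hWV inf_le_left)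
    rw [hb, card_bot, mul_one, P.card] at h1
    have h2 : p ^ 2 * Nat.card C ≤ Nat.card V := by
      rw [h1]; exact card_le_of_le (sup_le hWV inf_le_left)
    rw [← u.index h, ← hC] at h2
    have h3 := Nat.le_of_mul_le_mul_right h2 Nat.card_pos
    nlinarith [hp.two_le]
  have hWp : IsPGroup p ↥(W ⊓ C) := (isPGroup_of_elementary h.elem).to_le (inf_le_left.trans hWV)
  have hdvd : p ∣ Nat.card ↥(W ⊓ C) := by
    rcases hWp.card_eq_or_dvd with h' | h'
    · exact absurd (card_eq_one.1 h') hne'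
    · exact h'
  obtain ⟨m, hm⟩ := exists_prime_orderOf_dvd_card' p hdvd
  rw [← Subgroup.orderOf_coe] at hm
  obtain ⟨k', hk', hle, hMeq⟩ := pair_lines h t s hx hY P (M := zpowers (m : G))
    (zpowers_le.2 m.2.1) (by rw [Nat.card_zpowers, hm])
  by_contra hnle
  have hne2 : cj X k' ≠ Z := fun e => hnle (e ▸ hle)
  have t' : Tv p V H (cj X k') := t.conj h (h.le hk')
  have hZ' : Z = cj (cj X k') (k * k'⁻¹) := by rw [cj_cj, inv_mul_cancel_right]
  have P' := pair_plane h t' u (K.mul_mem hk (K.inv_mem hk')) hZ' hne2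
  have hm' : (m : G) ∈ (⁅V, cj X k'⁆ ⊔ ⁅V, Z⁆) ⊓
      (V ⊓ centralizer (cj X k' : Set G) ⊓ (V ⊓ centralizer (Z : Set G))) :=
    ⟨mem_sup_left (hMeq.ge (mem_zpowers _)),
      (t'.comm_spec h).2 (hMeq.ge (mem_zpowers _)), m.2.2⟩
  rw [P'.inf, mem_bot] at hm'
  rw [hm', orderOf_one] at hm
  exact hp.ne_one hm.symm

theorem exists_moving (h : Setup p V H K) (t : Tv p V H X) : ∃ x ∈ K, X ≠ cj X x := by
  by_contra hall
  push Not at hall
  obtain ⟨a, ha1, haX⟩ := t.exists_gen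
  have ha : a ∈ X := haX ▸ mem_zpowers a
  refine ha1 (mem_bot.1 ((h.inf_centK t.isPGroup t.le).le ⟨ha, mem_centralizer_iff.2 fun k hk => ?_⟩))
  have h1 : ⁅k, a⁆ ∈ X ⊓ K := by
    refine ⟨?_, ?_⟩
    · rw [commutatorElement_def]
      refine X.mul_mem ?_ (X.inv_mem ha)
      rw [hall k hk]
      exact mem_cj.2 ⟨a, ha, rfl⟩
    · rw [commutatorElement_def, show k * a * k⁻¹ * a⁻¹ = k * (a * k⁻¹ * a⁻¹) by group]
      exact K.mul_mem hk (le_normalizer_iff.1 h.normK a (t.le ha) _ (K.inv_mem hk))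
  rw [h.inf_K t.isPGroup, mem_bot] at h1
  exact commutatorElement_eq_one_iff_mul_comm.1 h1

theorem pair_eq_commutator_sup (h : Setup p V H K) (t : Tv p V H X) (s : Tv p V H Y) {x : G}
    (hx : x ∈ K) (hY : Y = cj X x) (hne : X ≠ Y) : ⁅K, X⁆ ⊔ X = X ⊔ Y := by
  refine le_antisymm (sup_le ?_ le_sup_left) (sup_le le_sup_right ?_)
  · rw [commutator_le]
    intro k hk a ha
    rw [commutatorElement_def]
    exact (X ⊔ Y).mul_mem (pair_all h t s hx hY hne hk (mem_cj.2 ⟨a, ha, rfl⟩))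
      ((X ⊔ Y).inv_mem (mem_sup_left ha))
  · intro y hy
    rw [hY] at hy
    obtain ⟨a, ha, rfl⟩ := mem_cj.1 hy
    rw [show x * a * x⁻¹ = ⁅x, a⁆ * a by rw [commutatorElement_def]; group]
    exact mul_mem (mem_sup_left (commutator_mem_commutator hx ha)) (mem_sup_right ha)

end CfsgLib.PLocal.FF
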