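import Cfsg.Agent.Lib.PLocal.FFStructure

/-!
# Statement-shaped consequences of the factor structure
-/

set_option autoImplicit false

namespace CfsgLib.PLocal.FF

open Subgroup
open scoped commutatorElement

variable {G : Type*} [Group G] [Finite G] {p : ℕ} [Fact p.Prime] {V H K X : Subgroup G}

theorem card_of_Tv (h : Setup p V H K) (t : Tv p V H X) :
    Nat.card (⁅V, X⁆ : Subgroup G) = p ∧ (V ⊓ centralizer (X : Set G)).relIndex V = p := by
  refine ⟨(t.comm_spec h).1, ?_⟩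
  have h1 := relIndex_mul_relIndex ⊥ (V ⊓ centralizer (X : Set G)) V bot_le inf_le_left
  rw [relIndex_bot_left, relIndex_bot_left] at h1
  have h2 := t.index h
  exact Nat.eq_of_mul_eq_mul_left Nat.card_pos (by rw [h1, ← h2, mul_comm])

theorem pair_summary (h : Setup p V H K) (t : Tv p V H X) {x : G} (hx : x ∈ K)
    (hxX : x ∉ centralizer (X : Set G)) :
    (p = 2 ∨ p = 3) ∧ Nat.card (⁅V, X ⊔ cj X x⁆ : Subgroup G) = p ^ 2 ∧
      (X ⊔ cj X x) ⊓ centralizer ((⁅V, X ⊔ cj X x⁆ : Subgroup G) : Set G) = ⊥ ∧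
      Nonempty (↥(X ⊔ cj X x) ≃* Matrix.SpecialLinearGroup (Fin 2) (ZMod p)) := by
  have hne := ne_cj h t hx hxX
  have hfac : fac K X = X ⊔ cj X x :=
    pair_eq_commutator_sup h t (t.conj h (h.le hx)) hx rfl hne
  have s := fac_spec h t
  rw [← hfac]
  exact ⟨s.prime, s.comm_card, s.faithful, s.iso⟩

theorem not_comm_of_SL2_three {Q E : Subgroup G} (hQE : Q ≤ E)
    (hE : E ≤ normalizer (Q : Set G))
    (e : ↥E ≃* Matrix.SpecialLinearGroup (Fin 2) (ZMod 3)) (hidx : Q.relIndex E = 3) :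
    ¬ IsMulCommutative Q := by
  intro hc
  set Q' := (Q.subgroupOf E).map e.toMonoidHom with hQ'
  have hn : (Q.subgroupOf E).Normal := normal_subgroupOf_of_le_normalizer hE
  have hn' : Q'.Normal := hn.map _ e.surjective
  have hi : Q'.index = 3 := by
    rw [hQ', Subgroup.index_map_of_bijective e.bijective]
    exact hidx
  have hmem : ∀ g : Matrix.SpecialLinearGroup (Fin 2) (ZMod 3), g ^ 4 = 1 → g ∈ Q' := by
    intro g hg
    have h3 : g ^ 3 ∈ Q' := by
      have := Q'.pow_index_mem g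
      rwa [hi] at this
    have hgg : g = g ^ 4 * (g ^ 3)⁻¹ := by rw [pow_succ' g 3, mul_inv_cancel_right]
    rw [hgg, hg, one_mul]
    exact Q'.inv_mem h3
  let i : Matrix.SpecialLinearGroup (Fin 2) (ZMod 3) := ⟨!![0, -1; 1, 0], by decide⟩
  let j : Matrix.SpecialLinearGroup (Fin 2) (ZMod 3) := ⟨!![1, 1; 1, -1], by decide⟩
  have hi4 : i ^ 4 = 1 := by decide
  have hj4 : j ^ 4 = 1 := by decide
  have hne : i * j ≠ j * i := by decide
  obtain ⟨a, ha, hai⟩ := hmem i hi4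
  obtain ⟨b, hb, hbj⟩ := hmem j hj4
  refine hne ?_
  rw [← hai, ← hbj]
  show e a * e b = e b * e a
  rw [← map_mul, ← map_mul]
  refine congrArg e (Subtype.ext ?_)
  show (a : G) * b = b * a
  exact congrArg Subtype.val (mul_comm' (⟨(a : G), ha⟩ : Q) ⟨(b : G), hb⟩)

theorem comm_type (h : Setup p V H K) (t : Tv p V H X) :
    (p = 2 ∧ IsPGroup 3 ↥(⁅K, X⁆ : Subgroup G)) ∨
      (p = 3 ∧ IsPGroup 2 ↥(⁅K, X⁆ : Subgroup G) ∧
        ¬ IsMulCommutative ↥(⁅K, X⁆ : Subgroup G)) := by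
  have s := fac_spec h t
  rcases s.prime with rfl | rfl
  · exact Or.inl ⟨rfl, IsPGroup.of_card (n := 1) (by rw [s.card_comm]; rfl)⟩
  · refine Or.inr ⟨rfl, IsPGroup.of_card (n := 3) (by rw [s.card_comm]; rfl), ?_⟩
    obtain ⟨e⟩ := s.iso
    refine not_comm_of_SL2_three (comm_le_fac K X) (sup_le le_normalizer s.normal_comm) e ?_
    have h1 := relIndex_mul_relIndex ⊥ ⁅K, X⁆ (fac K X) bot_le (comm_le_fac K X)
    rw [relIndex_bot_left, relIndex_bot_left, Nat.card_congr e.toEquiv, card_SL2,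
      s.card_comm] at h1
    norm_num at h1
    omega

theorem structure_thm (h : Setup p V H K)
    (hgen : H = ⨆ A : {A : Subgroup G // A ≤ H ∧ Cfsg.IsBestOffenderOn p V A}, (A : Subgroup G))
    (hH1 : H ≠ ⊥) {ι : Type*} (f : ι → Subgroup G)
    (hf : ∀ i, ∃ X, Tv p V H X ∧ f i = fac K X) (hinj : Function.Injective f)
    (hall : ∀ X, Tv p V H X → ∃ i, f i = fac K X) :
    (p = 2 ∨ p = 3) ∧
      (∀ i, H ≤ normalizer (f i : Set G) ∧
        Nonempty (↥(f i) ≃* Matrix.SpecialLinearGroup (Fin 2) (ZMod p)) ∧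
        Nat.card (⁅V, f i⁆ : Subgroup G) = p ^ 2) ∧
      iSupIndep f ∧ (⨆ i, f i) = H ∧
      iSupIndep (fun o : Option ι => o.elim (V ⊓ centralizer (H : Set G)) (fun i => ⁅V, f i⁆)) ∧
      (V ⊓ centralizer (H : Set G)) ⊔ (⨆ i, ⁅V, f i⁆) = V := by
  have hHsup : (⨆ i, f i) = H := by
    refine le_antisymm (iSup_le fun i => ?_) (le_of_forall_Tv h hgen fun B tB => ?_)
    · obtain ⟨X, tX, hX⟩ := hf i
      rw [hX]; exact (fac_spec h tX).le
    · obtain ⟨i, hi⟩ := hall B tB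
      exact ((le_fac K B).trans hi.ge).trans (le_iSup f i)
  have : Finite ι := Finite.of_injective f hinj
  refine ⟨?_, fun i => ?_, family_indep f h hf hinj, hHsup,
    family_decomposition f h hf hinj hHsup⟩
  · by_contra hc
    refine hH1 (le_bot_iff.1 (le_of_forall_Tv h hgen fun B tB => ?_))
    exact absurd (fac_spec h tB).prime hc
  · obtain ⟨X, tX, hX⟩ := hf i
    rw [hX]
    exact ⟨norm_fac h hgen tX, (fac_spec h tX).iso, (fac_spec h tX).comm_card⟩

end CfsgLib.PLocal.FF
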