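import Cfsg.Agent.Lib.PLocal.FFPlane

/-!
# The direct factors spanned by transvection subgroups
-/

set_option autoImplicit false

namespace CfsgLib.PLocal.FF

open Subgroup
open scoped commutatorElement

variable {G : Type*} [Group G] [Finite G] {p : ℕ} [Fact p.Prime] {V H K X A B : Subgroup G}

/-- the subgroup spanned by `X` and its commutator with `K` -/
def fac (K X : Subgroup G) : Subgroup G := ⁅K, X⁆ ⊔ X

theorem le_fac (K X : Subgroup G) : X ≤ fac K X := le_sup_right

theorem comm_le_fac (K X : Subgroup G) : ⁅K, X⁆ ≤ fac K X := le_sup_left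

theorem ne_cj (h : Setup p V H K) (t : Tv p V H X) {x : G} (hx : x ∈ K)
    (hxX : x ∉ centralizer (X : Set G)) : X ≠ cj X x := by
  intro he
  refine hxX (mem_centralizer_iff.2 fun a ha => ?_)
  have hm : ⁅x, a⁆ ∈ X ⊓ K := by
    constructor
    · rw [commutatorElement_def]
      exact X.mul_mem (he.ge (mem_cj.2 ⟨a, ha, rfl⟩)) (X.inv_mem ha)
    · rw [commutatorElement_def, show x * a * x⁻¹ * a⁻¹ = x * (a * x⁻¹ * a⁻¹) by group]
      exact K.mul_mem hx (le_normalizer_iff.1 h.normK a (t.le ha) _ (K.inv_mem hx))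
  rw [h.inf_K t.isPGroup, mem_bot, commutatorElement_eq_one_iff_mul_comm] at hm
  exact hm.symm

theorem normalizer_le_normalizer_cent (Q : Subgroup G) :
    normalizer (Q : Set G) ≤ normalizer ((centralizer (Q : Set G) : Subgroup G) : Set G) := by
  refine le_normalizer_iff.2 fun k hk c hc => mem_centralizer_iff.2 fun q hq => ?_
  have hq' : k⁻¹ * q * k ∈ Q := by
    have := (mem_normalizer_iff.1 (inv_mem hk) q).1 hq
    rwa [inv_inv] at this
  have := mem_centralizer_iff.1 hc _ hq'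
  calc q * (k * c * k⁻¹) = k * ((k⁻¹ * q * k) * c) * k⁻¹ := by group
    _ = k * (c * (k⁻¹ * q * k)) * k⁻¹ := by rw [this]
    _ = k * c * k⁻¹ * q := by group

theorem norm_cent (h : Setup p V H K) {D E : Subgroup G} (hD : D ≤ H)
    (hDE : D ≤ normalizer (E : Set G)) :
    D ≤ normalizer ((V ⊓ centralizer (E : Set G) : Subgroup G) : Set G) :=
  (le_inf (hD.trans h.norm) (hDE.trans (normalizer_le_normalizer_cent E))).trans
    inf_normalizer_le_normalizer_inf

theorem norm_comm (h : Setup p V H K) {D E : Subgroup G} (hD : D ≤ H)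
    (hDE : D ≤ normalizer (E : Set G)) :
    D ≤ normalizer ((⁅V, E⁆ : Subgroup G) : Set G) :=
  fun _ hd => comm_normalized (h.norm (hD hd)) (hDE hd)

/-- the properties of a factor -/
structure FacSpec (p : ℕ) (V H K X : Subgroup G) : Prop where
  prime : p = 2 ∨ p = 3
  iso : Nonempty (↥(fac K X) ≃* Matrix.SpecialLinearGroup (Fin 2) (ZMod p))
  le : fac K X ≤ H
  commK : ⁅K, X⁆ ≤ K
  comm_card : Nat.card (⁅V, fac K X⁆ : Subgroup G) = p ^ 2
  comm_le : ⁅V, fac K X⁆ ≤ V
  inf : ⁅V, fac K X⁆ ⊓ (V ⊓ centralizer (fac K X : Set G)) = ⊥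
  sup : ⁅V, fac K X⁆ ⊔ (V ⊓ centralizer (fac K X : Set G)) = V
  faithful : fac K X ⊓ centralizer ((⁅V, fac K X⁆ : Subgroup G) : Set G) = ⊥
  normK : K ≤ normalizer (fac K X : Set G)
  irr : ∀ M, M ≤ ⁅V, fac K X⁆ → K ≤ normalizer (M : Set G) → M = ⊥ ∨ M = ⁅V, fac K X⁆
  lines : ∀ M, M ≤ ⁅V, fac K X⁆ → Nat.card M = p →
    ∃ Z, Tv p V H Z ∧ Z ≤ fac K X ∧ ⁅V, Z⁆ = M
  card_comm : Nat.card (⁅K, X⁆ : Subgroup G) = p ^ 2 - 1
  normal_comm : X ≤ normalizer ((⁅K, X⁆ : Subgroup G) : Set G)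
  centQ : V ⊓ centralizer ((⁅K, X⁆ : Subgroup G) : Set G) = V ⊓ centralizer (fac K X : Set G)
  commQ : ⁅V, ⁅K, X⁆⁆ = ⁅V, fac K X⁆

theorem fac_spec (h : Setup p V H K) (t : Tv p V H X) : FacSpec p V H K X := by
  have hp := (Fact.out : p.Prime)
  obtain ⟨x, hx, hne⟩ := exists_moving h t
  have s : Tv p V H (cj X x) := t.conj h (h.le hx)
  have P := pair_plane h t s hx rfl hne
  have hfac : fac K X = X ⊔ cj X x := pair_eq_commutator_sup h t s hx rfl hne
  obtain ⟨hn, hfaith, hVE, hCE⟩ := pair_action h t s P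
  have hiso : Nonempty (↥(fac K X) ≃* Matrix.SpecialLinearGroup (Fin 2) (ZMod p)) := by
    rw [hfac]; exact pair_iso h t s P hne
  have hle : fac K X ≤ H := hfac ▸ gen_le t s
  have hVfac : ⁅V, fac K X⁆ = ⁅V, X⁆ ⊔ ⁅V, cj X x⁆ := by rw [hfac]; exact hVE
  have hWc : Nat.card (⁅V, fac K X⁆ : Subgroup G) = p ^ 2 := by rw [hVfac]; exact P.card
  have hWV : ⁅V, fac K X⁆ ≤ V := hVfac ▸ sup_le (t.comm_le h) (s.comm_le h)
  have hKn : K ≤ normalizer (fac K X : Set G) := by
    rw [hfac]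
    refine le_normalizer_iff.2 fun k hk e he => ?_
    have hsub : cj (X ⊔ cj X x) k ≤ X ⊔ cj X x := by
      rw [cj, Subgroup.map_sup]
      refine sup_le (pair_all h t s hx rfl hne hk) ?_
      show cj (cj X x) k ≤ _
      rw [cj_cj]
      exact pair_all h t s hx rfl hne (K.mul_mem hk hx)
    exact hsub (mem_cj.2 ⟨e, he, rfl⟩)
  have hinf : ⁅V, fac K X⁆ ⊓ (V ⊓ centralizer (fac K X : Set G)) = ⊥ := by
    rw [hVfac, hfac, hCE]; exact P.inf
  have hsup : ⁅V, fac K X⁆ ⊔ (V ⊓ centralizer (fac K X : Set G)) = V := by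
    rw [hVfac, hfac, hCE]; exact P.sup
  have hfaith' : fac K X ⊓ centralizer ((⁅V, fac K X⁆ : Subgroup G) : Set G) = ⊥ := by
    rw [hVfac, hfac]; exact hfaith
  have hirr : ∀ M, M ≤ ⁅V, fac K X⁆ → K ≤ normalizer (M : Set G) →
      M = ⊥ ∨ M = ⁅V, fac K X⁆ := by
    intro M hM hKM
    obtain ⟨i, hi2, hi⟩ := (Nat.dvd_prime_pow hp).1 (hWc ▸ card_dvd_of_le hM)
    interval_cases i
    · exact Or.inl (card_eq_one.1 (by rw [hi, pow_zero]))
    · exfalso
      rw [pow_one] at hi
      obtain ⟨k, hk, -, hkM⟩ := pair_lines h t s hx rfl P (hM.trans hVfac.le) hi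
      rw [Tv.comm_cj h (h.le hk)] at hkM
      have hL : ⁅V, X⁆ = M := by
        rw [← cj_self (hKM (K.inv_mem hk)), ← hkM, cj_cj, inv_mul_cancel, cj_one]
      have hL' : ⁅V, cj X x⁆ = M := by rw [Tv.comm_cj h (h.le hx), hL, cj_self (hKM hx)]
      rw [hVfac, hL, hL', sup_idem, hi, pow_two] at hWc
      exact hp.ne_one (Nat.eq_of_mul_eq_mul_left hp.pos (by rw [← hWc, mul_one])).symm
    · exact Or.inr (eq_of_le_of_card_ge hM (by rw [hi, hWc]))
  have hXQ : X ≤ normalizer ((⁅K, X⁆ : Subgroup G) : Set G) := normalizer_commutator_ge_right K X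
  have hQK : ⁅K, X⁆ ≤ K := CfsgLib.Core.commutator_le_of_normalizes (t.le.trans h.normK)
  have hQc : Nat.card (⁅K, X⁆ : Subgroup G) = p ^ 2 - 1 := by
    obtain ⟨e⟩ := hiso
    have h1 : Nat.card (fac K X) = p * (p ^ 2 - 1) := by
      rw [Nat.card_congr e.toEquiv, card_SL2]
    have h2 := card_sup_mul_card_inf X ⁅K, X⁆ hXQ
    rw [sup_comm, show ⁅K, X⁆ ⊔ X = fac K X from rfl, h1,
      le_bot_iff.1 ((inf_le_inf_left X hQK).trans (h.inf_K t.isPGroup).le), card_bot, mul_one,
      t.card] at h2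
    exact Nat.eq_of_mul_eq_mul_left hp.pos h2
  have hQne : ⁅K, X⁆ ≠ ⊥ := fun hb => by
    rw [hb, card_bot] at hQc
    have := Nat.pow_le_pow_left hp.two_le 2
    omega
  have hKQ : K ≤ normalizer ((⁅K, X⁆ : Subgroup G) : Set G) := normalizer_commutator_ge_left K X
  have hKW : K ≤ normalizer ((⁅V, fac K X⁆ : Subgroup G) : Set G) := norm_comm h h.le hKn
  have hWQ : ⁅V, fac K X⁆ ⊓ centralizer ((⁅K, X⁆ : Subgroup G) : Set G) = ⊥ := by
    refine (hirr _ inf_le_left ((le_inf hKW (hKQ.trans (normalizer_le_normalizer_cent _))).trans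
      inf_normalizer_le_normalizer_inf)).resolve_right fun he => hQne ?_
    rw [eq_bot_iff, ← hfaith']
    exact le_inf (comm_le_fac K X) (le_centralizer_iff.1 (he.ge.trans inf_le_right))
  have hcQ : V ⊓ centralizer ((⁅K, X⁆ : Subgroup G) : Set G) =
      V ⊓ centralizer (fac K X : Set G) := by
    refine le_antisymm ?_ (inf_centralizer_anti V (comm_le_fac K X))
    rintro v ⟨hv, hvQ⟩
    have hv' : v ∈ ((⁅V, fac K X⁆ ⊔ (V ⊓ centralizer (fac K X : Set G)) : Subgroup G) : Set G) :=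
      hsup.symm ▸ hv
    rw [coe_mul_of_left_le_normalizer_right _ _ (comm_le_normalizer h hWV inf_le_left)] at hv'
    obtain ⟨w, hw, c, hc, rfl⟩ := hv'
    have hcc : c ∈ centralizer ((⁅K, X⁆ : Subgroup G) : Set G) :=
      centralizer_le (SetLike.coe_subset_coe.2 (comm_le_fac K X)) hc.2
    have hwQ : w ∈ centralizer ((⁅K, X⁆ : Subgroup G) : Set G) := by
      simpa using (centralizer ((⁅K, X⁆ : Subgroup G) : Set G)).mul_mem hvQ
        ((centralizer ((⁅K, X⁆ : Subgroup G) : Set G)).inv_mem hcc)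
    have hw1 : w = 1 := mem_bot.1 (hWQ.le ⟨hw, hwQ⟩)
    rw [hw1]
    simpa using hc
  have hcommQ : ⁅V, ⁅K, X⁆⁆ = ⁅V, fac K X⁆ :=
    (hirr _ (commutator_mono le_rfl (comm_le_fac K X)) (norm_comm h h.le hKQ)).resolve_left
      (h.commutator_ne_bot (hQK.trans h.le) hQne)
  exact
    { prime := pair_prime h t hx rfl (pair_iso h t s P hne)
      iso := hiso
      le := hle
      commK := hQK
      comm_card := hWc
      comm_le := hWV
      inf := hinf
      sup := hsup
      faithful := hfaith'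
      normK := hKn
      irr := hirr
      lines := fun M hM hMc => by
        obtain ⟨k, hk, hkle, hkM⟩ := pair_lines h t s hx rfl P (hM.trans hVfac.le) hMc
        exact ⟨cj X k, t.conj h (h.le hk), hkle.trans hfac.ge, hkM⟩
      card_comm := hQc
      normal_comm := hXQ
      centQ := hcQ
      commQ := hcommQ }

theorem cent_le_of_eq (h : Setup p V H K) (tA : Tv p V H A) (tB : Tv p V H B)
    (hW : ⁅V, fac K A⁆ = ⁅V, fac K B⁆) :
    V ⊓ centralizer (fac K A : Set G) ≤ V ⊓ centralizer (fac K B : Set G) := by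
  have sA := fac_spec h tA
  have sB := fac_spec h tB
  rw [← sB.centQ]
  rintro c hc
  refine ⟨hc.1, mem_centralizer_iff.2 fun q hq => ?_⟩
  have hm : ⁅q, c⁆ ∈ ⁅V, fac K A⁆ ⊓ (V ⊓ centralizer (fac K A : Set G)) := by
    constructor
    · rw [hW, ← sB.commQ]
      exact comm_mem_commutator_swap hq hc.1
    · rw [commutatorElement_def]
      exact (V ⊓ centralizer (fac K A : Set G)).mul_mem
        (le_normalizer_iff.1 (norm_cent h h.le sA.normK) q (sB.commK hq) c hc)
        ((V ⊓ centralizer (fac K A : Set G)).inv_mem hc)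
  rw [sA.inf, mem_bot] at hm
  exact commutatorElement_eq_one_iff_mul_comm.1 hm

theorem fac_le_of_eq (h : Setup p V H K) (tA : Tv p V H A) (tB : Tv p V H B)
    (hW : ⁅V, fac K A⁆ = ⁅V, fac K B⁆) : fac K B ≤ fac K A := by
  have hp := (Fact.out : p.Prime)
  have sA := fac_spec h tA
  set W := ⁅V, fac K A⁆ with hWdef
  have hMW : ⁅V, B⁆ ≤ W := hW ▸ commutator_mono le_rfl (le_fac K B)
  obtain ⟨hMc, hMC⟩ := tB.comm_spec h
  obtain ⟨Z, tZ, hZE, hZM⟩ := sA.lines _ hMW hMc
  obtain ⟨z, hz1, hz⟩ := tZ.exists_gen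
  obtain ⟨b, -, hb⟩ := tB.exists_gen
  have hzZ : z ∈ Z := hz ▸ mem_zpowers z
  have hbB : b ∈ B := hb ▸ mem_zpowers b
  set M := ⁅V, B⁆ with hM
  set C := V ⊓ centralizer (fac K A : Set G) with hC
  have hlt : M < W := lt_of_le_of_ne hMW fun he => by
    have h1 : p = p ^ 2 := hMc.symm.trans ((congrArg (fun S : Subgroup G => Nat.card S) he).trans
      sA.comm_card)
    nlinarith [hp.two_le]
  obtain ⟨w, hwW, hwM⟩ := SetLike.exists_of_lt hlt
  have hWgen : M ⊔ zpowers w = W := by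
    refine eq_of_le_of_card_ge (sup_le hMW (zpowers_le.2 hwW)) ?_
    have hlt' : M < M ⊔ zpowers w := lt_of_le_of_ne le_sup_left fun he =>
      hwM (he ▸ mem_sup_right (mem_zpowers w))
    have := mul_card_le ((isPGroup_of_elementary h.elem).to_le
      (sup_le (tB.comm_le h) (zpowers_le.2 (sA.comm_le hwW)))) hlt'
    rwa [hMc, ← pow_two, ← sA.comm_card] at this
  have htriv : ∀ g ∈ H, (∀ u ∈ M, g * u * g⁻¹ = u) → g * w * g⁻¹ = w →
      (∀ c ∈ C, g * c * g⁻¹ = c) → g = 1 := by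
    intro g hg h1 h2 h3
    refine h.eq_one_of_centralizes hg fun v hv => ?_
    have key : V ≤ centralizer ({g} : Set G) := by
      rw [← sA.sup, ← hWdef, ← hWgen]
      refine sup_le (sup_le (fun u hu => ?_) (zpowers_le.2 ?_)) (fun c hc => ?_)
      · exact mem_centralizer_singleton_iff.2 (mul_inv_eq_iff_eq_mul.1 (h1 u hu)).symm
      · exact mem_centralizer_singleton_iff.2 (mul_inv_eq_iff_eq_mul.1 h2).symm
      · exact mem_centralizer_singleton_iff.2 (mul_inv_eq_iff_eq_mul.1 (h3 c hc)).symm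
    exact mul_inv_eq_iff_eq_mul.2 (mem_centralizer_singleton_iff.1 (key hv)).symm
  have hzfix : ∀ u ∈ M, z * u * z⁻¹ = u := fun u hu => tZ.fix h hzZ (hZM.symm ▸ hu)
  have hzC : ∀ c ∈ C, z * c * z⁻¹ = c := fun c hc => by
    rw [mem_centralizer_iff.1 hc.2 z (hZE hzZ), mul_inv_cancel_right]
  have hbC : ∀ c ∈ C, b * c * b⁻¹ = c := fun c hc => by
    rw [mem_centralizer_iff.1 (cent_le_of_eq h tA tB hW hc).2 b (le_fac K B hbB),
      mul_inv_cancel_right]
  have hzw : ⁅z, w⁆ ∈ M := hZM ▸ comm_mem_commutator_swap hzZ (sA.comm_le hwW)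
  have hzw1 : ⁅z, w⁆ ≠ 1 := fun he =>
    hz1 (htriv z (tZ.le hzZ) hzfix (comm_fixed_one he) hzC)
  have hgen : zpowers ⁅z, w⁆ = M := by
    by_contra hne
    have h1 := card_inter_prime (p := p) hMc (M := zpowers ⁅z, w⁆) fun hle =>
      hne (le_antisymm (zpowers_le.2 hzw) hle)
    exact hzw1 (mem_bot.1 (h1.le ⟨hzw, mem_zpowers _⟩))
  obtain ⟨i, hi⟩ := mem_powers_iff_mem_zpowers.2
    (hgen.ge (comm_mem_commutator_swap hbB (sA.comm_le hwW)))
  have hi' : ⁅z, w⁆ ^ i = ⁅b, w⁆ := hi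
  have hzi : z ^ i ∈ Z := Z.pow_mem hzZ i
  have hzib : ⁅z ^ i, w⁆ = ⁅b, w⁆ := by rw [comm_pow_fixed (hzfix _ hzw), hi']
  have hconj : z ^ i * w * (z ^ i)⁻¹ = b * w * b⁻¹ := by
    rw [commutatorElement_def, commutatorElement_def] at hzib
    exact mul_right_cancel hzib
  have hpow : ∀ u, z * u * z⁻¹ = u → z ^ i * u * (z ^ i)⁻¹ = u := fun u hu => by
    have hc : Commute z u := mul_inv_eq_iff_eq_mul.1 hu
    rw [(hc.pow_left i).eq, mul_inv_cancel_right]
  have hcomb : ∀ u, b * u * b⁻¹ = z ^ i * u * (z ^ i)⁻¹ →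
      ((z ^ i)⁻¹ * b) * u * ((z ^ i)⁻¹ * b)⁻¹ = u := fun u hu => by
    rw [show ((z ^ i)⁻¹ * b) * u * ((z ^ i)⁻¹ * b)⁻¹ = (z ^ i)⁻¹ * (b * u * b⁻¹) * z ^ i by group,
      hu]
    group
  have hone := htriv _ (H.mul_mem (H.inv_mem (tZ.le hzi)) (tB.le hbB))
    (fun u hu => hcomb u ((tB.fix h hbB hu).trans (hpow u (hzfix u hu)).symm))
    (hcomb w hconj.symm)
    (fun c hc => hcomb c ((hbC c hc).trans (hpow c (hzC c hc)).symm))
  have hBE : B ≤ fac K A := by
    rw [← hb, zpowers_le, ← inv_mul_eq_one.1 hone]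
    exact hZE hzi
  refine sup_le ?_ hBE
  exact (commutator_mono le_rfl hBE).trans (le_normalizer_iff_commutator_le_right.1 sA.normK)

theorem fac_cases (h : Setup p V H K) (tA : Tv p V H A) (tB : Tv p V H B) :
    fac K A = fac K B ∨ (⁅V, fac K A⁆ ≤ centralizer (fac K B : Set G) ∧
      ⁅V, fac K B⁆ ≤ centralizer (fac K A : Set G) ∧ ⁅fac K A, fac K B⁆ = ⊥) := by
  have sA := fac_spec h tA
  have sB := fac_spec h tB
  have hKA := norm_comm h h.le sA.normK
  have hKB := norm_comm h h.le sB.normK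
  rcases sA.irr (⁅V, fac K A⁆ ⊓ ⁅V, fac K B⁆) inf_le_left
    ((le_inf hKA hKB).trans inf_normalizer_le_normalizer_inf) with h0 | h0
  · have key : ∀ {A B : Subgroup G}, FacSpec p V H K A → FacSpec p V H K B →
        ⁅V, fac K A⁆ ⊓ ⁅V, fac K B⁆ = ⊥ →
        K ≤ normalizer ((⁅V, fac K A⁆ : Subgroup G) : Set G) →
        ⁅V, fac K A⁆ ≤ centralizer (fac K B : Set G) := by
      intro A B sA sB h0 hKA
      have h1 : ⁅⁅V, fac K A⁆, ⁅K, B⁆⁆ = ⊥ := by
        rw [eq_bot_iff, ← h0]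
        refine le_inf (le_normalizer_iff_commutator_le_left.1 (sB.commK.trans hKA)) ?_
        exact (commutator_mono sA.comm_le le_rfl).trans sB.commQ.le
      rw [commutator_eq_bot_iff_le_centralizer] at h1
      exact ((le_inf sA.comm_le h1).trans sB.centQ.le).trans inf_le_right
    have h1 := key sA sB h0 hKA
    have h2 := key sB sA (by rw [inf_comm, h0]) hKB
    refine Or.inr ⟨h1, h2, ?_⟩
    rw [eq_bot_iff, ← h.faithful]
    refine le_inf ((commutator_mono sA.le sB.le).trans (commutator_le_self H)) ?_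
    rw [← commutator_eq_bot_iff_le_centralizer]
    refine commutator_commutator_eq_bot_of_rotate ?_ ?_
    · rwa [commutator_comm _ V, commutator_eq_bot_iff_le_centralizer]
    · rwa [commutator_eq_bot_iff_le_centralizer]
  · have heq : ⁅V, fac K A⁆ = ⁅V, fac K B⁆ :=
      eq_of_le_of_card_ge (h0 ▸ inf_le_right) (by rw [sA.comm_card, sB.comm_card])
    exact Or.inl (le_antisymm (fac_le_of_eq h tB tA heq.symm) (fac_le_of_eq h tA tB heq))

theorem le_of_forall_Tv (h : Setup p V H K)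
    (hgen : H = ⨆ A : {A : Subgroup G // A ≤ H ∧ Cfsg.IsBestOffenderOn p V A}, (A : Subgroup G))
    {N : Subgroup G} (hN : ∀ B, Tv p V H B → B ≤ N) : H ≤ N := by
  refine hgen.le.trans (iSup_le fun ⟨A, hAH, hA⟩ => ?_)
  obtain ⟨k, f, hf, -, hsup⟩ := h.decompose _ A le_rfl hAH hA
  show A ≤ N
  rw [← hsup]
  exact iSup_le fun i => hN _ ⟨(hf i).1.trans hAH, (hf i).2.2, (hf i).2.1⟩

theorem norm_fac (h : Setup p V H K)
    (hgen : H = ⨆ A : {A : Subgroup G // A ≤ H ∧ Cfsg.IsBestOffenderOn p V A}, (A : Subgroup G))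
    (tA : Tv p V H A) : H ≤ normalizer (fac K A : Set G) := by
  refine le_of_forall_Tv h hgen fun B tB => ?_
  rcases fac_cases h tA tB with he | ⟨-, -, hc⟩
  · exact ((le_fac K B).trans he.ge).trans le_normalizer
  · rw [commutator_eq_bot_iff_le_centralizer, le_centralizer_iff] at hc
    exact ((le_fac K B).trans hc).trans (centralizer_le_normalizer _)

theorem fac_complement (h : Setup p V H K)
    (hgen : H = ⨆ A : {A : Subgroup G // A ≤ H ∧ Cfsg.IsBestOffenderOn p V A}, (A : Subgroup G))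
    (tA : Tv p V H A) :
    ⁅fac K A, H ⊓ centralizer ((⁅V, fac K A⁆ : Subgroup G) : Set G)⁆ = ⊥ ∧
      fac K A ⊓ (H ⊓ centralizer ((⁅V, fac K A⁆ : Subgroup G) : Set G)) = ⊥ ∧
      fac K A ⊔ (H ⊓ centralizer ((⁅V, fac K A⁆ : Subgroup G) : Set G)) = H ∧
      ⁅V, H ⊓ centralizer ((⁅V, fac K A⁆ : Subgroup G) : Set G)⁆ ≤
        V ⊓ centralizer (fac K A : Set G) := by
  have sA := fac_spec h tA
  set E := fac K A with hE
  set W := ⁅V, E⁆ with hW
  set D := H ⊓ centralizer (W : Set G) with hD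
  have hHE := norm_fac h hgen tA
  have hHW : H ≤ normalizer (W : Set G) := norm_comm h le_rfl hHE
  have hHD : H ≤ normalizer (D : Set G) :=
    (le_inf le_normalizer (hHW.trans (normalizer_le_normalizer_cent W))).trans
      inf_normalizer_le_normalizer_inf
  have hinf : E ⊓ D = ⊥ :=
    le_bot_iff.1 ((inf_le_inf_left E inf_le_right).trans sA.faithful.le)
  have hED : ⁅E, D⁆ = ⊥ := by
    rw [eq_bot_iff, ← hinf]
    exact le_inf (le_normalizer_iff_commutator_le_left.1 (inf_le_left.trans hHE))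
      (le_normalizer_iff_commutator_le_right.1 (sA.le.trans hHD))
  refine ⟨hED, hinf, le_antisymm (sup_le sA.le inf_le_left)
    (le_of_forall_Tv h hgen fun B tB => ?_), le_inf ?_ ?_⟩
  · rcases fac_cases h tA tB with he | ⟨hc, -, -⟩
    · exact ((le_fac K B).trans he.ge).trans le_sup_left
    · exact le_sup_of_le_right (le_inf tB.le ((le_fac K B).trans (le_centralizer_iff.1 hc)))
  · exact commutator_le_of_le_normalizer (inf_le_left.trans h.norm) le_rfl
  · rw [← commutator_eq_bot_iff_le_centralizer]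
    refine commutator_commutator_eq_bot_of_rotate ?_ ?_
    · rw [commutator_comm D E, hED, commutator_bot_left]
    · rw [commutator_comm E V, commutator_eq_bot_iff_le_centralizer]
      exact le_centralizer_iff.1 inf_le_right

section Family

variable {ι : Type*} (f : ι → Subgroup G)

theorem family_indep (h : Setup p V H K) (hf : ∀ i, ∃ X, Tv p V H X ∧ f i = fac K X)
    (hinj : Function.Injective f) : iSupIndep f := by
  intro i
  obtain ⟨X, tX, hX⟩ := hf i
  rw [disjoint_iff, eq_bot_iff, ← (fac_spec h tX).faithful]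
  refine le_inf (inf_le_left.trans hX.le) (inf_le_right.trans (iSup₂_le fun j hj => ?_))
  obtain ⟨Y, tY, hY⟩ := hf j
  rcases fac_cases h tX tY with he | ⟨hc, -, -⟩
  · exact absurd (hinj (by rw [hX, hY, he])) hj.symm
  · rw [hY]; exact le_centralizer_iff.1 hc

theorem family_decomposition (h : Setup p V H K) [Finite ι]
    (hf : ∀ i, ∃ X, Tv p V H X ∧ f i = fac K X) (hinj : Function.Injective f)
    (hall : (⨆ i, f i) = H) :
    iSupIndep (fun o : Option ι => o.elim (V ⊓ centralizer (H : Set G)) (fun i => ⁅V, f i⁆)) ∧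
      (V ⊓ centralizer (H : Set G)) ⊔ (⨆ i, ⁅V, f i⁆) = V := by
  classical
  have hsep : ∀ i j, i ≠ j → ⁅V, f j⁆ ≤ centralizer (f i : Set G) := by
    intro i j hij
    obtain ⟨X, tX, hX⟩ := hf i
    obtain ⟨Y, tY, hY⟩ := hf j
    rcases fac_cases h tX tY with he | ⟨-, hc, -⟩
    · exact absurd (hinj (by rw [hX, hY, he])) hij
    · rw [hX, hY]; exact hc
  have hV : ∀ i, ⁅V, f i⁆ ≤ V := fun i => by
    obtain ⟨X, tX, hX⟩ := hf i
    rw [hX]; exact (fac_spec h tX).comm_le
  refine ⟨fun o => ?_, le_antisymm (sup_le inf_le_left (iSup_le hV)) ?_⟩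
  · rw [disjoint_iff]
    cases o with
    | none =>
      refine le_bot_iff.1 ?_
      have hVK : ∀ i, ⁅V, f i⁆ ≤ ⁅V, K⁆ := fun i => by
        obtain ⟨X, tX, hX⟩ := hf i
        rw [hX, ← (fac_spec h tX).commQ]
        exact commutator_mono le_rfl (fac_spec h tX).commK
      haveI := h.elem.1
      have hcop : (Nat.card K).Coprime (Nat.card V) := by
        obtain ⟨k, hk⟩ := IsPGroup.iff_card.1 (isPGroup_of_elementary h.elem)
        rw [hk]
        exact (((Fact.out : p.Prime).coprime_iff_not_dvd.2 h.cop).symm).pow_right k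
      rw [← CfsgLib.Core.abelian_inf_eq_bot (h.le.trans h.norm) hcop]
      have hle : (⨆ j, ⨆ (_ : j ≠ none), (fun o : Option ι =>
          o.elim (V ⊓ centralizer (H : Set G)) (fun i => ⁅V, f i⁆)) j) ≤ ⁅V, K⁆ := by
        refine iSup₂_le fun j hj => ?_
        cases j with
        | none => exact absurd rfl hj
        | some j => exact hVK j
      rintro x ⟨hx, hx'⟩
      refine ⟨?_, hle hx'⟩
      exact ⟨hx.1, centralizer_le (SetLike.coe_subset_coe.2 h.le) hx.2⟩
    | some i =>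
      obtain ⟨X, tX, hX⟩ := hf i
      rw [eq_bot_iff, ← (fac_spec h tX).inf, ← hX]
      refine le_inf inf_le_left (inf_le_right.trans (iSup₂_le fun j hj => ?_))
      cases j with
      | none =>
        exact inf_le_inf_left V (centralizer_le (SetLike.coe_subset_coe.2
          (hall ▸ le_iSup f i)))
      | some j => exact le_inf (hV j) (hsep i j fun e => hj (by rw [e]))
  · have key : ∀ s : Finset ι, V ≤
        (V ⊓ centralizer ((⨆ i ∈ s, f i : Subgroup G) : Set G)) ⊔ ⨆ i ∈ s, ⁅V, f i⁆ := by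
      intro s
      induction s using Finset.induction with
      | empty =>
        refine le_sup_of_le_left (le_inf le_rfl fun v _ => mem_centralizer_iff.2 fun g hg => ?_)
        have hg' : g ∈ (⊥ : Subgroup G) := by simpa using hg
        rw [mem_bot.1 hg', one_mul, mul_one]
      | insert a s ha ih =>
        rw [Finset.iSup_insert, Finset.iSup_insert]
        refine ih.trans (sup_le ?_ (le_sup_of_le_right le_sup_right))
        rintro v ⟨hv, hvs⟩
        obtain ⟨X, tX, hX⟩ := hf a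
        have sX := fac_spec h tX
        have hv' : v ∈ ((⁅V, fac K X⁆ ⊔ (V ⊓ centralizer (fac K X : Set G)) : Subgroup G) :
            Set G) := sX.sup.symm ▸ hv
        rw [coe_mul_of_left_le_normalizer_right _ _
          (comm_le_normalizer h sX.comm_le inf_le_left)] at hv'
        obtain ⟨w, hw, c, hc, rfl⟩ := hv'
        rw [← hX] at hc hw
        have hws : w ∈ centralizer ((⨆ i ∈ s, f i : Subgroup G) : Set G) := by
          have hle : (⨆ i ∈ s, f i) ≤ centralizer ((⁅V, f a⁆ : Subgroup G) : Set G) :=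
            iSup₂_le fun i hi => le_centralizer_iff.1 (hsep i a fun e => ha (e ▸ hi))
          exact le_centralizer_iff.1 hle hw
        have hcs : c ∈ centralizer ((⨆ i ∈ s, f i : Subgroup G) : Set G) := by
          simpa using mul_mem (inv_mem hws) hvs
        refine mul_mem (mem_sup_right (mem_sup_left hw)) (mem_sup_left ⟨hc.1, ?_⟩)
        refine le_centralizer_iff.1 (sup_le ?_ ?_ :
          f a ⊔ (⨆ i ∈ s, f i) ≤ centralizer ((zpowers c : Subgroup G) : Set G)) (mem_zpowers c)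
        · exact le_centralizer_iff.1 (zpowers_le.2 hc.2)
        · exact le_centralizer_iff.1 (zpowers_le.2 hcs)
    haveI := Fintype.ofFinite ι
    have := key Finset.univ
    simpa [hall] using this

end Family

end CfsgLib.PLocal.FF
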