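import Cfsg.Agent.Lib.PLocal.Replacement
import Cfsg.Agent.Lib.PLocal.Thompson
import Cfsg.Prelude.Def_PLocal

/-!
# Families of (elementary) abelian subgroups of largest order
-/

set_option autoImplicit false

namespace CfsgLib.PLocal

open Subgroup Cfsg
open scoped commutatorElement

variable {G : Type*} [Group G] {p : ℕ}

/-- predicates to which the replacement argument applies -/
structure GoodPred (p : ℕ) (Pr : Subgroup G → Prop) : Prop where
  comm : ∀ {A : Subgroup G}, Pr A → IsMulCommutative A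
  bot : Pr ⊥
  map_aut : ∀ (φ : G ≃* G) {A : Subgroup G}, Pr A → Pr (A.map φ.toMonoidHom)
  of_exponent : ∀ {A A' : Subgroup G}, Pr A → IsMulCommutative A' →
    Monoid.exponent A' ∣ Monoid.exponent A → Pr A'

theorem goodPred_abelian (p : ℕ) :
    GoodPred (G := G) p (fun A => IsMulCommutative A) where
  comm h := h
  bot := elementary_bot (p := 1) |>.1
  map_aut φ A hA := le_centralizer_iff_isMulCommutative.1 (by
    rintro _ ⟨a, ha, rfl⟩
    rw [mem_centralizer_iff]
    rintro _ ⟨b, hb, rfl⟩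
    rw [← map_mul, ← map_mul, comm_of_mem hA hb ha])
  of_exponent _ h _ := h

theorem elementary_exponent {A : Subgroup G} (hA : IsElementaryAbelian p A) :
    Monoid.exponent A ∣ p :=
  Monoid.exponent_dvd_iff_forall_pow_eq_one.2 fun a => Subtype.ext (hA.2 a a.2)

theorem goodPred_elementary (p : ℕ) :
    GoodPred (G := G) p (fun A => IsElementaryAbelian p A) where
  comm h := h.1
  bot := elementary_bot
  map_aut φ A hA := elementary_map _ hA
  of_exponent hA h hd := ⟨h, fun a ha => congrArg Subtype.val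
    (Monoid.exponent_dvd_iff_forall_pow_eq_one.1 (hd.trans (elementary_exponent hA)) ⟨a, ha⟩)⟩

/-- `A` is a largest subgroup of `T` with the property `Pr` -/
def IsMaxIn (Pr : Subgroup G → Prop) (T A : Subgroup G) : Prop :=
  A ≤ T ∧ Pr A ∧ ∀ B : Subgroup G, B ≤ T → Pr B → Nat.card B ≤ Nat.card A

/-- intersection of the largest `Pr`-subgroups of `T` -/
def zCore (Pr : Subgroup G → Prop) (T : Subgroup G) : Subgroup G :=
  sInf {A | IsMaxIn Pr T A}

variable {Pr : Subgroup G → Prop}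

theorem exists_maxIn [Finite G] (hP : GoodPred p Pr) (T : Subgroup G) :
    ∃ A, IsMaxIn Pr T A := by
  obtain ⟨A, hA, hmax⟩ := Set.exists_max_image {A : Subgroup G | A ≤ T ∧ Pr A}
    (fun A => Nat.card A) (Set.toFinite _) ⟨⊥, bot_le, hP.bot⟩
  exact ⟨A, hA.1, hA.2, fun B h1 h2 => hmax B ⟨h1, h2⟩⟩

theorem zCore_le_of_max {T A : Subgroup G} (hA : IsMaxIn Pr T A) : zCore Pr T ≤ A := sInf_le hA

theorem zCore_le [Finite G] (hP : GoodPred p Pr) (T : Subgroup G) : zCore Pr T ≤ T := by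
  obtain ⟨A, hA⟩ := exists_maxIn hP T
  exact (zCore_le_of_max hA).trans hA.1

theorem zCore_comm [Finite G] (hP : GoodPred p Pr) (T : Subgroup G) {x y : G}
    (hx : x ∈ zCore Pr T) (hy : y ∈ zCore Pr T) : x * y = y * x := by
  obtain ⟨A, hA⟩ := exists_maxIn hP T
  exact comm_of_mem (hP.comm hA.2.1) (zCore_le_of_max hA hx) (zCore_le_of_max hA hy)

theorem isMaxIn_map (hP : GoodPred p Pr) (φ : G ≃* G) {T A : Subgroup G} (hA : IsMaxIn Pr T A) :
    IsMaxIn Pr (T.map φ.toMonoidHom) (A.map φ.toMonoidHom) := by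
  refine ⟨map_mono hA.1, hP.map_aut φ hA.2.1, fun B h1 h2 => ?_⟩
  rw [card_map_of_injective _ φ.injective]
  have := hA.2.2 (B.map φ.symm.toMonoidHom) ?_ (hP.map_aut φ.symm h2)
  · rwa [card_map_of_injective _ φ.symm.injective] at this
  · rintro _ ⟨b, hb, rfl⟩
    obtain ⟨t, ht, rfl⟩ := h1 hb
    simpa using ht

theorem map_zCore (hP : GoodPred p Pr) (φ : G ≃* G) (T : Subgroup G) :
    (zCore Pr T).map φ.toMonoidHom = zCore Pr (T.map φ.toMonoidHom) := by
  refine le_antisymm ?_ ?_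
  · rintro _ ⟨x, hx, rfl⟩
    rw [zCore, Subgroup.mem_sInf]
    intro A hA
    have h := isMaxIn_map hP φ.symm hA
    rw [map_map] at h
    have hid : (φ.symm.toMonoidHom.comp φ.toMonoidHom) = MonoidHom.id G := by ext; simp
    rw [hid, map_id] at h
    obtain ⟨a, ha, hax⟩ := zCore_le_of_max h hx
    have : φ x = a := by rw [← hax]; simp
    show φ x ∈ A
    rw [this]; exact ha
  · intro y hy
    refine ⟨φ.symm y, ?_, φ.apply_symm_apply y⟩
    rw [SetLike.mem_coe, zCore, Subgroup.mem_sInf]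
    intro A hA
    obtain ⟨a, ha, hay⟩ := zCore_le_of_max (isMaxIn_map hP φ hA) hy
    rw [← hay]
    simpa using ha

theorem normalizer_le_normalizer_zCore (hP : GoodPred p Pr) (T : Subgroup G) :
    normalizer (T : Set G) ≤ normalizer ((zCore Pr T : Subgroup G) : Set G) := by
  intro g hg
  rw [mem_normalizer_iff_map_conj_eq] at hg ⊢
  have := map_zCore hP (MulAut.conj g) T
  rw [show T.map (MulAut.conj g).toMonoidHom = T from hg] at this
  exact this

theorem zCore_mono_of_max {T S : Subgroup G} (hTS : T ≤ S) {A : Subgroup G}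
    (hA : IsMaxIn Pr S A) (hAT : A ≤ T) : zCore Pr S ≤ zCore Pr T := by
  refine sInf_le_sInf fun B hB => ⟨hB.1.trans hTS, hB.2.1, fun C h1 h2 => ?_⟩
  exact (hA.2.2 C h1 h2).trans (hB.2.2 A hAT hA.2.1)

theorem zCore_eq_of_forall {T S : Subgroup G} (hTS : T ≤ S) {A : Subgroup G}
    (hA : IsMaxIn Pr S A) (hall : ∀ B, IsMaxIn Pr S B → B ≤ T) : zCore Pr T = zCore Pr S :=
  le_antisymm (sInf_le_sInf fun B hB => ⟨hall B hB, hB.2.1, fun C h1 h2 => hB.2.2 C (h1.trans hTS) h2⟩)
    (zCore_mono_of_max hTS hA (hall A hA))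

/-- replacement inside a `p`-subgroup `S` of an arbitrary finite group -/
theorem replace_exists [Finite G] [Fact p.Prime] {S B A : Subgroup G} (hS : IsPGroup p S)
    (hBS : B ≤ S) (hSB : S ≤ normalizer (B : Set G)) (hB2 : p = 2 → IsMulCommutative B)
    (hAS : A ≤ S) (hA : IsMulCommutative A) (hBA : ⁅B, B⁆ ≤ A)
    (hnot : ¬ B ≤ normalizer (A : Set G)) :
    ∃ A' : Subgroup G, Nat.card A' = Nat.card A ∧ IsMulCommutative A' ∧ ⁅B, B⁆ ≤ A' ∧
      A ⊓ B < A' ⊓ B ∧ A' ⊓ B < B ∧ (p ≠ 2 → Monoid.exponent A' ∣ Monoid.exponent A) ∧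
      ∀ D : Subgroup G, D ≤ S → S ≤ normalizer (D : Set G) → A ≤ D → A' ≤ D := by
  set ι := S.subtype
  set B₀ := B.subgroupOf S with hB₀
  set A₀ := A.subgroupOf S with hA₀
  have : B₀.Normal := (normal_subgroupOf_iff_le_normalizer hBS).2 hSB
  have hBm : B₀.map ι = B := by rw [hB₀, subgroupOf_map_subtype, inf_of_le_left hBS]
  have hAm : A₀.map ι = A := by rw [hA₀, subgroupOf_map_subtype, inf_of_le_left hAS]
  have hA₀c : IsMulCommutative A₀ := le_centralizer_iff_isMulCommutative.1 fun x hx =>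
    mem_centralizer_iff.2 fun y hy => Subtype.ext (comm_of_mem hA hy hx)
  have hB₀2 : p = 2 → IsMulCommutative B₀ := fun h2 => le_centralizer_iff_isMulCommutative.1
    fun x hx => mem_centralizer_iff.2 fun y hy => Subtype.ext (comm_of_mem (hB2 h2) hy hx)
  have hBA₀ : ⁅B₀, B₀⁆ ≤ A₀ := by
    rw [hA₀, subgroupOf, ← map_le_iff_le_comap, map_commutator, hBm]
    exact hBA
  have hnot₀ : ¬ B₀ ≤ normalizer (A₀ : Set S) := by
    rw [hA₀, ← subgroupOf_normalizer_eq hAS]
    exact fun h => hnot fun x hx => h (show (⟨x, hBS hx⟩ : S) ∈ B₀ from hx)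
  obtain ⟨b, hb, hbN, hbA⟩ := exists_normalizing_element hS B₀ A₀ hnot₀
  have hspec := replacement hS B₀ hB₀2 A₀ hA₀c hBA₀ b hb hbN hbA
  have e : replace A₀ b ≃* (replace A₀ b).map ι := equivMapOfInjective _ ι S.subtype_injective
  have eA : A₀ ≃* A := subgroupOfEquivOfLe hAS
  have hinf : ∀ X : Subgroup S, (X ⊓ B₀).map ι = X.map ι ⊓ B := fun X => by
    rw [map_inf _ _ _ S.subtype_injective, hBm]
  refine ⟨(replace A₀ b).map ι, ?_, ?_, ?_, ?_, ?_, ?_, ?_⟩
  · rw [← Nat.card_congr e.toEquiv, hspec.card_eq, Nat.card_congr eA.toEquiv]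
  · refine le_centralizer_iff_isMulCommutative.1 ?_
    rintro _ ⟨x, hx, rfl⟩
    rw [mem_centralizer_iff]
    rintro _ ⟨y, hy, rfl⟩
    rw [← map_mul, ← map_mul, comm_of_mem hspec.comm hy hx]
  · rw [← hBm, ← map_commutator]; exact map_mono hspec.derived_le
  · rw [← hAm, ← hinf, ← hinf]
    exact (map_lt_map_iff_of_injective S.subtype_injective).2 hspec.lt_inf
  · rw [← hinf]
    exact lt_of_lt_of_eq ((map_lt_map_iff_of_injective S.subtype_injective).2 hspec.inf_lt) hBm
  · intro h2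
    rw [← Monoid.exponent_eq_of_mulEquiv e, ← Monoid.exponent_eq_of_mulEquiv eA]
    exact hspec.expo h2
  · intro D hDS hSD hAD
    rw [map_le_iff_le_comap]
    exact hspec.le_of_normal _ ((normal_subgroupOf_iff_le_normalizer hDS).2 hSD)
      (comap_mono hAD)

/-- A largest `Pr`-subgroup satisfying `Q` and normalised by `B`. -/
theorem exists_max_normalized [Finite G] [Fact p.Prime] (hp : p ≠ 2) (hP : GoodPred p Pr)
    {S T B : Subgroup G} (hS : IsPGroup p S) (hBS : B ≤ S) (hSB : S ≤ normalizer (B : Set G))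
    (hTS : T ≤ S) (hST : S ≤ normalizer (T : Set G)) (Q : Subgroup G → Prop)
    (hQ : ∀ A A', IsMaxIn Pr T A → Q A → IsMaxIn Pr T A' → ⁅B, B⁆ ≤ A' → A' ⊓ B < B → Q A')
    (h : ∃ A, IsMaxIn Pr T A ∧ Q A ∧ ⁅B, B⁆ ≤ A) :
    ∃ A, IsMaxIn Pr T A ∧ Q A ∧ ⁅B, B⁆ ≤ A ∧ B ≤ normalizer (A : Set G) := by
  obtain ⟨A, ⟨hA, hAQ, hBA⟩, hmax⟩ := Set.exists_max_image
    {A : Subgroup G | IsMaxIn Pr T A ∧ Q A ∧ ⁅B, B⁆ ≤ A}
    (fun A => Nat.card ↥(A ⊓ B)) (Set.toFinite _) h
  refine ⟨A, hA, hAQ, hBA, ?_⟩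
  by_contra hnot
  obtain ⟨A', hcard, hcomm, hBA', hlt, hltB, hexp, hD⟩ := replace_exists hS hBS hSB
    (fun h2 => absurd h2 hp) (hA.1.trans hTS) (hP.comm hA.2.1) hBA hnot
  have hA' : IsMaxIn Pr T A' :=
    ⟨hD T hTS hST hA.1, hP.of_exponent hA.2.1 hcomm (hexp hp),
      fun C h1 h2 => (hA.2.2 C h1 h2).trans hcard.ge⟩
  have hle := hmax A' ⟨hA', hQ A A' hA hAQ hA' hBA' hltB, hBA'⟩
  exact absurd hle (not_le.2 (Set.Finite.card_lt_card (Set.toFinite _)
    (SetLike.coe_ssubset_coe.2 hlt)))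

theorem maxAbelian_image (D : Subgroup G) :
    Set.image (fun A : Subgroup D => A.map D.subtype) (maxAbelianSubgroups D)
      = {A | IsMaxIn (fun A => IsMulCommutative A) D A} := by
  ext A
  constructor
  · rintro ⟨A, hA, rfl⟩
    refine ⟨map_subtype_le _, ?_, fun B h1 h2 => ?_⟩
    · refine le_centralizer_iff_isMulCommutative.1 ?_
      rintro _ ⟨a, ha, rfl⟩
      rw [mem_centralizer_iff]
      rintro _ ⟨b, hb, rfl⟩
      rw [← map_mul, ← map_mul, comm_of_mem hA.1 hb ha]
    · rw [card_map_of_injective _ D.subtype_injective,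
        ← Nat.card_congr (subgroupOfEquivOfLe h1).toEquiv]
      exact hA.2 _ (le_centralizer_iff_isMulCommutative.1 fun x hx =>
        mem_centralizer_iff.2 fun y hy => Subtype.ext (comm_of_mem h2 hy hx))
  · rintro ⟨h1, h2, h3⟩
    refine ⟨A.subgroupOf D, ⟨le_centralizer_iff_isMulCommutative.1 fun x hx =>
      mem_centralizer_iff.2 fun y hy => Subtype.ext (comm_of_mem h2 hy hx), fun B hB => ?_⟩,
      by simp [subgroupOf_map_subtype, h1]⟩
    rw [Nat.card_congr (subgroupOfEquivOfLe h1).toEquiv,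
      ← card_map_of_injective D.subtype D.subtype_injective B]
    refine h3 _ (map_subtype_le _) (le_centralizer_iff_isMulCommutative.1 ?_)
    rintro _ ⟨a, ha, rfl⟩
    rw [mem_centralizer_iff]
    rintro _ ⟨b, hb, rfl⟩
    rw [← map_mul, ← map_mul, comm_of_mem hB hb ha]

theorem maxElementary_image (D : Subgroup G) :
    Set.image (fun A : Subgroup D => A.map D.subtype) (maxElementaryAbelianSubgroups p D)
      = {A | IsMaxIn (fun A => IsElementaryAbelian p A) D A} := by
  ext A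
  constructor
  · rintro ⟨A, hA, rfl⟩
    refine ⟨map_subtype_le _, elementary_map _ hA.1, fun B h1 h2 => ?_⟩
    rw [card_map_of_injective _ D.subtype_injective,
      ← Nat.card_congr (subgroupOfEquivOfLe h1).toEquiv]
    exact hA.2 _ (elementary_comap D.subtype D.subtype_injective h2)
  · rintro ⟨h1, h2, h3⟩
    refine ⟨A.subgroupOf D, ⟨elementary_comap D.subtype D.subtype_injective h2, fun B hB => ?_⟩,
      by simp [subgroupOf_map_subtype, h1]⟩
    rw [Nat.card_congr (subgroupOfEquivOfLe h1).toEquiv,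
      ← card_map_of_injective D.subtype D.subtype_injective B]
    exact h3 _ (map_subtype_le _) (elementary_map _ hB)

theorem zCore_abelian_eq [Finite G] (T : Subgroup G) :
    zCore (fun A => IsMulCommutative A) T = centerThompsonAOf T := by
  set 𝒜 := {A : Subgroup G | IsMaxIn (fun A => IsMulCommutative A) T A}
  have hJ : thompsonSubgroupAOf T = sSup 𝒜 := by
    rw [thompsonSubgroupAOf, thompsonSubgroupA]
    refine le_antisymm (map_le_iff_le_comap.2 (sSup_le fun A hA => map_le_iff_le_comap.1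
      (le_sSup ((maxAbelian_image T).le ⟨A, hA, rfl⟩)))) (sSup_le fun A hA => ?_)
    obtain ⟨A, hA', rfl⟩ := (maxAbelian_image T).ge hA
    exact map_mono (le_sSup hA')
  obtain ⟨A, hA⟩ := exists_maxIn (goodPred_abelian (G := G) 1) T
  have hJT : sSup 𝒜 ≤ T := sSup_le fun B hB => hB.1
  rw [centerThompsonAOf, hJ]
  refine le_antisymm ?_ ?_
  · intro x hx
    have hA1 : A ≤ sSup 𝒜 := le_sSup hA
    refine ⟨hA1 (zCore_le_of_max hA hx), ?_⟩
    have hle : sSup 𝒜 ≤ centralizer {x} := by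
      refine sSup_le fun B hB y hy => ?_
      have hB' : IsMaxIn (fun A => IsMulCommutative A) T B := hB
      exact mem_centralizer_singleton_iff.2
        (comm_of_mem hB'.2.1 hy (zCore_le_of_max hB' hx))
    exact mem_centralizer_iff.2 fun y hy => mem_centralizer_singleton_iff.1 (hle hy)
  · rintro x ⟨hxJ, hxc⟩
    rw [zCore, Subgroup.mem_sInf]
    intro B hB
    have hc : zpowers x ≤ centralizer (B : Set G) :=
      zpowers_le.2 (centralizer_le (SetLike.coe_subset_coe.2 (le_sSup hB)) hxc)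
    have hcm : IsMulCommutative (zpowers x ⊔ B : Subgroup G) := by
      refine le_centralizer_iff_isMulCommutative.1 ?_
      rw [centralizer_sup]
      exact le_inf (sup_le (le_centralizer_iff_isMulCommutative.2 inferInstance)
        (le_centralizer_iff.1 hc))
        (sup_le hc (le_centralizer_iff_isMulCommutative.2 hB.2.1))
    have := eq_of_le_of_card_ge (le_sup_right : B ≤ zpowers x ⊔ B)
      (hB.2.2 _ (sup_le (zpowers_le.2 (hJT hxJ)) hB.1) hcm)
    rw [this]
    exact (le_sup_left : zpowers x ≤ zpowers x ⊔ B) (mem_zpowers x)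

theorem zCore_elementary_eq [Finite G] [Fact p.Prime] (T : Subgroup G) :
    zCore (fun A => IsElementaryAbelian p A) T = (omegaCenterThompson p T).map T.subtype := by
  have h : omegaCenterThompson p T = sInf (maxElementaryAbelianSubgroups p T) :=
    (sInf_maxElementary.trans omegaCenterThompson_eq.symm).symm
  rw [h, zCore]
  ext x
  simp only [Subgroup.mem_sInf, mem_map, coe_subtype]
  constructor
  · intro hx
    obtain ⟨A, hA⟩ := exists_maxElementary (G := T) (p := p)
    have hxA := hx _ ((maxElementary_image T).le ⟨A, hA, rfl⟩)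
    obtain ⟨y, _, rfl⟩ := hxA
    refine ⟨y, fun B hB => ?_, rfl⟩
    obtain ⟨z, hz, hzy⟩ := hx _ ((maxElementary_image T).le ⟨B, hB, rfl⟩)
    rwa [← T.subtype_injective hzy]
  · rintro ⟨y, hy, rfl⟩ A hA
    obtain ⟨B, hB, rfl⟩ := (maxElementary_image T).ge hA
    exact ⟨y, hy B hB, rfl⟩

end CfsgLib.PLocal
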