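import Cfsg.Agent.Lib.PLocal.ActionModel

/-!
# Failure of factorization in `p`-separable groups
-/

set_option autoImplicit false

namespace CfsgLib.PLocal

open Subgroup
open scoped commutatorElement

variable {G : Type*} [Group G] [Finite G] {p : ℕ} [Fact p.Prime]

theorem pCore_omegaZClosure [(omegaZClosure p G).Normal] :
    Cfsg.pCore p (G ⧸ centralizer (omegaZClosure p G : Set G)) = ⊥ :=
  pCore_mod_centralizer_eq_bot (omegaZClosure p G) (omegaZClosure_gen p G)

theorem elementary_omegaZClosure (hsep : Cfsg.IsPSolvable p G) (hO : Cfsg.pPrimeCore p G = ⊥) :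
    Cfsg.IsElementaryAbelian p (omegaZClosure p G) :=
  omegaZClosure_elementary (centralizer_pCore_le hsep hO)

theorem exists_SL_section (hsep : Cfsg.IsPSolvable p G) (hO : Cfsg.pPrimeCore p G = ⊥)
    (hnf : ¬ Cfsg.IsThompsonFactorizable p G) :
    (p = 2 ∨ p = 3) ∧ ∃ E : Subgroup G, centralizer (omegaZClosure p G : Set G) ≤ E ∧
      E ≤ Cfsg.thompsonSubgroup p G ⊔ centralizer (omegaZClosure p G : Set G) ∧
      Cfsg.thompsonSubgroup p G ⊔ centralizer (omegaZClosure p G : Set G) ≤ normalizer (E : Set G) ∧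
      ∃ hn : ((centralizer (omegaZClosure p G : Set G)).subgroupOf E).Normal,
        Nonempty ((↥E ⧸ (centralizer (omegaZClosure p G : Set G)).subgroupOf E) ≃*
          Matrix.SpecialLinearGroup (Fin 2) (ZMod p)) := by
  have : (omegaZClosure p G).Normal := omegaZClosure_normal p G
  have hW := elementary_omegaZClosure hsep hO
  have hJ : ¬ Cfsg.thompsonSubgroup p G ≤ centralizer (omegaZClosure p G : Set G) :=
    fun h => hnf ((thompsonFactorizable_iff hO).2 h)
  set W := omegaZClosure p G with hWdef
  set C := centralizer (W : Set G) with hC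
  set J := Cfsg.thompsonSubgroup p G with hJdef
  have h := hol_setup W hW hsep pCore_omegaZClosure J
  have hgen := hol_gen W hW
  set π := toHol W with hπ
  set H := J.map π with hH
  set K := (Cfsg.pPrimeCore p ↥H).map H.subtype with hK
  obtain ⟨B, tB⟩ : ∃ B, FF.Tv p (modV W) H B := by
    by_contra hall
    push Not at hall
    refine hJ ?_
    have h1 : H = ⊥ :=
      le_bot_iff.1 (FF.le_of_forall_Tv h hgen fun B tB => absurd tB (hall B))
    rwa [Subgroup.map_eq_bot_iff, ker_toHol] at h1
  have s := FF.fac_spec h tB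
  set E := (FF.fac K B).comap π with hE
  have hCE : C ≤ E := fun c hc => by
    rw [hE, mem_comap, show π c = 1 from (mem_ker_toHol W).2 hc]
    exact one_mem _
  have hEJ : E ≤ J ⊔ C := by
    refine (comap_mono s.le).trans ?_
    rw [comap_map_eq, ker_toHol]
  have hnorm : J ⊔ C ≤ normalizer (E : Set G) := by
    refine sup_le (le_normalizer_iff.2 fun j hj e he => ?_) (hCE.trans le_normalizer)
    rw [hE, mem_comap, map_mul, map_mul, map_inv]
    exact le_normalizer_iff.1 (FF.norm_fac h hgen tB) _ (mem_map_of_mem π hj) _ he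
  have hn : (C.subgroupOf E).Normal := (inferInstance : C.Normal).subgroupOf E
  refine ⟨s.prime, E, hCE, hEJ, hnorm, hn, ?_⟩
  obtain ⟨e⟩ := s.iso
  let f : ↥E →* ↥(FF.fac K B) := π.subgroupComap (FF.fac K B)
  have hf : Function.Surjective f := fun ⟨y, hy⟩ => by
    obtain ⟨g, -, hg⟩ := s.le hy
    refine ⟨⟨g, ?_⟩, Subtype.ext hg⟩
    show π g ∈ FF.fac K B
    rwa [hg]
  have hker : (e.toMonoidHom.comp f).ker = C.subgroupOf E := by
    ext x
    rw [MonoidHom.mem_ker, MonoidHom.comp_apply, MulEquiv.coe_toMonoidHom, map_eq_one_iff e e.injective]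
    constructor
    · exact fun hx => (mem_ker_toHol W).1 (congrArg Subtype.val hx)
    · exact fun hx => Subtype.ext ((mem_ker_toHol W).2 hx)
  exact ⟨(QuotientGroup.quotientMulEquivOfEq hker.symm).trans
    (QuotientGroup.quotientKerEquivOfSurjective (e.toMonoidHom.comp f) (e.surjective.comp hf))⟩

end CfsgLib.PLocal

namespace CfsgLib.PLocal

open Subgroup

theorem centralizer_iSup_set {G : Type*} [Group G] {ι : Sort*} (f : ι → Subgroup G) :
    centralizer (⨆ i, (f i : Set G)) = centralizer ((⨆ i, f i : Subgroup G) : Set G) := by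
  rw [Subgroup.iSup_eq_closure, centralizer_closure]
  rfl

end CfsgLib.PLocal
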