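import Cfsg.Agent.Lib.PLocal.NotFactorizable
import Cfsg.Agent.Lib.PLocal.FFCoprime

/-!
# Coprime operators and failure of factorization
-/

set_option autoImplicit false

namespace CfsgLib.PLocal

open Subgroup Cfsg
open scoped commutatorElement

section Abstract

variable {G : Type*} [Group G] [Finite G] {p q : ℕ} [Fact p.Prime] [Fact q.Prime]
variable {X : Type*} [Group X] (ρ : X →* MulAut G)

/-- restriction of an automorphism to `omegaZClosure` -/
noncomputable def resW : MulAut G →* MulAut ↥(omegaZClosure p G) where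
  toFun α := (α.subgroupMap (omegaZClosure p G)).trans
    (MulEquiv.subgroupCongr (omegaZClosure_map_equiv α))
  map_one' := MulEquiv.ext fun _ => Subtype.ext rfl
  map_mul' _ _ := MulEquiv.ext fun _ => Subtype.ext rfl

theorem resW_apply (α : MulAut G) (w : ↥(omegaZClosure p G)) :
    ((resW α w : ↥(omegaZClosure p G)) : G) = α w := rfl

/-- the image of the operators in the holomorph -/
noncomputable def opHom (ρ : X →* MulAut G) : X →* Hol (omegaZClosure p G) :=
  SemidirectProduct.inr.comp ((resW (p := p)).comp ρ)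

theorem opHom_inl (x : X) (w : ↥(omegaZClosure p G)) :
    opHom (p := p) ρ x * SemidirectProduct.inl w * (opHom (p := p) ρ x)⁻¹ =
      SemidirectProduct.inl (resW (ρ x) w) := by
  show _ * _ * (SemidirectProduct.inr (resW (p := p) (ρ x)))⁻¹ = _
  rw [← map_inv SemidirectProduct.inr]
  exact (SemidirectProduct.inl_aut (φ := MonoidHom.id (MulAut ↥(omegaZClosure p G))) _ w).symm

variable [(omegaZClosure p G).Normal]

theorem opHom_toHol (x : X) (g : G) :
    opHom (p := p) ρ x * toHol (omegaZClosure p G) g * (opHom (p := p) ρ x)⁻¹ =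
      toHol (omegaZClosure p G) (ρ x g) := by
  show SemidirectProduct.inr (resW (ρ x)) * SemidirectProduct.inr (MulAut.conjNormal g) *
    (SemidirectProduct.inr (resW (ρ x)))⁻¹ = SemidirectProduct.inr (MulAut.conjNormal (ρ x g))
  rw [← map_inv SemidirectProduct.inr, ← map_mul, ← map_mul]
  refine congrArg _ (MulEquiv.ext fun w => Subtype.ext ?_)
  obtain ⟨w₀, rfl⟩ := (resW (p := p) (ρ x)).surjective w
  rw [MulAut.mul_apply, MulAut.mul_apply, MulAut.inv_apply_self]
  show ρ x ((g : G) * (w₀ : G) * g⁻¹) = ρ x g * ρ x w₀ * (ρ x g)⁻¹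
  simp

theorem toHol_le_normalizer (x : X) :
    opHom (p := p) ρ x ∈
      normalizer (((Cfsg.thompsonSubgroup p G).map (toHol (omegaZClosure p G)) :
        Subgroup (Hol (omegaZClosure p G))) : Set (Hol (omegaZClosure p G))) := by
  refine (le_normalizer_iff (H := (opHom (p := p) ρ).range)).2 ?_ ⟨x, rfl⟩
  rintro _ ⟨y, rfl⟩ _ ⟨j, hj, rfl⟩
  exact ⟨ρ y j, (map_equiv_thompson (ρ y)).le ⟨j, hj, rfl⟩, (opHom_toHol ρ y j).symm⟩

theorem opHom_ops (hρq : ∀ x : X, x ^ q = 1) (hq5 : 5 ≤ q) :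
    FF.Ops q (modV (omegaZClosure p G))
      ((Cfsg.thompsonSubgroup p G).map (toHol (omegaZClosure p G)))
      ((Cfsg.pPrimeCore p ↥((Cfsg.thompsonSubgroup p G).map (toHol (omegaZClosure p G)))).map
        ((Cfsg.thompsonSubgroup p G).map (toHol (omegaZClosure p G))).subtype)
      (opHom (p := p) ρ).range := by
  refine ⟨le_normalizer_iff.2 ?_, ?_, norm_char _ ?_, ?_, hq5⟩
  · rintro _ ⟨x, rfl⟩ _ ⟨w, rfl⟩
    exact ⟨_, (opHom_inl ρ x w).symm⟩
  · rintro _ ⟨x, rfl⟩; exact toHol_le_normalizer ρ x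
  · rintro _ ⟨x, rfl⟩; exact toHol_le_normalizer ρ x
  · rintro _ ⟨x, rfl⟩
    rw [← map_pow, hρq, map_one]

variable (hlift : ∀ g : G, (∀ x, ρ x g * g⁻¹ ∈ centralizer (omegaZClosure p G : Set G)) →
  ∃ c ∈ centralizer (omegaZClosure p G : Set G), ∀ x, ρ x (g * c) = g * c)

include hlift

theorem exists_fixed_lift {d : Hol (omegaZClosure p G)}
    (hd : d ∈ (Cfsg.thompsonSubgroup p G).map (toHol (omegaZClosure p G)) ⊓
      centralizer ((opHom (p := p) ρ).range : Set (Hol (omegaZClosure p G)))) :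
    ∃ g : G, (∀ x, ρ x g = g) ∧ toHol (omegaZClosure p G) g = d := by
  obtain ⟨⟨j, -, rfl⟩, hc⟩ := hd
  obtain ⟨c, hcC, hfix⟩ := hlift j fun x => by
    rw [← ker_toHol, MonoidHom.mem_ker, map_mul, map_inv, ← opHom_toHol,
      mem_centralizer_iff.1 hc _ ⟨x, rfl⟩, mul_inv_cancel_right, mul_inv_cancel]
  exact ⟨j * c, hfix, by
    rw [map_mul, show toHol (omegaZClosure p G) c = 1 from (mem_ker_toHol _).2 hcC, mul_one]⟩

variable (hsep : Cfsg.IsPSolvable p G) (hO : Cfsg.pPrimeCore p G = ⊥)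
  (hρq : ∀ x : X, x ^ q = 1) (hq : ¬ q ∣ Nat.card G)

include hsep hO hρq hq

theorem five_le {B : Subgroup (Hol (omegaZClosure p G))}
    (tB : FF.Tv p (modV (omegaZClosure p G))
      ((Cfsg.thompsonSubgroup p G).map (toHol (omegaZClosure p G))) B) : 5 ≤ q := by
  have h := hol_setup _ (elementary_omegaZClosure hsep hO) hsep pCore_omegaZClosure
    (Cfsg.thompsonSubgroup p G)
  have s := FF.fac_spec h tB
  obtain ⟨e⟩ := s.iso
  have h6 : 6 ∣ Nat.card G := by
    refine Dvd.dvd.trans ?_ (((card_dvd_of_le s.le).trans (card_map_dvd _ _)).trans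
      (card_subgroup_dvd_card _))
    rw [Nat.card_congr e.toEquiv, FF.card_SL2]
    rcases s.prime with rfl | rfl <;> norm_num
  have hqp := (Fact.out : q.Prime)
  by_contra hlt
  push Not at hlt
  interval_cases q
  · exact absurd hqp (by norm_num)
  · exact absurd hqp (by norm_num)
  · exact hq ((by norm_num : 2 ∣ 6).trans h6)
  · exact hq ((by norm_num : 3 ∣ 6).trans h6)
  · exact absurd hqp (by norm_num)

theorem generation (S : Sylow p G) {L : Subgroup G}
    (hN : normalizer (thompsonSubgroupOf p (S : Subgroup G) : Set G) ≤ L)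
    (hC : centralizer (omegaZ p (S : Subgroup G) : Set G) ≤ L)
    (hX : ∀ g : G, (∀ x, ρ x g = g) → g ∈ L) : L = ⊤ := by
  set W := omegaZClosure p G with hW
  set J := Cfsg.thompsonSubgroup p G with hJ
  set π := toHol W with hπ
  have hWel := elementary_omegaZClosure hsep hO
  have h := hol_setup W hWel hsep pCore_omegaZClosure J
  have hgen := hol_gen W hWel
  have hCL : centralizer (W : Set G) ≤ L := (centralizer_le (SetLike.coe_subset_coe.2
    (le_iSup (fun T : Sylow p G => omegaZ p (T : Subgroup G)) S))).trans hC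
  have hSL : (S : Subgroup G) ≤ L := by
    refine le_trans (le_normalizer_iff.2 fun s hs x hx => ?_) hN
    have h1 : (S : Subgroup G).map (MulAut.conj s).toMonoidHom = S :=
      FF.cj_self (le_normalizer hs)
    have h2 := thompsonOf_conj (p := p) (S : Subgroup G) s
    rw [h1] at h2
    exact h2.le ⟨x, hx, rfl⟩
  have hnd : ¬ p ∣ (S : Subgroup G).relIndex J := fun hd =>
    S.not_dvd_index (hd.trans (CfsgLib.HallGen.relIndex_dvd_index_right _ _))
  let T : Sylow p J := (S.2.comap_subtype).toSylow hnd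
  have hT : (T : Subgroup J).map J.subtype = (S : Subgroup G) ⊓ J := subgroupOf_map_subtype _ _
  have hJL : J ≤ L := by
    suffices hmap : J.map π ≤ L.map π by
      intro j hj
      obtain ⟨l, hl, hlj⟩ := hmap (mem_map_of_mem π hj)
      have hk : l⁻¹ * j ∈ centralizer (W : Set G) := by
        rw [← ker_toHol, MonoidHom.mem_ker, map_mul, map_inv, hlj, inv_mul_cancel]
      simpa using L.mul_mem hl (hCL hk)
    refine FF.le_of_forall_Tv h hgen fun B tB => ?_
    have o := opHom_ops (p := p) ρ hρq (five_le ρ hlift hsep hO hρq hq tB)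
    have s := FF.fac_spec h tB
    let T' : Sylow p ↥(J.map π) := T.mapSurjective (π.subgroupMap_surjective J)
    obtain ⟨R, hR⟩ := (tB.isPGroup.comap_subtype : IsPGroup p (B.subgroupOf (J.map π))).exists_le_sylow
    obtain ⟨h0, rfl⟩ := MulAction.exists_smul_eq ↥(J.map π) T' R
    obtain ⟨hcomm, -, hsup, -⟩ := FF.fac_complement h hgen tB
    set E := FF.fac ((Cfsg.pPrimeCore p ↥(J.map π)).map (J.map π).subtype) B
    set D0 := J.map π ⊓ centralizer ((⁅modV W, E⁆ : Subgroup (Hol W)) : Set (Hol W))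
    rw [commutator_eq_bot_iff_le_centralizer] at hcomm
    have h0m : (h0 : Hol W) ∈ ((E ⊔ D0 : Subgroup (Hol W)) : Set (Hol W)) := hsup.ge h0.2
    rw [coe_mul_of_left_le_normalizer_right E D0 (hcomm.trans (centralizer_le_normalizer _))] at h0m
    obtain ⟨e, he, c, hc, hec⟩ := h0m
    obtain ⟨r, hr, hd⟩ := FF.exists_diag h o tB he
    obtain ⟨g, hgfix, hgd⟩ := exists_fixed_lift ρ hlift hd
    have hdL : e * r ∈ L.map π := ⟨g, hX g hgfix, hgd⟩
    intro b hb
    obtain ⟨t, ht, htb⟩ := hR (show (⟨b, tB.le hb⟩ : ↥(J.map π)) ∈ B.subgroupOf (J.map π) from hb)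
    have htb' : (h0 : Hol W) * (t : Hol W) * (h0 : Hol W)⁻¹ = b := congrArg Subtype.val htb
    have htL : (t : Hol W) ∈ L.map π := by
      obtain ⟨j, hj, hjt⟩ := ht
      exact ⟨j, hSL hj, congrArg Subtype.val hjt⟩
    have hbE : b ∈ E := FF.le_fac _ B hb
    have hcb : Commute c b := (mem_centralizer_iff.1 (le_centralizer_iff.1 hcomm hc) b hbE).symm
    have hrb : Commute r b := (mem_centralizer_iff.1 hr.1 b hbE).symm
    have hec' : e * c = (h0 : Hol W) := hec
    have hce : Commute e c := (mem_centralizer_iff.1 (hcomm he) c hc).symm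
    have hre : Commute r e := (mem_centralizer_iff.1 hr.1 e he).symm
    have key : b = (e * r) * (t : Hol W) * (e * r)⁻¹ := by
      have e1 : c * b * c⁻¹ = b := by rw [hcb.eq, mul_inv_cancel_right]
      have e2 : r * b * r⁻¹ = b := by rw [hrb.eq, mul_inv_cancel_right]
      have ht' : (t : Hol W) = e⁻¹ * b * e := by
        calc (t : Hol W) = (e * c)⁻¹ * b * (e * c) := by rw [← htb', ← hec']; group
          _ = c⁻¹ * (e⁻¹ * b * e) * c := by group
          _ = e⁻¹ * (c⁻¹ * b * c) * e := by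
            have : Commute e c⁻¹ := hce.inv_right
            calc c⁻¹ * (e⁻¹ * b * e) * c = (c⁻¹ * e⁻¹) * b * (e * c) := by group
              _ = (e⁻¹ * c⁻¹) * b * (c * e) := by rw [hce.eq, (hce.inv_left.inv_right).eq]
              _ = _ := by group
          _ = e⁻¹ * b * e := by rw [hcb.inv_left.eq]; group
      rw [ht']
      calc b = r * b * r⁻¹ := e2.symm
        _ = (e * r * e⁻¹) * b * (e * r * e⁻¹)⁻¹ := by
          rw [show e * r * e⁻¹ = r by rw [← hre.eq, mul_inv_cancel_right]]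
        _ = _ := by group
    rw [key]
    exact (L.map π).mul_mem ((L.map π).mul_mem hdL htL) ((L.map π).inv_mem hdL)
  rw [eq_top_iff]
  intro g _
  have hfr := Sylow.normalizer_sup_eq_top T
  have hg : g ∈ normalizer (((T : Subgroup J).map J.subtype : Subgroup G) : Set G) ⊔ J := by
    rw [hfr]; trivial
  refine (sup_le ?_ hJL) hg
  refine le_trans (fun n hn => ?_) hN
  rw [hT, mem_normalizer_iff_map_conj_eq] at hn
  rw [mem_normalizer_iff_map_conj_eq]
  obtain ⟨A, hA, hAS⟩ := exists_maxElementary_le_sylow S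
  have hJST : thompsonSubgroupOf p ((S : Subgroup G) ⊓ J)
      = thompsonSubgroupOf p (S : Subgroup G) := by
    refine le_antisymm (map_le_iff_le_comap.2 (sSup_le fun B hB => map_le_iff_le_comap.1 ?_))
      (map_le_iff_le_comap.2 (sSup_le fun B hB => map_le_iff_le_comap.1 ?_))
    · exact le_thompsonOf (map_maxElementary_subtype hA
        (le_inf hAS (le_thompson hA)) hB) ((map_subtype_le B).trans inf_le_left)
    · exact le_thompsonOf (map_maxElementary_subtype hA hAS hB)
        (le_inf (map_subtype_le B) (le_thompson (map_maxElementary_subtype hA hAS hB)))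
  have h1 := thompsonOf_conj (p := p) ((S : Subgroup G) ⊓ J) n
  rw [show ((S : Subgroup G) ⊓ J).map (MulAut.conj n).toMonoidHom = (S : Subgroup G) ⊓ J from hn,
    hJST] at h1
  exact h1

theorem exists_fixed_SL (hnf : ¬ Cfsg.IsThompsonFactorizable p G) :
    (p = 2 ∨ p = 3) ∧ ∃ (U D : Subgroup G) (f : ↥D →* Matrix.SpecialLinearGroup (Fin 2) (ZMod p)),
      (∀ u ∈ U, ∀ x, ρ x u = u) ∧ (∀ d ∈ D, ∀ x, ρ x d = d) ∧
      Cfsg.IsElementaryAbelian p U ∧ Nat.card U = p ^ 2 ∧ D ≤ normalizer (U : Set G) ∧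
      Function.Surjective f ∧ f.ker = (centralizer (U : Set G)).subgroupOf D := by
  classical
  set W := omegaZClosure p G with hW
  set J := Cfsg.thompsonSubgroup p G with hJ
  set π := toHol W with hπ
  have hWel := elementary_omegaZClosure hsep hO
  have h := hol_setup W hWel hsep pCore_omegaZClosure J
  have hgen := hol_gen W hWel
  have hnJ : ¬ J ≤ centralizer (W : Set G) := fun hh => hnf ((thompsonFactorizable_iff hO).2 hh)
  obtain ⟨B, tB⟩ : ∃ B, FF.Tv p (modV W) (J.map π) B := by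
    by_contra hall
    push Not at hall
    refine hnJ ?_
    have h1 : J.map π = ⊥ :=
      le_bot_iff.1 (FF.le_of_forall_Tv h hgen fun B tB => absurd tB (hall B))
    rwa [Subgroup.map_eq_bot_iff, ker_toHol] at h1
  have o := opHom_ops (p := p) ρ hρq (five_le ρ hlift hsep hO hρq hq tB)
  have s := FF.fac_spec h tB
  obtain ⟨U', hU'le, hU'c, hU'n, hU'k⟩ := FF.exists_plane h hgen o tB
  obtain ⟨-, -, hsup, -⟩ := FF.fac_complement h hgen tB
  obtain ⟨eE⟩ := s.iso
  set E := FF.fac ((Cfsg.pPrimeCore p ↥(J.map π)).map (J.map π).subtype) B with hE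
  set WE := ⁅modV W, E⁆ with hWE
  let U : Subgroup G := (U'.comap SemidirectProduct.inl).map W.subtype
  let F : Subgroup G :=
    { carrier := {g | ∀ x, ρ x g = g}
      one_mem' := fun x => map_one _
      mul_mem' := fun ha hb x => by rw [map_mul, ha x, hb x]
      inv_mem' := fun ha x => by rw [map_inv, ha x] }
  let D : Subgroup G := F ⊓ (J.map π).comap π
  have hDπ : ∀ d ∈ D,
      π d ∈ J.map π ⊓ centralizer ((opHom (p := p) ρ).range : Set (Hol W)) := by
    rintro d ⟨hd1, hd2⟩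
    refine ⟨hd2, mem_centralizer_iff.2 ?_⟩
    rintro _ ⟨x, rfl⟩
    refine mul_inv_eq_iff_eq_mul.1 ?_
    rw [opHom_toHol, hd1 x]
  have hHWE : J.map π ≤ normalizer (WE : Set (Hol W)) :=
    FF.norm_comm h le_rfl (FF.norm_fac h hgen tB)
  let a : ↥(J.map π) →* MulAut ↥WE := WE.normalizerMonoidHom.comp (inclusion hHWE)
  have ha : ∀ x : ↥(J.map π), a x = 1 ↔ (x : Hol W) ∈ centralizer (WE : Set (Hol W)) := fun x => by
    rw [mem_centralizer_iff_conj]
    constructor
    · intro hx w hw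
      exact congrArg (fun f : MulAut WE => ((f ⟨w, hw⟩ : WE) : Hol W)) hx
    · intro hx
      exact MulEquiv.ext fun w => Subtype.ext (hx w w.2)
  let aE : ↥E →* MulAut ↥WE := a.comp (inclusion s.le)
  have haE : Function.Injective aE := by
    rw [← MonoidHom.ker_eq_bot_iff, eq_bot_iff]
    intro x hx
    have hm : (x : Hol W) ∈ E ⊓ centralizer (WE : Set (Hol W)) := ⟨x.2, (ha _).1 hx⟩
    rw [s.faithful, mem_bot] at hm
    exact mem_bot.2 (Subtype.ext hm)
  let fD : ↥D →* MulAut ↥WE :=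
    a.comp ((π.comp D.subtype).codRestrict (J.map π) fun d => (hDπ d d.2).1)
  have hrange : fD.range = aE.range := by
    refine le_antisymm ?_ ?_
    · rintro _ ⟨d, rfl⟩
      have hm : π (d : G) ∈ E ⊔ (J.map π ⊓ centralizer (WE : Set (Hol W))) :=
        hsup.ge (hDπ d d.2).1
      rw [← SetLike.mem_coe, coe_mul_of_left_le_normalizer_right E _ ((le_inf (s.le.trans le_normalizer)
        ((s.le.trans hHWE).trans (FF.normalizer_le_normalizer_cent WE))).trans
          inf_normalizer_le_normalizer_inf)] at hm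
      obtain ⟨e, he, c, hc, hec⟩ := hm
      refine ⟨⟨e, he⟩, ?_⟩
      show a ⟨e, s.le he⟩ = fD d
      calc a ⟨e, s.le he⟩ = a ⟨e, s.le he⟩ * a ⟨c, hc.1⟩ := by rw [(ha ⟨c, hc.1⟩).2 hc.2, mul_one]
        _ = fD d := by rw [← map_mul]; exact congrArg a (Subtype.ext hec)
    · rintro _ ⟨⟨e, he⟩, rfl⟩
      obtain ⟨r, hr, hd⟩ := FF.exists_diag h o tB he
      obtain ⟨g, hgfix, hgd⟩ := exists_fixed_lift ρ hlift hd
      have hgD : g ∈ D := ⟨hgfix, show π g ∈ J.map π by rw [hgd]; exact hd.1⟩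
      refine ⟨⟨g, hgD⟩, ?_⟩
      have hrH : r ∈ J.map π := by
        have := (J.map π).mul_mem ((J.map π).inv_mem (s.le he)) hd.1
        rwa [inv_mul_cancel_left] at this
      calc fD ⟨g, hgD⟩ = a (⟨e, s.le he⟩ * ⟨r, hrH⟩) := congrArg a (Subtype.ext hgd)
        _ = aE ⟨e, he⟩ := by rw [map_mul, (ha ⟨r, hrH⟩).2 hr.2, mul_one]; rfl
  let φ : fD.range ≃* Matrix.SpecialLinearGroup (Fin 2) (ZMod p) :=
    ((MulEquiv.subgroupCongr hrange).trans (MonoidHom.ofInjective haE).symm).trans eE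
  have hUmem : ∀ u : G, u ∈ U ↔ ∃ w : W, (w : G) = u ∧ SemidirectProduct.inl w ∈ U' := fun u =>
    ⟨fun ⟨w, hw, hwu⟩ => ⟨w, hwu, hw⟩, fun ⟨w, hwu, hw⟩ => ⟨w, hw, hwu⟩⟩
  refine ⟨s.prime, U, D, φ.toMonoidHom.comp fD.rangeRestrict, ?_, fun d hd => hd.1,
    elementary_mono hWel (map_subtype_le _), ?_, ?_, φ.surjective.comp fD.rangeRestrict_surjective,
    ?_⟩
  · intro u hu x
    obtain ⟨w, rfl, hw⟩ := (hUmem u).1 hu
    have h1 := mem_centralizer_iff.1 (hU'le hw).2 _ ⟨x, rfl⟩
    have h2 := mul_inv_eq_iff_eq_mul.2 h1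
    rw [opHom_inl] at h2
    exact congrArg Subtype.val (SemidirectProduct.inl_injective h2)
  · rw [Subgroup.card_map_of_injective W.subtype_injective,
      ← Subgroup.card_map_of_injective (f := (SemidirectProduct.inl : ↥W →* Hol W))
        SemidirectProduct.inl_injective, map_comap_eq, inf_eq_right.2
        (show U' ≤ (SemidirectProduct.inl : ↥W →* Hol W).range from hU'le.trans inf_le_left),
      hU'c]
  · refine le_normalizer_iff.2 fun d hd u hu => ?_
    obtain ⟨w, rfl, hw⟩ := (hUmem u).1 hu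
    refine (hUmem _).2 ⟨MulAut.conjNormal d w, rfl, ?_⟩
    rw [← conj_inl]
    exact le_normalizer_iff.1 hU'n _ (hDπ d hd) _ hw
  · ext d
    rw [MonoidHom.mem_ker, MonoidHom.comp_apply, MulEquiv.coe_toMonoidHom,
      map_eq_one_iff φ φ.injective, ← Subtype.coe_inj, MonoidHom.coe_rangeRestrict, OneMemClass.coe_one,
      mem_subgroupOf]
    refine ((ha _).trans (hU'k _ (hDπ d d.2)).symm).trans ?_
    rw [mem_centralizer_iff, mem_centralizer_iff]
    constructor
    · intro hd u hu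
      obtain ⟨w, rfl, hw⟩ := (hUmem u).1 hu
      have h1 := mul_inv_eq_iff_eq_mul.2 (hd _ hw).symm
      rw [conj_inl] at h1
      exact (mul_inv_eq_iff_eq_mul.1
        (congrArg Subtype.val (SemidirectProduct.inl_injective h1) : (d : G) * w * (d : G)⁻¹ = w)).symm
    · intro hd v hv
      obtain ⟨w, rfl⟩ := (hU'le hv).1
      show _ * π (d : G) = π (d : G) * _
      refine (mul_inv_eq_iff_eq_mul.1 ?_).symm
      rw [conj_inl]
      exact congrArg _ (Subtype.ext (mul_inv_eq_iff_eq_mul.2 (hd _ ((hUmem _).2 ⟨w, rfl, hv⟩)).symm))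

end Abstract

section Concrete

variable {G : Type*} [Group G] [Finite G] {p q : ℕ} [Fact p.Prime] [Fact q.Prime]

/-- conjugation of `K` by a group normalising it -/
noncomputable def opAut {K X : Subgroup G} (hXK : X ≤ normalizer (K : Set G)) : X →* MulAut ↥K :=
  K.normalizerMonoidHom.comp (inclusion hXK)

theorem opAut_lift {K X : Subgroup G} (hXK : X ≤ normalizer (K : Set G))
    (hX : Cfsg.IsElementaryAbelian q X) (hq : ¬ q ∣ Nat.card K) :
    ∀ g : ↥K, (∀ x, opAut hXK x g * g⁻¹ ∈ centralizer (omegaZClosure p ↥K : Set ↥K)) →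
      ∃ c ∈ centralizer (omegaZClosure p ↥K : Set ↥K), ∀ x, opAut hXK x (g * c) = g * c := by
  have : (omegaZClosure p ↥K).Normal := omegaZClosure_normal p ↥K
  set C := centralizer (omegaZClosure p ↥K : Set ↥K) with hC
  intro g hg
  have hXN : X ≤ normalizer ((C.map K.subtype : Subgroup G) : Set G) := by
    refine le_normalizer_iff.2 ?_
    rintro x hx _ ⟨c, hc, rfl⟩
    refine ⟨opAut hXK ⟨x, hx⟩ c, ?_, rfl⟩
    refine mem_centralizer_iff.2 fun w hw => ?_
    obtain ⟨w₀, hw₀, rfl⟩ := (omegaZClosure_map_equiv (opAut hXK ⟨x, hx⟩)).ge hw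
    show opAut hXK ⟨x, hx⟩ w₀ * opAut hXK ⟨x, hx⟩ c = opAut hXK ⟨x, hx⟩ c * opAut hXK ⟨x, hx⟩ w₀
    rw [← map_mul, ← map_mul, mem_centralizer_iff.1 hc w₀ hw₀]
  have hXq : IsPGroup q X := isPGroup_of_elementary hX
  have hcop : (Nat.card X).Coprime (Nat.card ↥(C.map K.subtype)) := by
    obtain ⟨k, hk⟩ := IsPGroup.iff_card.1 hXq
    rw [hk]
    exact (((Fact.out : q.Prime).coprime_iff_not_dvd.2 fun hd =>
      hq (hd.trans (card_dvd_of_le (map_subtype_le C))))).pow_left k
  obtain ⟨_, ⟨c, hc, rfl⟩, hfix⟩ := CfsgLib.Core.exists_centralizing_in_coset hXN hcop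
    (Or.inl (haveI := hXq.isNilpotent; inferInstance)) (k := (g : G)) (fun x hx => by
      refine ⟨g⁻¹ * (opAut hXK ⟨x, hx⟩ g * g⁻¹) * g, ?_, ?_⟩
      · have := (inferInstance : C.Normal).conj_mem _ (hg ⟨x, hx⟩) g⁻¹
        rwa [inv_inv] at this
      · show ((g⁻¹ * (opAut hXK ⟨x, hx⟩ g * g⁻¹) * g : ↥K) : G) = _
        push_cast
        show (g : G)⁻¹ * (x * (g : G) * x⁻¹ * (g : G)⁻¹) * g = _
        group)
  refine ⟨c, hc, fun x => Subtype.ext ?_⟩
  show (x : G) * ((g * c : ↥K) : G) * (x : G)⁻¹ = _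
  exact mul_inv_eq_iff_eq_mul.2 (mem_centralizer_iff.1 hfix x x.2)

theorem coprime_generation (K X : Subgroup G) (hXK : X ≤ normalizer (K : Set G))
    (hX : Cfsg.IsElementaryAbelian q X) (hq : ¬ q ∣ Nat.card K) (hsep : Cfsg.IsPSolvable p ↥K)
    (hO : Cfsg.pPrimeCore p ↥K = ⊥) (S : Sylow p ↥K) :
    normalizer (Cfsg.thompsonSubgroupOf p (S : Subgroup ↥K) : Set ↥K) ⊔
      centralizer (omegaZ p (S : Subgroup ↥K) : Set ↥K) ⊔
        (centralizer (X : Set G)).subgroupOf K = ⊤ := by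
  have : (omegaZClosure p ↥K).Normal := omegaZClosure_normal p ↥K
  refine generation (q := q) (opAut hXK) (opAut_lift hXK hX hq) hsep hO
    (fun x => Subtype.ext (hX.2 x x.2)) hq S (le_sup_left.trans le_sup_left)
    (le_sup_right.trans le_sup_left) fun g hg => mem_sup_right ?_
  refine mem_subgroupOf.2 (mem_centralizer_iff.2 fun x hx => ?_)
  exact mul_inv_eq_iff_eq_mul.1 (congrArg Subtype.val (hg ⟨x, hx⟩) : x * (g : G) * x⁻¹ = g)

theorem coprime_fixed_SL (K X : Subgroup G) (hXK : X ≤ normalizer (K : Set G))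
    (hX : Cfsg.IsElementaryAbelian q X) (hq : ¬ q ∣ Nat.card K) (hsep : Cfsg.IsPSolvable p ↥K)
    (hO : Cfsg.pPrimeCore p ↥K = ⊥) (hnf : ¬ Cfsg.IsThompsonFactorizable p ↥K) :
    (p = 2 ∨ p = 3) ∧ ∃ W D : Subgroup G, W ≤ K ⊓ centralizer (X : Set G) ∧
      D ≤ K ⊓ centralizer (X : Set G) ∧ Cfsg.IsElementaryAbelian p W ∧ Nat.card W = p ^ 2 ∧
      D ≤ normalizer (W : Set G) ∧ ∃ hn : ((centralizer (W : Set G)).subgroupOf D).Normal,
        Nonempty ((↥D ⧸ (centralizer (W : Set G)).subgroupOf D) ≃*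
          Matrix.SpecialLinearGroup (Fin 2) (ZMod p)) := by
  have : (omegaZClosure p ↥K).Normal := omegaZClosure_normal p ↥K
  obtain ⟨hp, U, D₀, f, hU, hD, hUel, hUc, hDU, hf, hker⟩ := exists_fixed_SL (q := q) (opAut hXK)
    (opAut_lift hXK hX hq) hsep hO (fun x => Subtype.ext (hX.2 x x.2)) hq hnf
  have hfix : ∀ g : ↥K, (∀ x, opAut hXK x g = g) → (g : G) ∈ K ⊓ centralizer (X : Set G) :=
    fun g hg => ⟨g.2, mem_centralizer_iff.2 fun x hx =>
      mul_inv_eq_iff_eq_mul.1 (congrArg Subtype.val (hg ⟨x, hx⟩) : x * (g : G) * x⁻¹ = g)⟩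
  refine ⟨hp, U.map K.subtype, D₀.map K.subtype, ?_, ?_, elementary_map _ hUel, ?_, ?_, ?_⟩
  · rintro _ ⟨u, hu, rfl⟩; exact hfix u (hU u hu)
  · rintro _ ⟨d, hd, rfl⟩; exact hfix d (hD d hd)
  · rw [Subgroup.card_map_of_injective K.subtype_injective, hUc]
  · refine le_normalizer_iff.2 ?_
    rintro _ ⟨d, hd, rfl⟩ _ ⟨u, hu, rfl⟩
    exact ⟨d * u * d⁻¹, le_normalizer_iff.1 hDU d hd u hu, by simp⟩
  · let e := equivMapOfInjective D₀ K.subtype K.subtype_injective
    let g := f.comp e.symm.toMonoidHom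
    have hgker : g.ker = (centralizer ((U.map K.subtype : Subgroup G) : Set G)).subgroupOf
        (D₀.map K.subtype) := by
      ext d
      obtain ⟨d₀, rfl⟩ := e.surjective d
      rw [MonoidHom.mem_ker, MonoidHom.comp_apply, MulEquiv.coe_toMonoidHom, e.symm_apply_apply,
        ← MonoidHom.mem_ker, hker, mem_subgroupOf, mem_subgroupOf, mem_centralizer_iff,
        mem_centralizer_iff]
      constructor
      · rintro h _ ⟨u, hu, rfl⟩
        exact congrArg K.subtype (h u hu)
      · intro h u hu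
        exact K.subtype_injective (h _ ⟨u, hu, rfl⟩)
    have hn : ((centralizer ((U.map K.subtype : Subgroup G) : Set G)).subgroupOf
        (D₀.map K.subtype)).Normal := by rw [← hgker]; exact g.normal_ker
    have hg : Function.Surjective g := hf.comp e.symm.surjective
    exact ⟨hn, ⟨(QuotientGroup.quotientMulEquivOfEq hgker.symm).trans
      (QuotientGroup.quotientKerEquivOfSurjective g hg)⟩⟩

end Concrete

end CfsgLib.PLocal
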