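import Cfsg.Agent.Lib.Core.Coprime
import Cfsg.Prelude.Def_Transfer
import Mathlib.Algebra.BigOperators.Intervals

/-!
# Coprime groups moved freely by a quadratic element act trivially (`p` odd)
-/

set_option autoImplicit false
set_option linter.all false

namespace CfsgLib.PLocal

open Subgroup Cfsg
open scoped Pointwise IsMulCommutative

variable {G : Type*} [Group G] [Finite G]

theorem centralizes_of_quadratic {p : ℕ} [hp : Fact p.Prime] (hp2 : p ≠ 2) {V S : Subgroup G}
    [V.Normal] (hV : IsElementaryAbelian p V) {n : G} (hnS : n ∈ normalizer (S : Set G))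
    (hfree : ∀ j : ℕ, ¬ p ∣ j → ∀ s ∈ S, n ^ j * s = s * n ^ j → s = 1)
    (hquad : ∀ v ∈ V, n * (n * v * n⁻¹ * v⁻¹) * n⁻¹ = n * v * n⁻¹ * v⁻¹)
    (hcop : (Nat.card S).Coprime p) : S ≤ centralizer (V : Set G) := by
  classical
  haveI := hV.1
  haveI := Fintype.ofFinite S
  have hVc : ∀ (g : G) (v : V), g * (v : G) * g⁻¹ ∈ V := fun g v =>
    (inferInstance : V.Normal).conj_mem _ v.2 g
  let cj : G → (V →* V) := fun g =>
    { toFun := fun v => ⟨g * v * g⁻¹, hVc g v⟩
      map_one' := Subtype.ext (by simp)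
      map_mul' := fun a b => Subtype.ext (by simp only [Subgroup.coe_mul]; group) }
  have hmul : ∀ (g h : G) (v : V), cj g (cj h v) = cj (g * h) v := fun g h v => Subtype.ext (by
    show g * (h * (v : G) * h⁻¹) * g⁻¹ = g * h * v * (g * h)⁻¹
    group)
  have hone : ∀ v : V, cj 1 v = v := fun v => Subtype.ext (by simp [cj])
  have htr : ∀ w : V, ∏ j ∈ Finset.range p, cj (n ^ j) w = 1 := by
    intro w
    obtain ⟨u, hu⟩ : ∃ u : V, u = cj n w * w⁻¹ := ⟨_, rfl⟩
    have hufix : cj n u = u := by
      rw [hu]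
      exact Subtype.ext (hquad w w.2)
    have hj : ∀ j : ℕ, cj (n ^ j) w = u ^ j * w := by
      intro j
      induction j with
      | zero => rw [pow_zero, pow_zero, hone, one_mul]
      | succ j ih =>
        rw [pow_succ' n, ← hmul, ih, map_mul, map_pow, hufix, pow_succ, mul_assoc,
          hu, inv_mul_cancel_right]
    have hexp : ∀ x : V, x ^ p = 1 := fun x => Subtype.ext (hV.2 x x.2)
    rw [Finset.prod_congr rfl (fun j _ => hj j), Finset.prod_mul_distrib, Finset.prod_pow_eq_pow_sum,
      Finset.prod_const, Finset.card_range, hexp, mul_one]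
    have hdvd : p ∣ ∑ i ∈ Finset.range p, i := by
      have h := Finset.sum_range_id_mul_two p
      refine ((Nat.coprime_primes hp.out Nat.prime_two).mpr hp2).dvd_of_dvd_mul_right ?_
      rw [h]
      exact dvd_mul_right _ _
    obtain ⟨k, hk⟩ := hdvd
    rw [hk, pow_mul, hexp, one_pow]
  have hnS' : ∀ j : ℕ, ∀ s ∈ S, n ^ j * s * (n ^ j)⁻¹ ∈ S := fun j s hs =>
    (Subgroup.mem_normalizer_iff.mp (pow_mem hnS j) s).mp hs
  let nrm : V → V := fun v => ∏ s : S, cj s v
  have hnrm : ∀ (s : S) (v : V), cj s (nrm v) = nrm v := by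
    intro s v
    show cj s (∏ t : S, _) = _
    rw [map_prod]
    exact Fintype.prod_equiv (Equiv.mulLeft s) _ _ fun t => by
      rw [hmul]; rfl
  obtain ⟨m, hm⟩ : ∃ m, p = m + 1 := ⟨p - 1, by have := hp.out.pos; omega⟩
  have key : ∀ v : V, v ^ Fintype.card S = nrm v := by
    intro v
    have e1 : ∏ t : S, cj t (∏ j ∈ Finset.range p, cj (n ^ j) (cj (t : G)⁻¹ v)) = 1 :=
      Finset.prod_eq_one fun t _ => by rw [htr, map_one]
    simp only [map_prod] at e1
    rw [Finset.prod_comm, hm, Finset.prod_range_succ'] at e1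
    have e2 : ∏ t : S, cj t (cj (n ^ 0) (cj (t : G)⁻¹ v)) = v ^ Fintype.card S := by
      rw [← Finset.card_univ, ← Finset.prod_const]
      refine Finset.prod_congr rfl fun t _ => ?_
      rw [pow_zero, hone, hmul, mul_inv_cancel, hone]
    have e3 : ∀ j ∈ Finset.range m,
        ∏ t : S, cj t (cj (n ^ (j + 1)) (cj (t : G)⁻¹ v)) = cj (n ^ (j + 1)) (nrm v) := by
      intro j hj
      have hjp : ¬ p ∣ j + 1 := fun hd => by
        have := Nat.le_of_dvd (Nat.succ_pos j) hd
        have := Finset.mem_range.mp hj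
        omega
      generalize hg : n ^ (j + 1) = g
      have hgS : ∀ s ∈ S, g * s * g⁻¹ ∈ S := hg ▸ hnS' (j + 1)
      have hb : Function.Bijective fun t : S =>
          (⟨(t : G) * (g * (t : G)⁻¹ * g⁻¹), S.mul_mem t.2 (hgS _ (S.inv_mem t.2))⟩ : S) := by
        refine Finite.injective_iff_bijective.mp fun a b hab => ?_
        have h1 : (a : G) * (g * (a : G)⁻¹ * g⁻¹) = b * (g * (b : G)⁻¹ * g⁻¹) :=
          congrArg Subtype.val hab
        have h2 : g * ((b : G)⁻¹ * a) = ((b : G)⁻¹ * a) * g := by
          have h3 := congrArg (fun y => (b : G)⁻¹ * y * (g * (a : G))) h1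
          simpa [mul_assoc] using h3.symm
        have h4 := hfree (j + 1) hjp _ (S.mul_mem (S.inv_mem b.2) a.2) (hg.symm ▸ h2)
        exact Subtype.ext (inv_mul_eq_one.mp h4).symm
      have hb' : Function.Bijective fun s : S => (⟨g * s * g⁻¹, hgS s s.2⟩ : S) :=
        Finite.injective_iff_bijective.mp fun a b hab => Subtype.ext
          (mul_left_cancel (mul_right_cancel (congrArg Subtype.val hab : g * (a : G) * g⁻¹ = g * b * g⁻¹)))
      calc ∏ t : S, cj t (cj g (cj (t : G)⁻¹ v))
          = ∏ t : S, cj ((t : G) * (g * (t : G)⁻¹ * g⁻¹)) (cj g v) := by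
            refine Finset.prod_congr rfl fun t _ => ?_
            simp only [hmul]
            congr 2
            group
        _ = ∏ s : S, cj s (cj g v) := Fintype.prod_bijective _ hb _ _ fun t => rfl
        _ = cj g (nrm v) := by
            show _ = cj g (∏ s : S, _)
            rw [map_prod]
            symm
            refine Fintype.prod_bijective _ hb' _ _ fun s => ?_
            simp only [hmul]
            congr 2
            group
    rw [e2, Finset.prod_congr rfl e3] at e1
    have e4 := htr (nrm v)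
    rw [hm, Finset.prod_range_succ', pow_zero, hone] at e4
    exact mul_left_cancel (e1.trans e4.symm)
  rw [le_centralizer_iff]
  intro v hv
  rw [mem_centralizer_iff]
  intro s hs
  have h2 : cj s (⟨v, hv⟩ : V) ^ Fintype.card S = (⟨v, hv⟩ : V) ^ Fintype.card S := by
    rw [← map_pow, key]
    exact hnrm ⟨s, hs⟩ _
  have hc : (Nat.card V).Coprime (Fintype.card S) := by
    have hVp : IsPGroup p V := fun x => ⟨1, Subtype.ext (by simpa using hV.2 x x.2)⟩
    obtain ⟨k, hk⟩ := IsPGroup.iff_card.mp hVp
    rw [hk, ← Nat.card_eq_fintype_card]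
    exact (hcop.pow_right k).symm
  have h3 := (powCoprime hc).injective (by simpa only [powCoprime_apply] using h2)
  exact mul_inv_eq_iff_eq_mul.mp (congrArg Subtype.val h3)

end CfsgLib.PLocal
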