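import Mathlib
import Cfsg.Agent.Lib.Transfer.Fusion

/-!
# Simple groups whose non-abelian subgroups are self-normalising

* `sylow_comm`: the Sylow subgroups are abelian.
* `centralizer_comm`: the centralisers of non-identity elements are abelian.

Owner: helper15.
-/

set_option autoImplicit false
set_option linter.all false

namespace CfsgLib.PLocal.SelfNormNonabelian

open Subgroup Cfsg CfsgLib.Transfer

variable {G : Type*} [Group G] [Finite G]

/-- Every non-abelian subgroup is its own normaliser. -/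
def SelfNorm (G : Type*) [Group G] : Prop :=
  ∀ H : Subgroup G, ¬ IsMulCommutative H → normalizer (H : Set G) = H

theorem comm_iff {H : Subgroup G} : IsMulCommutative H ↔ ∀ a ∈ H, ∀ b ∈ H, a * b = b * a :=
  ⟨fun h a ha b hb => congrArg Subtype.val (h.is_comm.comm ⟨a, ha⟩ ⟨b, hb⟩),
    fun h => ⟨⟨fun a b => Subtype.ext (h a a.2 b b.2)⟩⟩⟩

variable (SN : SelfNorm G)
include SN

/-- A proper normal subgroup of a subgroup is abelian. -/
theorem comm_of_normal {M K : Subgroup G} (h : K ≤ M) (hn : M ≤ normalizer (K : Set G)) (hne : K ≠ M) :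
    IsMulCommutative K := by
  by_contra hc
  exact hne (le_antisymm h (hn.trans_eq (SN K hc)))

variable {p : ℕ} [Fact p.Prime]

/-- Proper subgroups of a Sylow subgroup are abelian. -/
theorem comm_of_lt_sylow (P : Sylow p G) {H : Subgroup G} (hH : H < (P : Subgroup G)) :
    IsMulCommutative H := by
  by_contra hc
  have hlt : H.subgroupOf (P : Subgroup G) < ⊤ := by
    rw [lt_top_iff_ne_top, Ne, subgroupOf_eq_top]
    exact fun h => hH.not_ge h
  obtain ⟨a, han, ha⟩ := SetLike.exists_of_lt
    ((@Group.normalizerCondition_of_isNilpotent _ _ (IsPGroup.isNilpotent P.isPGroup')) _ hlt)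
  refine ha (mem_subgroupOf.2 ?_)
  rw [← SN H hc, mem_normalizer_iff]
  intro y
  constructor
  · intro hy
    exact (mem_normalizer_iff.1 han ⟨y, hH.le hy⟩).1 hy
  · intro hy
    have hyP : y ∈ (P : Subgroup G) := by
      have := mul_mem (mul_mem (inv_mem a.2) (hH.le hy)) a.2
      simpa [mul_assoc] using this
    exact (mem_normalizer_iff.1 han ⟨y, hyP⟩).2 hy

/-- If `P` normalises `Q < P` then the `p'`-elements normalising `Q` centralise it. -/
theorem centralizes_of_le_normalizer (P : Sylow p G) (hP : ¬ IsMulCommutative (P : Subgroup G))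
    {Q : Subgroup G} (hQP : Q < (P : Subgroup G)) (hPQ : (P : Subgroup G) ≤ normalizer (Q : Set G))
    {g : G} (hg : g ∈ normalizer (Q : Set G)) (hgp : Nat.Coprime (orderOf g) p) :
    g ∈ centralizer (Q : Set G) := by
  by_contra hgC
  have hpp : p.Prime := Fact.out
  set M := normalizer (Q : Set G) with hM
  set C := centralizer (Q : Set G) with hC
  have hCM : C ≤ M := centralizer_le_normalizer _
  have hCn : M ≤ normalizer (C : Set G) := by
    intro m hm
    rw [mem_normalizer_iff]
    intro y
    have key : ∀ m : G, m ∈ M → ∀ y ∈ C, m * y * m⁻¹ ∈ C := by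
      intro m hm y hy
      refine mem_centralizer_iff.2 fun q hq => ?_
      have hq' : m⁻¹ * q * m ∈ Q := (mem_normalizer_iff''.1 hm q).1 hq
      have e := mem_centralizer_iff.1 hy _ hq'
      calc q * (m * y * m⁻¹) = m * ((m⁻¹ * q * m) * y) * m⁻¹ := by group
        _ = m * (y * (m⁻¹ * q * m)) * m⁻¹ := by rw [e]
        _ = m * y * m⁻¹ * q := by group
    refine ⟨key m hm y, fun h => ?_⟩
    have := key m⁻¹ (inv_mem hm) _ h
    simpa [mul_assoc] using this
  have hCne : C ≠ M := fun e => hgC (e ▸ hg)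
  have hCc : IsMulCommutative C := comm_of_normal SN hCM hCn hCne
  have hQc : IsMulCommutative Q := comm_of_lt_sylow SN P hQP
  have hQC : Q ≤ C := fun q hq => mem_centralizer_iff.2 fun r hr => comm_iff.1 hQc r hr q hq
  have hnP : normalizer ((P : Subgroup G) : Set G) = P := SN _ hP
  -- inside `M`
  let C' : Subgroup M := C.subgroupOf M
  haveI : C'.Normal := ⟨fun y hy m => mem_subgroupOf.2 (by
    rw [Subgroup.coe_mul, Subgroup.coe_mul, Subgroup.coe_inv]
    exact (mem_normalizer_iff.1 (hCn m.2) _).1 (mem_subgroupOf.1 hy))⟩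
  set P' : Sylow p M := P.subtype hPQ with hP'
  have hπ : Function.Surjective (QuotientGroup.mk' C') := QuotientGroup.mk'_surjective C'
  set Pb : Sylow p (M ⧸ C') := P'.mapSurjective hπ with hPb
  -- the image of `P` is abelian
  have hPbc : ∀ a ∈ (Pb : Subgroup (M ⧸ C')), ∀ b ∈ (Pb : Subgroup (M ⧸ C')), a * b = b * a := by
    by_contra hcon
    -- a maximal subgroup of `P` containing `P ⊓ C` lies in `C`
    have hD : (P : Subgroup G) ⊓ C < (P : Subgroup G) := lt_of_le_of_ne inf_le_left fun e =>
      hP (comm_iff.2 fun a ha b hb => comm_iff.1 hCc a (e.ge ha).2 b (e.ge hb).2)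
    have hmax : ∀ A : Subgroup G, A < (P : Subgroup G) → (P : Subgroup G) ⊓ C ≤ A →
        A ≤ (P : Subgroup G) ⊓ C := fun A hA hDA =>
      le_inf hA.le fun a ha => mem_centralizer_iff.2 fun q hq =>
        comm_iff.1 (comm_of_lt_sylow SN P hA) q (hDA ⟨hQP.le hq, hQC hq⟩) a ha
    set D : Subgroup (P : Subgroup G) := ((P : Subgroup G) ⊓ C).subgroupOf P with hDdef
    have hco : IsCoatom D := by
      refine ⟨fun e => hD.not_ge (subgroupOf_eq_top.1 e), fun B hB => ?_⟩
      by_contra hne
      have hlt : B.map (P : Subgroup G).subtype < (P : Subgroup G) := by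
        refine lt_of_le_of_ne (map_subtype_le _) fun e => hne ?_
        rw [← map_subtype_inj, e]
        exact ((MonoidHom.range_eq_map _).symm.trans (range_subtype _)).symm
      have hle : B ≤ D := fun b hb => mem_subgroupOf.2 (hmax _ hlt (fun d hd => by
        exact ⟨⟨d, hd.1⟩, hB.le (mem_subgroupOf.2 hd), rfl⟩) ⟨b, hb, rfl⟩)
      exact hB.not_ge hle
    haveI : D.Normal := Subgroup.NormalizerCondition.normal_of_coatom D
      (@Group.normalizerCondition_of_isNilpotent _ _ (IsPGroup.isNilpotent P.isPGroup')) hco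
    -- so the image is a quotient of the cyclic group `P / D`
    let f : (P : Subgroup G) →* M ⧸ C' :=
      (QuotientGroup.mk' C').comp (Subgroup.inclusion hPQ)
    have hfr : (Pb : Subgroup (M ⧸ C')) ≤ f.range := by
      rw [hPb, Sylow.coe_mapSurjective]
      rintro _ ⟨y, hy, rfl⟩
      exact ⟨⟨y, hy⟩, rfl⟩
    have hfk : D ≤ f.ker := fun d hd => by
      rw [MonoidHom.mem_ker]
      exact (QuotientGroup.eq_one_iff _).2 (mem_subgroupOf.2 (mem_subgroupOf.1 hd).2)
    refine hcon fun a ha b hb => ?_
    obtain ⟨u, rfl⟩ := hfr ha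
    obtain ⟨v, rfl⟩ := hfr hb
    haveI : IsSimpleGroup ((P : Subgroup G) ⧸ D) := by
      haveI : Nontrivial ((P : Subgroup G) ⧸ D) := (QuotientGroup.nontrivial_iff).2 hco.1
      refine ⟨fun N hN => ?_⟩
      have hle : D ≤ N.comap (QuotientGroup.mk' D) := fun d hd => by
        rw [mem_comap, QuotientGroup.mk'_apply, (QuotientGroup.eq_one_iff d).2 hd]
        exact one_mem N
      rcases eq_or_lt_of_le hle with h | h
      · left
        rw [← map_comap_eq_self_of_surjective (QuotientGroup.mk'_surjective D) N, ← h,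
          QuotientGroup.map_mk'_self]
      · right
        rw [← map_comap_eq_self_of_surjective (QuotientGroup.mk'_surjective D) N, hco.2 _ h,
          map_top_of_surjective _ (QuotientGroup.mk'_surjective D)]
    haveI : Nontrivial ((P : Subgroup G) ⧸ D) := IsSimpleGroup.toNontrivial
    haveI := IsPGroup.center_nontrivial (P.isPGroup'.to_quotient D)
    have hcen : center ((P : Subgroup G) ⧸ D) = ⊤ :=
      ((inferInstance : (center ((P : Subgroup G) ⧸ D)).Normal).eq_bot_or_eq_top).resolve_left
        fun e => by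
          have := Subgroup.nontrivial_iff_ne_bot (center ((P : Subgroup G) ⧸ D))
          exact this.1 inferInstance e
    have huv : ((u * v : (P : Subgroup G)) : (P : Subgroup G) ⧸ D) = ((v * u : (P : Subgroup G))) := by
      rw [QuotientGroup.mk_mul, QuotientGroup.mk_mul]
      exact (mem_center_iff.1 (hcen ▸ mem_top ((v : (P : Subgroup G) ⧸ D))) _)
    have h2 := hfk (QuotientGroup.eq.1 huv)
    rw [MonoidHom.mem_ker, map_mul, map_inv, inv_mul_eq_one] at h2
    rw [← map_mul, ← map_mul, h2]
  -- the image of `P` is self-normalising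
  have hPbn : normalizer ((Pb : Subgroup (M ⧸ C')) : Set (M ⧸ C')) ≤ Pb := by
    intro y hy
    obtain ⟨m, rfl⟩ := hπ y
    set L := (Pb : Subgroup (M ⧸ C')).comap (QuotientGroup.mk' C') with hL
    have hPL : (P' : Subgroup M) ≤ L := fun z hz => mem_comap.2 (by
      rw [hPb, Sylow.coe_mapSurjective]; exact mem_map_of_mem _ hz)
    have hmPL : ((m • P' : Sylow p M) : Subgroup M) ≤ L := by
      rintro _ ⟨z, hz, rfl⟩
      show QuotientGroup.mk' C' (m * z * m⁻¹) ∈ (Pb : Subgroup (M ⧸ C'))
      rw [map_mul, map_mul, map_inv]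
      exact (mem_normalizer_iff.1 hy _).1 (hPL hz)
    obtain ⟨l, hl⟩ := MulAction.exists_smul_eq L (P'.subtype hPL) ((m • P').subtype hmPL)
    rw [Sylow.smul_subtype] at hl
    have hl' : (l : M) • P' = m • P' := Sylow.subtype_injective hl
    have hn : ((l : M)⁻¹ * m) • P' = P' := by rw [mul_smul, ← hl', inv_smul_smul]
    rw [Sylow.smul_eq_iff_mem_normalizer] at hn
    have hmem : ((l : M)⁻¹ * m : M) ∈ (P' : Subgroup M) := by
      show (((l : M)⁻¹ * m : M) : G) ∈ (P : Subgroup G)
      rw [← hnP, mem_normalizer_iff]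
      intro z
      constructor
      · intro hz
        exact (mem_normalizer_iff.1 hn ⟨z, hPQ hz⟩).1 hz
      · intro hz
        have hzM : z ∈ M := by
          have := mul_mem (mul_mem (inv_mem ((l : M)⁻¹ * m).2) (hPQ hz)) ((l : M)⁻¹ * m).2
          simpa [mul_assoc] using this
        exact (mem_normalizer_iff.1 hn ⟨z, hzM⟩).2 hz
    have : m ∈ L := by
      have := mul_mem l.2 (hPL hmem)
      simpa using this
    exact this
  have hPbC : normalizer ((Pb : Subgroup (M ⧸ C')) : Set (M ⧸ C')) ≤
      centralizer ((Pb : Subgroup (M ⧸ C')) : Set (M ⧸ C')) := fun y hy =>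
    mem_centralizer_iff.2 fun z hz => hPbc z hz y (hPbn hy)
  have hcomp := MonoidHom.ker_transferSylow_isComplement' Pb hPbC
  set Kb := (MonoidHom.transferSylow Pb hPbC).ker
  set K := (Kb.comap (QuotientGroup.mk' C')).map M.subtype with hK
  have hgK : g ∈ K := by
    refine ⟨⟨g, hg⟩, ?_, rfl⟩
    show MonoidHom.transferSylow Pb hPbC (QuotientGroup.mk' C' ⟨g, hg⟩) = 1
    rw [← orderOf_eq_one_iff]
    obtain ⟨j, hj⟩ := Pb.isPGroup'.exists_card_eq
    refine Nat.eq_one_of_dvd_coprimes (hgp.pow_right j) ?_ ?_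
    · refine (orderOf_map_dvd _ _).trans ((orderOf_map_dvd _ _).trans ?_)
      rw [← Subgroup.orderOf_coe]
    · exact hj ▸ orderOf_dvd_natCard _
  have hKM : K ≤ M := map_subtype_le _
  have hKn : M ≤ normalizer (K : Set G) := by
    refine (normal_subgroupOf_iff_le_normalizer hKM).1 ?_
    rw [hK, Subgroup.subgroupOf, comap_map_eq_self_of_injective M.subtype_injective]
    exact (MonoidHom.normal_ker _).comap _
  have hKne : K ≠ M := by
    intro e
    have htop : Kb = ⊤ := eq_top_iff.2 fun y _ => by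
      obtain ⟨m, rfl⟩ := hπ y
      obtain ⟨m', hm', e'⟩ := e.ge m.2
      rwa [Subtype.ext e'] at hm'
    rw [htop, isComplement'_top_left] at hcomp
    refine hP (comm_iff.2 fun a ha b hb => ?_)
    have h : ∀ z ∈ (P : Subgroup G), z ∈ C := fun z hz => by
      have : QuotientGroup.mk' C' ⟨z, hPQ hz⟩ ∈ (Pb : Subgroup (M ⧸ C')) := by
        rw [hPb, Sylow.coe_mapSurjective]; exact ⟨⟨z, hPQ hz⟩, hz, rfl⟩
      rw [hcomp, mem_bot, QuotientGroup.mk'_apply, QuotientGroup.eq_one_iff] at this
      exact mem_subgroupOf.1 this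
    exact comm_iff.1 hCc a (h a ha) b (h b hb)
  have hKc := comm_of_normal SN hKM hKn hKne
  refine hgC (mem_centralizer_iff.2 fun q hq => comm_iff.1 hKc q ⟨⟨q, hCM (hQC hq)⟩, ?_, rfl⟩ g hgK)
  show QuotientGroup.mk' C' ⟨q, _⟩ ∈ Kb
  rw [QuotientGroup.mk'_apply, (QuotientGroup.eq_one_iff _).2 (mem_subgroupOf.2 (hQC hq))]
  exact one_mem _

/-- The Sylow subgroups of a simple group with this property are abelian. -/
theorem sylow_comm [IsSimpleGroup G] (P : Sylow p G) : IsMulCommutative (P : Subgroup G) := by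
  by_contra hP
  have hpp : p.Prime := Fact.out
  have hall : ∀ R : Sylow p G, ¬ IsMulCommutative (R : Subgroup G) := by
    intro R hR
    obtain ⟨x, rfl⟩ := MulAction.exists_smul_eq G R P
    refine hP (comm_iff.2 ?_)
    rintro _ ⟨a, ha, rfl⟩ _ ⟨b, hb, rfl⟩
    show x * a * x⁻¹ * (x * b * x⁻¹) = x * b * x⁻¹ * (x * a * x⁻¹)
    have e := comm_iff.1 hR a ha b hb
    calc x * a * x⁻¹ * (x * b * x⁻¹) = x * (a * b) * x⁻¹ := by group
      _ = x * (b * a) * x⁻¹ := by rw [e]
      _ = _ := by group
  have hnc : HasNormalPComplement p G := by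
    refine hasNormalPComplement_of_centralizes P fun Q hQ g hg hgp => ?_
    by_contra hgC
    have hQlt : Q < (P : Subgroup G) := by
      refine lt_of_le_of_ne hQ fun e => hgC ?_
      subst e
      rw [SN _ hP] at hg
      obtain ⟨k, hk⟩ := IsPGroup.iff_orderOf.1 P.isPGroup' ⟨g, hg⟩
      rw [← Subgroup.orderOf_coe] at hk
      have h1 : orderOf g = 1 := Nat.eq_one_of_dvd_coprimes (hgp.pow_right k) dvd_rfl (dvd_of_eq hk)
      rw [orderOf_eq_one_iff] at h1
      subst h1
      exact one_mem _
    -- a Sylow subgroup meeting the normaliser in a Sylow subgroup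
    set M := normalizer (Q : Set G) with hM
    obtain ⟨S, hS⟩ := IsPGroup.exists_le_sylow
      (P := Q.subgroupOf M) ((P.isPGroup'.to_le hQ).comap_of_injective M.subtype M.subtype_injective)
    obtain ⟨R, hR⟩ := IsPGroup.exists_le_sylow (S.isPGroup'.map M.subtype)
    have hQR : Q ≤ (R : Subgroup G) := fun q hq =>
      hR ⟨⟨q, le_normalizer hq⟩, hS (mem_subgroupOf.2 hq), rfl⟩
    have hmax : ∀ T : Subgroup G, IsPGroup p T → T ≤ M → (R : Subgroup G) ⊓ M ≤ T →
        T ≤ (R : Subgroup G) ⊓ M := by
      intro T hT hTM hle t ht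
      have hle' : (S : Subgroup M) ≤ T.subgroupOf M := fun s hs =>
        mem_subgroupOf.2 (hle ⟨hR ⟨s, hs, rfl⟩, s.2⟩)
      have heq := S.is_maximal' (hT.comap_of_injective M.subtype M.subtype_injective) hle'
      refine ⟨hR ⟨⟨t, hTM ht⟩, ?_, rfl⟩, hTM ht⟩
      show (⟨t, hTM ht⟩ : M) ∈ (S : Subgroup M)
      rw [← heq]
      exact mem_subgroupOf.2 ht
    have hQR' : Q < (R : Subgroup G) := lt_of_le_of_ne hQR fun e => by
      exact hall R (e ▸ comm_of_lt_sylow SN P hQlt)
    by_cases hRM : (R : Subgroup G) ≤ M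
    · exact hgC (centralizes_of_le_normalizer SN R (hall R) hQR' hRM hg hgp)
    set A := (R : Subgroup G) ⊓ M with hA
    have hAlt : A < (R : Subgroup G) := lt_of_le_of_ne inf_le_left fun e => hRM (e.ge.trans inf_le_right)
    have hQA : Q ≤ A := le_inf hQR le_normalizer
    have hAc := comm_of_lt_sylow SN R hAlt
    have hcent : ∀ B : Subgroup G, IsMulCommutative B → A ≤ B → B ≤ centralizer (Q : Set G) :=
      fun B hB hAB b hb => mem_centralizer_iff.2 fun q hq => comm_iff.1 hB q (hAB (hQA hq)) b hb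
    have hAC : A ≤ centralizer (Q : Set G) := hcent A hAc le_rfl
    have hCne : centralizer (Q : Set G) ≠ M := fun e => hgC (e ▸ hg)
    have hCn : M ≤ normalizer ((centralizer (Q : Set G) : Subgroup G) : Set G) := by
      intro m hm
      have key : ∀ m : G, m ∈ M → ∀ y ∈ centralizer (Q : Set G), m * y * m⁻¹ ∈ centralizer (Q : Set G) := by
        intro m hm y hy
        refine mem_centralizer_iff.2 fun q hq => ?_
        have hq' : m⁻¹ * q * m ∈ Q := (mem_normalizer_iff''.1 hm q).1 hq
        have e := mem_centralizer_iff.1 hy _ hq'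
        calc q * (m * y * m⁻¹) = m * ((m⁻¹ * q * m) * y) * m⁻¹ := by group
          _ = m * (y * (m⁻¹ * q * m)) * m⁻¹ := by rw [e]
          _ = m * y * m⁻¹ * q := by group
      refine mem_normalizer_iff.2 fun y => ⟨key m hm y, fun h => ?_⟩
      have := key m⁻¹ (inv_mem hm) _ h
      simpa [mul_assoc] using this
    have hCc := comm_of_normal SN (centralizer_le_normalizer _) hCn hCne
    -- `M` normalises `A`
    have hMA : ∀ m ∈ M, ∀ y ∈ A, m * y * m⁻¹ ∈ A := by
      intro m hm y hy
      have hy' : m * y * m⁻¹ ∈ centralizer (Q : Set G) := (mem_normalizer_iff.1 (hCn hm) y).1 (hAC hy)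
      set z : centralizer (Q : Set G) := ⟨m * y * m⁻¹, hy'⟩ with hz
      haveI := hCc
      letI : CommGroup (centralizer (Q : Set G)) :=
        { (inferInstance : Group (centralizer (Q : Set G))) with mul_comm := fun a b => hCc.is_comm.comm a b }
      let T : Subgroup G := (A.subgroupOf (centralizer (Q : Set G)) ⊔ zpowers z).map
        (centralizer (Q : Set G)).subtype
      have hT : IsPGroup p T := by
        refine IsPGroup.map ?_ _
        haveI : (zpowers z).Normal := ⟨fun a ha b => by rwa [mul_comm b, mul_inv_cancel_right]⟩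
        refine IsPGroup.to_sup_of_normal_right ?_ ?_
        · exact ((R.isPGroup'.to_le inf_le_left).comap_of_injective _ (subtype_injective _))
        · obtain ⟨k, hk⟩ := IsPGroup.iff_orderOf.1 (R.isPGroup'.to_le inf_le_left) ⟨y, hy⟩
          refine IsPGroup.of_card (n := k) ?_
          rw [Nat.card_zpowers, ← Subgroup.orderOf_coe]
          rw [← Subgroup.orderOf_coe] at hk
          exact (MulEquiv.orderOf_eq (MulAut.conj m) y).trans hk
      have hle := hmax T hT ((map_subtype_le _).trans (centralizer_le_normalizer _))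
        (fun a ha => ⟨⟨a, hAC ha⟩, mem_sup_left (mem_subgroupOf.2 ha), rfl⟩)
      exact hle ⟨z, mem_sup_right (mem_zpowers z), rfl⟩
    have hgA : g ∈ normalizer (A : Set G) := mem_normalizer_iff.2 fun y => ⟨hMA g hg y, fun h => by
      have := hMA g⁻¹ (inv_mem hg) _ h
      simpa [mul_assoc] using this⟩
    -- `A` is maximal in `R`
    have hRA : (R : Subgroup G) ≤ normalizer (A : Set G) := by
      have hco : IsCoatom (A.subgroupOf (R : Subgroup G)) := by
        refine ⟨fun e => hAlt.not_ge (subgroupOf_eq_top.1 e), fun B hB => ?_⟩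
        by_contra hne
        have hlt : B.map (R : Subgroup G).subtype < (R : Subgroup G) := by
          refine lt_of_le_of_ne (map_subtype_le _) fun e => hne ?_
          rw [← map_subtype_inj, e]
          exact ((MonoidHom.range_eq_map _).symm.trans (range_subtype _)).symm
        have hAB : A ≤ B.map (R : Subgroup G).subtype := fun a ha =>
          ⟨⟨a, ha.1⟩, hB.le (mem_subgroupOf.2 ha), rfl⟩
        have hle := hmax _ (R.isPGroup'.to_le hlt.le)
          ((hcent _ (comm_of_lt_sylow SN R hlt) hAB).trans (centralizer_le_normalizer _)) hAB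
        exact hB.not_ge fun b hb => mem_subgroupOf.2 (hle ⟨b, hb, rfl⟩)
      haveI := Subgroup.NormalizerCondition.normal_of_coatom _
        (@Group.normalizerCondition_of_isNilpotent _ _ (IsPGroup.isNilpotent R.isPGroup')) hco
      exact (Subgroup.normal_subgroupOf_iff_le_normalizer inf_le_left).1 inferInstance
    have h := centralizes_of_le_normalizer SN R (hall R) hAlt hRA hgA hgp
    exact hgC (mem_centralizer_iff.2 fun q hq => mem_centralizer_iff.1 h q (hQA hq))
  obtain ⟨S, N, hN, hcomp⟩ := hnc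
  rcases hN.eq_bot_or_eq_top with e | e
  · rw [e, isComplement'_bot_left] at hcomp
    have hG : IsPGroup p G := by
      intro x
      obtain ⟨k, hk⟩ := S.isPGroup' ⟨x, hcomp ▸ mem_top x⟩
      exact ⟨k, by simpa using congrArg Subtype.val hk⟩
    haveI := hG.center_nontrivial
    have hc : center G = ⊤ := ((inferInstance : (center G).Normal).eq_bot_or_eq_top).resolve_left
      fun e => (Subgroup.nontrivial_iff_ne_bot (center G)).1 inferInstance e
    exact hP (comm_iff.2 fun a _ b _ => mem_center_iff.1 (hc ▸ mem_top b) a)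
  · rw [e, isComplement'_top_left] at hcomp
    refine hall S ?_
    rw [hcomp]
    exact ⟨⟨fun a b => Subsingleton.elim _ _⟩⟩

/-- The centraliser of an element of prime order is abelian. -/
theorem centralizer_comm_prime [IsSimpleGroup G] (hna : ¬ IsMulCommutative G) {x : G}
    (hx : orderOf x = p) : IsMulCommutative (centralizer ({x} : Set G)) := by
  by_contra hC
  have hpp : p.Prime := Fact.out
  set C := centralizer ({x} : Set G) with hCdef
  have hx1 : x ≠ 1 := fun e => hpp.ne_one (by rw [← hx, e, orderOf_one])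
  obtain ⟨P, hxP⟩ := IsPGroup.exists_le_sylow
    (IsPGroup.of_card (n := 1) (G := zpowers x) (by rw [Nat.card_zpowers, hx, pow_one]))
  have hxP' : x ∈ (P : Subgroup G) := hxP (mem_zpowers x)
  have hPc := comm_iff.1 (sylow_comm SN P)
  have hPC : (P : Subgroup G) ≤ C := fun y hy => mem_centralizer_singleton_iff.2 (hPc y hy x hxP')
  have hxC : x ∈ C := hPC hxP'
  -- transfer
  let P' : Sylow p C := P.subtype hPC
  letI : CommGroup (P' : Subgroup C) :=
    { (inferInstance : Group (P' : Subgroup C)) with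
      mul_comm := fun a b => Subtype.ext (Subtype.ext (hPc _ a.2 _ b.2)) }
  let τ : C →* (P' : Subgroup C) := MonoidHom.transfer (MonoidHom.id (P' : Subgroup C))
  have hτ : τ ⟨x, hxC⟩ ≠ 1 := by
    have key : ∀ (k : ℕ) (g₀ : C), g₀⁻¹ * (⟨x, hxC⟩ : C) ^ k * g₀ ∈ (P' : Subgroup C) →
        g₀⁻¹ * (⟨x, hxC⟩ : C) ^ k * g₀ = (⟨x, hxC⟩ : C) ^ k := fun k g₀ _ => by
      have hc : Commute (⟨x, hxC⟩ : C) g₀ :=
        Subtype.ext (mem_centralizer_singleton_iff.1 g₀.2).symm
      rw [mul_assoc, (hc.pow_left k).eq, inv_mul_cancel_left]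
    intro h
    simp only [τ, MonoidHom.transfer_eq_pow _ _ key, MonoidHom.id_apply] at h
    have h2 : x ^ (P' : Subgroup C).index = 1 := by
      simpa using congrArg (fun z : (P' : Subgroup C) => ((z : C) : G)) h
    rw [← orderOf_dvd_iff_pow_eq_one, hx] at h2
    exact P'.not_dvd_index h2
  -- the `p'`-elements form an abelian normal subgroup
  set K := τ.ker.map C.subtype with hK
  have hKn : C ≤ normalizer (K : Set G) := by
    have h : (K.subgroupOf C).Normal := by
      rw [hK, Subgroup.subgroupOf, comap_map_eq_self_of_injective C.subtype_injective]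
      infer_instance
    exact (normal_subgroupOf_iff_le_normalizer (map_subtype_le _)).1 h
  have hKne : K ≠ C := by
    intro e
    obtain ⟨y, hy, hye⟩ := e.ge hxC
    exact hτ (by
      obtain rfl : y = ⟨x, hxC⟩ := Subtype.ext hye
      exact hy)
  have hKc := comm_of_normal SN (map_subtype_le _) hKn hKne
  let R : Subgroup C :=
    { carrier := {y | y ∈ τ.ker ∧ Nat.Coprime (orderOf y) p}
      one_mem' := ⟨one_mem _, by simp⟩
      mul_mem' := fun {a b} ha hb => ⟨mul_mem ha.1 hb.1, by
        have hc : Commute a b := Subtype.ext (comm_iff.1 hKc _ ⟨a, ha.1, rfl⟩ _ ⟨b, hb.1, rfl⟩)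
        exact (ha.2.mul_left hb.2).coprime_dvd_left
          (hc.orderOf_mul_dvd_lcm.trans (Nat.lcm_dvd_mul _ _))⟩
      inv_mem' := fun {a} ha => ⟨inv_mem ha.1, by rw [orderOf_inv]; exact ha.2⟩ }
  haveI hRn : R.Normal := ⟨fun y hy c => ⟨(MonoidHom.normal_ker τ).conj_mem y hy.1 c, by
    rw [show c * y * c⁻¹ = MulAut.conj c y by simp, MulEquiv.orderOf_eq]; exact hy.2⟩⟩
  have hmemR : ∀ y : C, Nat.Coprime (orderOf y) p → y ∈ R := by
    intro y hy
    refine ⟨?_, hy⟩
    rw [MonoidHom.mem_ker, ← orderOf_eq_one_iff]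
    obtain ⟨j, hj⟩ := P'.isPGroup'.exists_card_eq
    exact Nat.eq_one_of_dvd_coprimes (hy.pow_right j) (orderOf_map_dvd τ y) (hj ▸ orderOf_dvd_natCard _)
  have hgen : R ⊔ (P' : Subgroup C) = ⊤ := by
    rw [← index_eq_one]
    by_contra hne
    obtain ⟨q, hq, hqd⟩ := Nat.exists_prime_and_dvd hne
    haveI := Fact.mk hq
    have hqp : q ≠ p := fun e => P'.not_dvd_index ((dvd_of_eq e.symm).trans (hqd.trans (index_dvd_of_le le_sup_right)))
    obtain ⟨Qs⟩ : Nonempty (Sylow q C) := inferInstance
    refine Qs.not_dvd_index (hqd.trans (index_dvd_of_le (le_trans (fun y hy => hmemR y ?_) le_sup_left)))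
    obtain ⟨k, hk⟩ := IsPGroup.iff_orderOf.1 Qs.isPGroup' ⟨y, hy⟩
    rw [← Subgroup.orderOf_coe] at hk
    rw [hk]
    exact ((Nat.coprime_primes hq hpp).2 hqp).pow_left k
  have hRP : ∀ y ∈ R, y ∈ (P' : Subgroup C) → y = 1 := fun y hy hy' => by
    obtain ⟨k, hk⟩ := IsPGroup.iff_orderOf.1 P'.isPGroup' ⟨y, hy'⟩
    rw [← Subgroup.orderOf_coe] at hk
    exact orderOf_eq_one_iff.1 (Nat.eq_one_of_dvd_coprimes (hy.2.pow_right k) dvd_rfl (dvd_of_eq hk))
  -- an element of `P` not centralising `R`
  obtain ⟨u, huP, r, hr, hur⟩ : ∃ u ∈ (P' : Subgroup C), ∃ r ∈ R, u * r ≠ r * u := by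
    by_contra hno
    push Not at hno
    refine hC (comm_iff.2 fun a ha b hb => ?_)
    have hcen : ∀ y z : C, y * z = z * y := by
      have h1 : R ⊔ (P' : Subgroup C) ≤ centralizer ((R : Set C) ∪ (P' : Subgroup C)) := by
        refine sup_le ?_ ?_
        · intro y hy
          refine mem_centralizer_iff.2 ?_
          rintro z (hz | hz)
          · exact Subtype.ext (comm_iff.1 hKc _ ⟨z, hz.1, rfl⟩ _ ⟨y, hy.1, rfl⟩)
          · exact hno z hz y hy
        · intro y hy
          refine mem_centralizer_iff.2 ?_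
          rintro z (hz | hz)
          · exact (hno y hy z hz).symm
          · exact Subtype.ext (hPc _ hz _ hy)
      rw [hgen] at h1
      intro y z
      have h2 : R ⊔ (P' : Subgroup C) ≤ centralizer ({y} : Set C) := by
        refine sup_le (fun w hw => ?_) (fun w hw => ?_) <;> refine mem_centralizer_singleton_iff.2 ?_
        · exact mem_centralizer_iff.1 (h1 (mem_top y)) w (Or.inl hw)
        · exact mem_centralizer_iff.1 (h1 (mem_top y)) w (Or.inr hw)
      rw [hgen] at h2
      exact (mem_centralizer_singleton_iff.1 (h2 (mem_top z))).symm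
    exact congrArg Subtype.val (hcen ⟨a, ha⟩ ⟨b, hb⟩)
  set H := R ⊔ zpowers u with hH
  have hHtop : H = ⊤ := by
    have hHn : H.Normal := by
      refine normalizer_eq_top_iff.1 (eq_top_iff.2 (hgen ▸ sup_le ?_ ?_))
      · exact le_trans le_sup_left le_normalizer
      · intro v hv
        have key : ∀ v ∈ (P' : Subgroup C), H ≤ H.comap (MulAut.conj v).toMonoidHom := by
          intro v hv
          refine sup_le (fun w hw => mem_comap.2 (mem_sup_left (hRn.conj_mem w hw v))) ?_
          refine zpowers_le.2 (mem_comap.2 ?_)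
          have : v * u * v⁻¹ = u := by
            rw [mul_inv_eq_iff_eq_mul]
            exact Subtype.ext (hPc _ hv _ huP)
          simpa [this] using mem_sup_right (S := R) (mem_zpowers u)
        refine mem_normalizer_iff.2 fun w => ⟨fun hw => key v hv hw, fun hw => ?_⟩
        have := key v⁻¹ (inv_mem hv) hw
        simpa [mul_assoc] using this
    by_contra hne
    have hc := comm_of_normal SN (K := H.map C.subtype) (M := C) (map_subtype_le _) ?_ ?_
    · exact hur (Subtype.ext (comm_iff.1 hc _ ⟨u, mem_sup_right (mem_zpowers u), rfl⟩ _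
        ⟨r, mem_sup_left hr, rfl⟩))
    · refine (normal_subgroupOf_iff_le_normalizer (map_subtype_le _)).1 ?_
      rw [Subgroup.subgroupOf, comap_map_eq_self_of_injective C.subtype_injective]
      exact hHn
    · intro e
      refine hne (eq_top_iff.2 fun y _ => ?_)
      obtain ⟨y', hy', e'⟩ := e.ge y.2
      rwa [← Subtype.ext e']
  have hPu : (P' : Subgroup C) = zpowers u := by
    refine le_antisymm (fun v hv => ?_) (zpowers_le.2 huP)
    have hv' : v ∈ H := hHtop ▸ mem_top v
    obtain ⟨r', hr', w, hw, rfl⟩ := mem_sup_of_normal_left.1 hv'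
    have hwP : w ∈ (P' : Subgroup C) := zpowers_le.2 huP hw
    rw [hRP r' hr' ((mul_mem_cancel_right hwP).1 hv), one_mul]
    exact hw
  haveI : IsCyclic (P' : Subgroup C) := by rw [hPu]; infer_instance
  -- the normaliser of `P` centralises it
  have hNx : normalizer (zpowers x : Set G) ≤ C := by
    have h1 : C ≤ normalizer (zpowers x : Set G) := by
      intro y hy
      have hc : Commute y x := mem_centralizer_singleton_iff.1 hy
      refine mem_normalizer_iff.2 fun z => ?_
      constructor
      · rintro ⟨i, rfl⟩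
        exact ⟨i, by rw [show y * x ^ i = x ^ i * y from (hc.zpow_right i).eq, mul_inv_cancel_right]⟩
      · rintro ⟨i, hi⟩
        refine ⟨i, ?_⟩
        simp only at hi ⊢
        rw [show x ^ i = y⁻¹ * (x ^ i) * y by
          rw [mul_assoc, ← (hc.zpow_right i).eq, inv_mul_cancel_left], hi]
        group
    have h2 : normalizer (zpowers x : Set G) ≤ normalizer (C : Set G) := by
      intro y hy
      have key : ∀ y, y ∈ normalizer (zpowers x : Set G) → ∀ c ∈ C, y * c * y⁻¹ ∈ C := by
        intro y hy c hc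
        have hx' : y⁻¹ * x * y ∈ zpowers x := (mem_normalizer_iff''.1 hy x).1 (mem_zpowers x)
        obtain ⟨i, hi⟩ := hx'
        simp only at hi
        have hcc : Commute c x := mem_centralizer_singleton_iff.1 hc
        have e := (hcc.zpow_right i).eq
        rw [hi] at e
        refine mem_centralizer_singleton_iff.2 ?_
        calc y * c * y⁻¹ * x = y * (c * (y⁻¹ * x * y)) * y⁻¹ := by group
          _ = y * (y⁻¹ * x * y * c) * y⁻¹ := by rw [e]
          _ = x * (y * c * y⁻¹) := by group
      refine mem_normalizer_iff.2 fun c => ⟨key y hy c, fun h => ?_⟩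
      have := key y⁻¹ (inv_mem hy) _ h
      simpa [mul_assoc] using this
    exact h2.trans_eq (SN C hC)
  have hNP : normalizer ((P : Subgroup G) : Set G) ≤ centralizer ((P : Subgroup G) : Set G) := by
    intro c hc
    have hcx : c ∈ normalizer (zpowers x : Set G) := by
      haveI hPcyc : IsCyclic (P : Subgroup G) :=
        (subgroupOfEquivOfLe hPC).isCyclic.1 (inferInstanceAs (IsCyclic (P' : Subgroup C)))
      have key : ∀ c ∈ normalizer ((P : Subgroup G) : Set G), ∀ z ∈ zpowers x, c * z * c⁻¹ ∈ zpowers x := by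
        intro c hc z hz
        have hm : c * x * c⁻¹ ∈ (P : Subgroup G) := (mem_normalizer_iff.1 hc x).1 hxP'
        have hmem : (⟨c * x * c⁻¹, hm⟩ : (P : Subgroup G)) ∈ zpowers (⟨x, hxP'⟩ : (P : Subgroup G)) := by
          classical
          haveI := Fintype.ofFinite (P : Subgroup G)
          have hxo : orderOf (⟨x, hxP'⟩ : (P : Subgroup G)) = p := by rw [← Subgroup.orderOf_coe]; exact hx
          have hxp : (⟨x, hxP'⟩ : (P : Subgroup G)) ^ p = 1 := orderOf_dvd_iff_pow_eq_one.1 (dvd_of_eq hxo)
          have hcx : (⟨c * x * c⁻¹, hm⟩ : (P : Subgroup G)) ^ p = 1 := by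
            refine Subtype.ext ?_
            show (c * x * c⁻¹) ^ p = 1
            rw [conj_pow, ← hx, pow_orderOf_eq_one, mul_one, mul_inv_cancel]
          set Z := (Finset.univ.filter fun a : (P : Subgroup G) => a ∈ zpowers (⟨x, hxP'⟩ : (P : Subgroup G)))
          have hsub : Z ⊆ Finset.univ.filter fun a : (P : Subgroup G) => a ^ p = 1 := by
            intro a ha
            obtain ⟨i, rfl⟩ := (Finset.mem_filter.1 ha).2
            refine Finset.mem_filter.2 ⟨Finset.mem_univ _, ?_⟩
            show ((⟨x, hxP'⟩ : (P : Subgroup G)) ^ i) ^ p = 1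
            rw [← zpow_natCast, ← zpow_mul, mul_comm, zpow_mul, zpow_natCast, hxp, one_zpow]
          have hZc : Z.card = p := by
            refine Eq.trans ?_ hxo
            rw [← Nat.card_zpowers, Nat.card_eq_fintype_card, Fintype.card_subtype]
          have heq := Finset.eq_of_subset_of_card_le hsub
            ((IsCyclic.card_pow_eq_one_le (α := (P : Subgroup G)) hpp.pos).trans hZc.ge)
          exact (Finset.mem_filter.1 (heq.ge (Finset.mem_filter.2 ⟨Finset.mem_univ _, hcx⟩))).2
        obtain ⟨i, rfl⟩ := hz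
        obtain ⟨j, hj⟩ := hmem
        simp only at hj ⊢
        refine ⟨j * i, ?_⟩
        simp only
        rw [show c * x ^ i * c⁻¹ = (c * x * c⁻¹) ^ i by rw [conj_zpow], zpow_mul]
        congr 1
        simpa using congrArg Subtype.val hj
      refine mem_normalizer_iff.2 fun z => ⟨key c hc z, fun h => ?_⟩
      have := key c⁻¹ (inv_mem hc) _ h
      simpa [mul_assoc] using this
    have hcC := hNx hcx
    obtain ⟨r', hr', v, hv, e⟩ := mem_sup_of_normal_left.1 (hgen ▸ mem_top (⟨c, hcC⟩ : C))
    have hv' : (v : G) ∈ (P : Subgroup G) := hv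
    have hrN : (r' : G) ∈ normalizer ((P : Subgroup G) : Set G) := by
      have e' : (r' : G) * v = c := congrArg Subtype.val e
      rw [show (r' : G) = c * (v : G)⁻¹ by rw [← e', mul_inv_cancel_right]]
      exact mul_mem hc (le_normalizer (inv_mem hv'))
    refine mem_centralizer_iff.2 fun z hz => ?_
    have hzC : z ∈ C := hPC hz
    have hcomm : r' * ⟨z, hzC⟩ = ⟨z, hzC⟩ * r' := by
      rw [← mul_inv_eq_one, mul_inv_rev, ← mul_assoc]
      refine hRP _ ?_ ?_
      · have := mul_mem hr' (hRn.conj_mem r'⁻¹ (inv_mem hr') ⟨z, hzC⟩)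
        simpa [mul_assoc] using this
      · show (((r' * ⟨z, hzC⟩ * r'⁻¹ * (⟨z, hzC⟩ : C)⁻¹ : C)) : G) ∈ (P : Subgroup G)
        exact mul_mem ((mem_normalizer_iff.1 hrN z).1 hz) (inv_mem hz)
    have e1 : (r' : G) * z = z * r' := congrArg Subtype.val hcomm
    have e' : (r' : G) * v = c := congrArg Subtype.val e
    rw [← e', ← mul_assoc, ← e1, mul_assoc, mul_assoc, hPc z hz v hv']
  have hcomp := MonoidHom.ker_transferSylow_isComplement' P hNP
  rcases (MonoidHom.normal_ker (MonoidHom.transferSylow P hNP)).eq_bot_or_eq_top with e | e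
  · rw [e, isComplement'_bot_left] at hcomp
    exact hna ⟨⟨fun a b => hPc a (hcomp ▸ mem_top a) b (hcomp ▸ mem_top b)⟩⟩
  · rw [e, isComplement'_top_left] at hcomp
    exact hx1 (mem_bot.1 (hcomp ▸ hxP'))

omit [Fact p.Prime] in
/-- The centralisers of non-identity elements are abelian. -/
theorem centralizer_comm [IsSimpleGroup G] (hna : ¬ IsMulCommutative G) {x : G} (hx : x ≠ 1) :
    IsMulCommutative (centralizer ({x} : Set G)) := by
  obtain ⟨q, hq, hqd⟩ := Nat.exists_prime_and_dvd (fun e => hx (orderOf_eq_one_iff.1 e))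
  haveI := Fact.mk hq
  have h := centralizer_comm_prime SN hna (p := q) (x := x ^ (orderOf x / q)) (by
    rw [orderOf_pow_of_dvd (Nat.div_pos (Nat.le_of_dvd (orderOf_pos x) hqd) hq.pos).ne' (Nat.div_dvd_of_dvd hqd),
      Nat.div_div_self hqd (orderOf_pos x).ne'])
  refine comm_iff.2 fun a ha b hb => comm_iff.1 h a ?_ b ?_ <;>
    refine mem_centralizer_singleton_iff.2 ?_
  · exact (Commute.pow_right (mem_centralizer_singleton_iff.1 ha) _).eq
  · exact (Commute.pow_right (mem_centralizer_singleton_iff.1 hb) _).eq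

end CfsgLib.PLocal.SelfNormNonabelian
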