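import Mathlib
import Cfsg.Agent.Lib.PLocal.SelfNormNonabelian
import Cfsg.Agent.Lib.Recog.PrimeGraph

/-!
# `PSL(2, 2^n)` with self-normalising non-abelian subgroups has `2^n - 1` prime

Owner: helper15.
-/

set_option autoImplicit false
set_option linter.all false

namespace CfsgLib.PLocal.SelfNormNonabelian

open Subgroup Matrix

variable {F : Type*} [Field F]

/-- Upper triangular matrices with first entry in `A`. -/
def triSub (A : Subgroup Fˣ) : Subgroup (SpecialLinearGroup (Fin 2) F) where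
  carrier := {M | (M : Matrix (Fin 2) (Fin 2) F) 1 0 = 0 ∧ ∃ a ∈ A, (a : F) = (M : Matrix (Fin 2) (Fin 2) F) 0 0}
  one_mem' := ⟨by simp, 1, one_mem A, by simp⟩
  mul_mem' := by
    rintro M N ⟨hM, a, ha, haM⟩ ⟨hN, b, hb, hbN⟩
    refine ⟨?_, a * b, mul_mem ha hb, ?_⟩
    · simp [Matrix.mul_apply, Fin.sum_univ_two, hM, hN]
    · simp [Matrix.mul_apply, Fin.sum_univ_two, hN, haM, hbN]
  inv_mem' := by
    rintro M ⟨hM, a, ha, haM⟩
    refine ⟨?_, a⁻¹, inv_mem ha, ?_⟩
    · show Matrix.adjugate (M : Matrix (Fin 2) (Fin 2) F) 1 0 = 0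
      rw [Matrix.adjugate_fin_two]
      simp [hM]
    · have hdet := M.2
      rw [Matrix.det_fin_two, hM, mul_zero, sub_zero, ← haM] at hdet
      show ((a⁻¹ : Fˣ) : F) = Matrix.adjugate (M : Matrix (Fin 2) (Fin 2) F) 0 0
      rw [Matrix.adjugate_fin_two]
      rw [Units.val_inv_eq_inv_val]
      simp only [Matrix.of_apply, Matrix.cons_val', Matrix.cons_val_zero, Matrix.empty_val',
        Matrix.cons_val_fin_one]
      exact (eq_inv_of_mul_eq_one_right hdet).symm

theorem mem_triSub {A : Subgroup Fˣ} {M : SpecialLinearGroup (Fin 2) F} :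
    M ∈ triSub A ↔ (M : Matrix (Fin 2) (Fin 2) F) 1 0 = 0 ∧ ∃ a ∈ A, (a : F) = (M : Matrix (Fin 2) (Fin 2) F) 0 0 := Iff.rfl

theorem triSub_conj {A : Subgroup Fˣ} {M N : SpecialLinearGroup (Fin 2) F}
    (hN : (N : Matrix (Fin 2) (Fin 2) F) 1 0 = 0) (hM : M ∈ triSub A) : N * M * N⁻¹ ∈ triSub A := by
  obtain ⟨hM0, a, ha, haM⟩ := hM
  have hdet : (N : Matrix (Fin 2) (Fin 2) F).det = 1 := N.2
  rw [Matrix.det_fin_two, hN, mul_zero, sub_zero] at hdet
  refine ⟨?_, a, ha, ?_⟩
  · simp [Matrix.mul_apply, Fin.sum_univ_two, Matrix.adjugate_fin_two, hN, hM0]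
  · simp [Matrix.mul_apply, Fin.sum_univ_two, Matrix.adjugate_fin_two, hN, hM0, haM]
    linear_combination (- (M : Matrix (Fin 2) (Fin 2) F) 0 0) * hdet

variable [Fintype F]

/-- If the non-abelian subgroups of `SL(2, F)` are self-normalising, then `|F| - 1` is prime. -/
theorem prime_of_selfNorm (h4 : 4 ≤ Fintype.card F) (heven : Fintype.card F % 2 = 0)
    (SN : SelfNorm (SpecialLinearGroup (Fin 2) F)) : (Fintype.card F - 1).Prime := by
  classical
  by_contra hnp
  have hU : Nat.card Fˣ = Fintype.card F - 1 := by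
    rw [Nat.card_eq_fintype_card, Fintype.card_units]
  obtain ⟨l, hl, hld⟩ := Nat.exists_prime_and_dvd (show Fintype.card F - 1 ≠ 1 by omega)
  haveI := Fact.mk hl
  obtain ⟨b, hb⟩ := exists_prime_orderOf_dvd_card' (G := Fˣ) l (hU ▸ hld)
  set A := zpowers b
  have hA : A ≠ ⊤ := fun e => hnp (by
    rw [← hU, ← card_top (G := Fˣ), ← e, Nat.card_zpowers, hb]; exact hl)
  have hb1 : (b : F) ≠ 1 := fun e => hl.ne_one (by
    rw [← hb, show b = 1 from Units.ext (by simpa using e), orderOf_one])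
  let d : Fˣ → SpecialLinearGroup (Fin 2) F := fun a =>
    ⟨!![(a : F), 0; 0, (a : F)⁻¹], by simp [Matrix.det_fin_two]⟩
  let u : SpecialLinearGroup (Fin 2) F := ⟨!![1, 1; 0, 1], by simp [Matrix.det_fin_two]⟩
  have hd : ∀ a ∈ A, d a ∈ triSub A := fun a ha => ⟨by simp [d], a, ha, by simp [d]⟩
  have hu : u ∈ triSub A := ⟨by simp [u], 1, one_mem A, by simp [u]⟩
  have hne : ¬ IsMulCommutative (triSub A) := by
    intro hc
    have e := comm_iff.1 hc _ (hd b (mem_zpowers b)) _ hu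
    have e1 : ((d b * u : SpecialLinearGroup (Fin 2) F) : Matrix (Fin 2) (Fin 2) F) 0 1 = ((u * d b : SpecialLinearGroup (Fin 2) F) : Matrix (Fin 2) (Fin 2) F) 0 1 := by
      rw [e]
    change ((d b).1 * u.1) 0 1 = (u.1 * (d b).1) 0 1 at e1
    rw [Matrix.mul_apply, Matrix.mul_apply,
      Fin.sum_univ_two, Fin.sum_univ_two] at e1
    simp [d, u] at e1
    have hb0 : (b : F) ≠ 0 := b.ne_zero
    have h2 : (b : F) * b = 1 := by
      nth_rewrite 2 [e1]
      exact mul_inv_cancel₀ hb0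
    have h3 : b ^ 2 = 1 := Units.ext (by simpa [sq] using h2)
    have h4' := Nat.le_of_dvd two_pos (hb ▸ orderOf_dvd_of_pow_eq_one h3)
    have hl2 : l = 2 := le_antisymm h4' hl.two_le
    subst hl2
    omega
  obtain ⟨c, hc⟩ : ∃ c : Fˣ, c ∉ A := by
    by_contra hno
    push Not at hno
    exact hA (eq_top_iff.2 fun x _ => hno x)
  have hdc : d c ∈ normalizer (triSub A : Set (SpecialLinearGroup (Fin 2) F)) := by
    refine mem_normalizer_iff.2 fun M => ⟨triSub_conj (by simp [d]), fun h => ?_⟩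
    have := triSub_conj (N := (d c)⁻¹) (by
      show Matrix.adjugate (d c).1 1 0 = 0
      rw [Matrix.adjugate_fin_two]
      simp [d]) h
    simpa [mul_assoc] using this
  rw [SN _ hne] at hdc
  obtain ⟨-, a, ha, hac⟩ := hdc
  exact hc (Units.ext (by simpa [d] using hac) ▸ ha)

end CfsgLib.PLocal.SelfNormNonabelian
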