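import Mathlib
import Cfsg.Agent.Lib.PLocal.SelfNormNonabelian
import Cfsg.Agent.Lib.PLocal.CAGroup.SLTwo
import Cfsg.Agent.Lib.Classical.Dickson.Classify

/-!
# `PSL(2, 2^n)` with `2^n - 1` prime has self-normalising non-abelian subgroups

Owner: helper15.
-/

set_option autoImplicit false
set_option linter.all false

namespace CfsgLib.PLocal.SelfNormNonabelian

open Subgroup

/-- Dihedral groups of twice odd order: a subgroup with a reflection is self-normalising. -/
theorem dihedral_mem {m : ℕ} (hm : Odd m) {K : Subgroup (DihedralGroup m)} {i : ZMod m}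
    (hi : DihedralGroup.sr i ∈ K) {g : DihedralGroup m} (hg : ∀ k ∈ K, g * k * g⁻¹ ∈ K) : g ∈ K := by
  haveI : NeZero m := ⟨by rintro rfl; exact Nat.not_odd_zero hm⟩
  obtain ⟨t, rfl⟩ := hm
  have key : ∀ j : ZMod (2 * t + 1),
      DihedralGroup.r (2 * j) ∈ K → DihedralGroup.r j ∈ K := by
    intro j hj
    have h := pow_mem hj (t + 1)
    rw [DihedralGroup.r_pow] at h
    have e : (2 * j * ((t + 1 : ℕ) : ZMod (2 * t + 1))) = j := by
      have h0 : ((2 * t + 1 : ℕ) : ZMod (2 * t + 1)) = 0 := ZMod.natCast_self _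
      push_cast at h0 ⊢
      linear_combination j * h0
    rwa [e] at h
  rcases g with j | j
  · refine key j ?_
    have h := mul_mem (hg _ hi) hi
    simp only [DihedralGroup.inv_r, DihedralGroup.r_mul_sr, DihedralGroup.sr_mul_r, DihedralGroup.sr_mul_sr] at h
    have e : i - (i - j + -j) = 2 * j := by ring
    rwa [e] at h
  · have hr : DihedralGroup.r (i - j) ∈ K := by
      refine key _ ?_
      have h := mul_mem (hg _ hi) hi
      simp only [DihedralGroup.inv_sr, DihedralGroup.sr_mul_sr, DihedralGroup.r_mul_sr] at h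
      have e : i - (j - (i - j)) = 2 * (i - j) := by ring
      rwa [e] at h
    have h := mul_mem hi hr
    rw [DihedralGroup.sr_mul_r] at h
    have h2 := mul_mem (mul_mem hr hi) (one_mem K)
    rw [DihedralGroup.r_mul_sr, mul_one] at h2
    have e : i - (i - j) = j := by ring
    rwa [e] at h2

variable {G : Type*} [Group G] [Finite G]

theorem selfNorm_of_iso [IsSimpleGroup G] {F : Type*} [Field F] [Fintype F] {n : ℕ} (hn : 2 ≤ n)
    (hF : Fintype.card F = 2 ^ n) (hr : (2 ^ n - 1).Prime)
    (e : G ≃* Matrix.ProjectiveSpecialLinearGroup (Fin 2) F) : SelfNorm G := by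
  haveI : Fact (Nat.Prime 2) := ⟨Nat.prime_two⟩
  haveI : CharP F 2 := by
    refine ringChar.of_eq ?_
    rw [FiniteField.even_card_iff_char_two, hF, Nat.pow_mod, Nat.mod_self, zero_pow (by omega), Nat.zero_mod]
  have hnp : n.Prime := (Nat.prime_of_pow_sub_one_prime (by omega) hr).2
  have h4 : 4 ≤ 2 ^ n := le_trans (by norm_num) (Nat.pow_le_pow_right two_pos hn)
  have heven : 2 ^ n % 2 = 0 := by rw [Nat.pow_mod, Nat.mod_self, zero_pow (by omega), Nat.zero_mod]
  set r := 2 ^ n - 1 with hrdef
  haveI := Fact.mk hr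
  -- commuting is transitive
  have hct : ∀ {a b c : G}, b ≠ 1 → a * b = b * a → c * b = b * c → a * c = c * a := by
    intro a b c hb hab hcb
    apply e.injective
    rw [map_mul, map_mul]
    refine CfsgLib.PLocal.CAGroup.psl_two_commute (b := e b) (fun h => hb (e.injective (h.trans (map_one e).symm))) ?_ ?_
    · rw [← map_mul, ← map_mul, hab]
    · rw [← map_mul, ← map_mul, hcb]
  -- no elements of order `2 r`
  have hno : ∀ g : G, orderOf g ≠ 2 * r := by
    intro g hg
    have h := CfsgLib.Recog.PSLTwoOrders.range_orderOf (F := F) 2 (by rw [hF]; omega)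
    have hmem : orderOf g ∈ Set.range (orderOf : Matrix.ProjectiveSpecialLinearGroup (Fin 2) F → ℕ) :=
      ⟨e g, e.orderOf_eq g⟩
    rw [h, hg, Set.mem_setOf_eq, hF] at hmem
    have hgcd : Nat.gcd 2 (2 ^ n - 1) = 1 :=
      (Nat.prime_two.coprime_iff_not_dvd.2 (by omega)).gcd_eq_one
    rw [hgcd, Nat.div_one, Nat.div_one] at hmem
    rcases hmem with h | h | h
    · omega
    · have h2 := (dvd_mul_right 2 r).trans h; omega
    · have h2 := (dvd_mul_right 2 r).trans h; omega
  intro H hH
  refine le_antisymm ?_ le_normalizer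
  intro g hg
  rcases eq_top_or_exists_le_coatom (normalizer (H : Set G)) with htop | ⟨M, hM, hNM⟩
  · haveI : H.Normal := normalizer_eq_top_iff.1 htop
    rcases (inferInstance : H.Normal).eq_bot_or_eq_top with h | h
    · exact absurd (by rw [h]; exact ⟨⟨fun a b => Subsingleton.elim _ _⟩⟩) hH
    · rw [h]; trivial
  have hHM : H ≤ M := le_normalizer.trans hNM
  have hgM : g ∈ M := hNM hg
  have hconj : ∀ k ∈ H, g * k * g⁻¹ ∈ H := fun k hk => (mem_normalizer_iff.1 hg k).1 hk
  let ψ : M ≃* M.map e.toMonoidHom := e.subgroupMap M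
  have hdih : ∀ m : ℕ, Odd m → (M.map e.toMonoidHom ≃* DihedralGroup m) → g ∈ H := by
    intro m hm φ
    let f : M ≃* DihedralGroup m := ψ.trans φ
    obtain ⟨i, hi⟩ : ∃ i, DihedralGroup.sr i ∈ (H.subgroupOf M).map f.toMonoidHom := by
      by_contra hno'
      push Not at hno'
      refine hH (comm_iff.2 fun a ha b hb => ?_)
      have hrot : ∀ a (ha : a ∈ H), ∃ j, f ⟨a, hHM ha⟩ = DihedralGroup.r j := by
        intro a ha
        rcases hfa : f ⟨a, hHM ha⟩ with j | j
        · exact ⟨j, rfl⟩
        · exact absurd ⟨⟨a, hHM ha⟩, mem_subgroupOf.2 ha, hfa⟩ (hno' j)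
      obtain ⟨i, hi⟩ := hrot a ha
      obtain ⟨j, hj⟩ := hrot b hb
      have : f (⟨a, hHM ha⟩ * ⟨b, hHM hb⟩) = f (⟨b, hHM hb⟩ * ⟨a, hHM ha⟩) := by
        rw [map_mul, map_mul, hi, hj, DihedralGroup.r_mul_r, DihedralGroup.r_mul_r, add_comm]
      exact congrArg Subtype.val (f.injective this)
    obtain ⟨y, hy, hye⟩ := dihedral_mem hm hi (g := f ⟨g, hgM⟩) (by
      rintro _ ⟨k, hk, rfl⟩
      exact ⟨⟨g, hgM⟩ * k * ⟨g, hgM⟩⁻¹, mem_subgroupOf.2 (hconj k (mem_subgroupOf.1 hk)), by simp⟩)
    rw [f.injective hye] at hy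
    exact mem_subgroupOf.1 hy
  rcases CfsgLib.Classical.Dickson.even_cases (F := F) (by rw [hF, Nat.even_iff]; exact heven) (by omega)
    (M.map e.toMonoidHom) ((e.mapSubgroup).isCoatom_iff M |>.2 hM) with hcard | ⟨⟨φ⟩⟩ | ⟨⟨φ⟩⟩ | ⟨F₀, i₁, i₂, k, hk, hne2, hpow, -⟩
  rotate_left
  · exact hdih _ (by rw [hF, Nat.odd_iff]; omega) φ
  · exact hdih _ (by rw [hF, Nat.odd_iff]; omega) φ
  · exfalso
    rw [hF] at hpow
    have hdvd : Fintype.card F₀ ∣ 2 ^ n := hpow ▸ dvd_pow_self _ hk.ne_zero
    obtain ⟨d, -, hd⟩ := (Nat.dvd_prime_pow Nat.prime_two).1 hdvd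
    rw [hd, ← pow_mul] at hpow
    have hdn : n = d * k := Nat.pow_right_injective le_rfl hpow
    rcases (Nat.dvd_prime hnp).1 (Dvd.intro k hdn.symm) with h | h
    · exact hne2 (by rw [hd, h, pow_one])
    · rw [h] at hdn
      have : n * 1 < n * k := Nat.mul_lt_mul_of_pos_left hk.one_lt (by omega)
      omega
  -- the Borel subgroup
  rw [← Nat.card_congr ψ.toEquiv, hF, ← hrdef] at hcard
  have hMr : ¬ r ∣ 2 ^ n := fun h => by
    have h1 := hr.dvd_of_dvd_pow h
    have := Nat.le_of_dvd two_pos h1
    omega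
  have hrH : r ∣ Nat.card H := by
    by_contra hnd
    have h2 : Nat.card H ∣ 2 ^ n := by
      have h := card_dvd_of_le hHM
      rw [hcard] at h
      exact (hr.coprime_iff_not_dvd.2 hnd).symm.dvd_of_dvd_mul_right h
    obtain ⟨j, -, hj⟩ := (Nat.dvd_prime_pow Nat.prime_two).1 h2
    have hH' : IsPGroup 2 H := IsPGroup.of_card hj
    haveI : Nontrivial H := by
      by_contra hnt
      rw [not_nontrivial_iff_subsingleton] at hnt
      exact hH ⟨⟨fun a b => Subsingleton.elim _ _⟩⟩
    haveI := hH'.center_nontrivial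
    obtain ⟨z, hz⟩ := exists_ne (1 : center H)
    have hz1 : ((z : H) : G) ≠ 1 := fun h => hz (Subtype.ext (Subtype.ext h))
    exact hH (comm_iff.2 fun a ha b hb => hct hz1
      (congrArg Subtype.val (mem_center_iff.1 z.2 ⟨a, ha⟩)) (congrArg Subtype.val (mem_center_iff.1 z.2 ⟨b, hb⟩)))
  obtain ⟨x, hx⟩ := exists_prime_orderOf_dvd_card' (G := H) r hrH
  -- a Sylow `r`-subgroup of `M` inside `H`
  let x' : M := ⟨x, hHM x.2⟩
  have hx' : orderOf x' = r := by rw [← Subgroup.orderOf_coe, ← hx, ← Subgroup.orderOf_coe x]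
  obtain ⟨S, hS⟩ := IsPGroup.exists_le_sylow
    (IsPGroup.of_card (n := 1) (G := zpowers x') (by rw [Nat.card_zpowers, hx', pow_one]))
  have hScard : Nat.card (S : Subgroup M) = r := by
    rw [S.card_eq_multiplicity]
    have : (Nat.card M).factorization r = 1 := by
      rw [hcard, Nat.factorization_mul (by positivity) (by omega), Finsupp.add_apply,
        Nat.factorization_eq_zero_of_not_dvd hMr, Nat.Prime.factorization_self hr]
    rw [this, pow_one]
  have hSz : (S : Subgroup M) = zpowers x' :=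
    (eq_of_le_of_card_ge hS (by rw [hScard, Nat.card_zpowers, hx'])).symm
  have hSc : ∀ s ∈ (S : Subgroup M), ∀ s' ∈ (S : Subgroup M), s * s' = s' * s := by
    rw [hSz]
    rintro _ ⟨i, rfl⟩ _ ⟨j, rfl⟩
    exact (Commute.zpow_zpow_self x' i j).eq
  -- its normaliser in `M` is itself
  have hN : normalizer ((S : Subgroup M) : Set M) ≤ (S : Subgroup M) := by
    have hcount : Nat.card (Sylow r M) ∣ 2 ^ n := by
      have h := S.card_dvd_index
      have h2 := (S : Subgroup M).index_mul_card
      rw [hScard, hcard] at h2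
      rwa [Nat.eq_of_mul_eq_mul_right (by omega) h2] at h
    have hN2 := (S : Subgroup M).index_mul_card
    rw [hScard, hcard] at hN2
    have hSi : (S : Subgroup M).index = 2 ^ n := Nat.eq_of_mul_eq_mul_right (by omega) hN2
    have hni : Nat.card (Sylow r M) = (normalizer ((S : Subgroup M) : Set M)).index := S.card_eq_index_normalizer
    have hle : (S : Subgroup M) ≤ normalizer ((S : Subgroup M) : Set M) := le_normalizer
    have hrel := Subgroup.relIndex_mul_index hle
    rw [← hni, hSi] at hrel
    have hone := card_sylow_modEq_one r M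
    obtain ⟨j, hj, hjc⟩ := (Nat.dvd_prime_pow Nat.prime_two).1 hcount
    rcases (show j = 0 ∨ j = n ∨ (0 < j ∧ j < n) by omega) with rfl | rfl | ⟨h0, h1⟩
    · -- the subgroup is normal
      exfalso
      rw [hjc, pow_zero, mul_one] at hrel
      have hNtop : normalizer ((S : Subgroup M) : Set M) = ⊤ := by
        rw [← index_eq_one, ← hni, hjc, pow_zero]
      have hnorm : (S : Subgroup M).Normal := normalizer_eq_top_iff.1 hNtop
      have hcent : centralizer ((S : Subgroup M) : Set M) ≤ (S : Subgroup M) := by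
        intro c hc
        by_contra hcS
        have hcx : Commute c x' := (mem_centralizer_iff.1 hc x' (hS (mem_zpowers x'))).symm
        -- some power of `c` is an involution commuting with `x'`
        have ho : ¬ orderOf c ∣ r := by
          intro hd
          rcases (Nat.dvd_prime hr).1 hd with h | h
          · exact hcS (orderOf_eq_one_iff.1 h ▸ one_mem _)
          · obtain ⟨T, hT⟩ := IsPGroup.exists_le_sylow
              (IsPGroup.of_card (n := 1) (G := zpowers c) (by rw [Nat.card_zpowers, h, pow_one]))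
            haveI : Unique (Sylow r M) := Sylow.unique_of_normal S hnorm
            exact hcS (Subsingleton.elim T S ▸ hT (mem_zpowers c))
        have hd : orderOf c ∣ 2 ^ n * r := by
          rw [← hcard]; exact orderOf_dvd_natCard c
        have h2 : 2 ∣ orderOf c := by
          by_contra h2
          exact ho ((Nat.Coprime.pow_right n (Nat.prime_two.coprime_iff_not_dvd.2 h2).symm).dvd_of_dvd_mul_left hd)
        have hc0 : orderOf c / 2 ≠ 0 := by
          have := orderOf_pos c
          have := Nat.le_of_dvd this h2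
          omega
        have ht : orderOf (c ^ (orderOf c / 2)) = 2 := by
          rw [orderOf_pow_of_dvd hc0 (Nat.div_dvd_of_dvd h2), Nat.div_div_self h2 (orderOf_pos c).ne']
        refine hno ((c ^ (orderOf c / 2) * x' : M) : G) ?_
        rw [Subgroup.orderOf_coe, (hcx.pow_left _).orderOf_mul_eq_mul_orderOf_of_coprime, ht, hx']
        rw [ht, hx']
        exact Nat.prime_two.coprime_iff_not_dvd.2 (by omega)
      have hd : (S : Subgroup M).index ∣ r - 1 := by
        let φ := (S : Subgroup M).normalizerMonoidHom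
        have hker : φ.ker = (centralizer ((S : Subgroup M) : Set M)).subgroupOf _ :=
          Subgroup.normalizerMonoidHom_ker _
        have h1 : φ.ker.index ∣ Nat.card (MulAut (S : Subgroup M)) := by
          rw [index_ker]; exact card_subgroup_dvd_card _
        haveI : IsCyclic (S : Subgroup M) := isCyclic_of_prime_card hScard
        rw [IsCyclic.card_mulAut, hScard, Nat.totient_prime hr, hker] at h1
        have hcS : centralizer ((S : Subgroup M) : Set M) = (S : Subgroup M) :=
          le_antisymm hcent fun s hs => mem_centralizer_iff.2 fun t ht => hSc t ht s hs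
        rw [hcS] at h1
        rwa [← relIndex, hNtop, relIndex_top_right] at h1
      rw [hSi] at hd
      have := Nat.le_of_dvd (by omega) hd
      omega
    · rw [hjc] at hrel
      have h1 : (S : Subgroup M).relIndex (normalizer ((S : Subgroup M) : Set M)) = 1 :=
        Nat.eq_of_mul_eq_mul_right (by positivity) (hrel.trans (one_mul _).symm)
      exact relIndex_eq_one.1 h1
    · exfalso
      rw [hjc] at hone
      have hlt : 2 ^ j < 2 ^ n := Nat.pow_lt_pow_right (by omega) h1
      have h2 : 2 ≤ 2 ^ j := Nat.le_self_pow (by omega) 2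
      have hjr : 2 ^ j = r := by
        by_contra hne
        have : 2 ^ j % r = 1 % r := hone
        rw [Nat.mod_eq_of_lt (by omega), Nat.mod_eq_of_lt (by omega)] at this
        omega
      exact hMr (hjr ▸ pow_dvd_pow 2 hj)
  -- Frattini argument
  let H' := H.subgroupOf M
  have hSH : (S : Subgroup M) ≤ H' := by
    rw [hSz, zpowers_le]
    exact mem_subgroupOf.2 x.2
  have hgS : (((⟨g, hgM⟩ : M) • S : Sylow r M) : Subgroup M) ≤ H' := by
    rintro _ ⟨s, hs, rfl⟩
    exact mem_subgroupOf.2 (hconj _ (mem_subgroupOf.1 (hSH hs)))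
  obtain ⟨l, hl⟩ := MulAction.exists_smul_eq H' (S.subtype hSH) (((⟨g, hgM⟩ : M) • S).subtype hgS)
  rw [Sylow.smul_subtype] at hl
  have hl' : (l : M) • S = (⟨g, hgM⟩ : M) • S := Sylow.subtype_injective hl
  have hn' : ((l : M)⁻¹ * ⟨g, hgM⟩) • S = S := by rw [mul_smul, ← hl', inv_smul_smul]
  rw [Sylow.smul_eq_iff_mem_normalizer] at hn'
  have h := mul_mem l.2 (hSH (hN hn'))
  rw [mul_inv_cancel_left] at h
  exact mem_subgroupOf.1 h

end CfsgLib.PLocal.SelfNormNonabelian
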