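import Cfsg.Agent.Lib.PLocal.SLTwo.StableQuot
import Cfsg.Agent.Lib.PLocal.Factorization
import Cfsg.Agent.Lib.PLocal.Thompson
import Cfsg.Agent.Lib.PLocal.Offender
import Cfsg.Agent.Lib.Techniques.SectionFusion

/-!
# The stable normal closure `W(S)`
-/

set_option autoImplicit false

namespace CfsgLib.PLocal

open Subgroup Cfsg
open scoped commutatorElement Pointwise

universe u

variable {p : ℕ}

/-- quadratic action from the fixed commutators -/
theorem quad_of_fix {G : Type*} [Group G] [Finite G] {V : Subgroup G} {a : G}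
    (h : ∀ v ∈ V, a * ⁅a, v⁆ * a⁻¹ = ⁅a, v⁆) : ⁅⁅V, zpowers a⁆, zpowers a⁆ = ⊥ := by
  classical
  have hn : ∀ n : ℕ, ∀ v ∈ V, Commute a ⁅a ^ n, v⁆ := by
    intro n v hv
    induction n with
    | zero => simp
    | succ n ih =>
      have e : ⁅a ^ (n + 1), v⁆ = a * ⁅a ^ n, v⁆ * a⁻¹ * ⁅a, v⁆ := by
        simp only [commutatorElement_def, pow_succ']; group
      rw [e]
      exact ((((Commute.refl _).mul_right ih).mul_right (Commute.refl _).inv_right)).mul_right
        (mul_inv_eq_iff_eq_mul.1 (h v hv))
  rw [commutator_eq_bot_iff_le_centralizer]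
  refine commutator_le.2 fun v hv y hy => ?_
  rw [zpowers_eq_closure, centralizer_closure, mem_centralizer_singleton_iff]
  obtain ⟨n, -, rfl⟩ := Finset.mem_image.1 (mem_zpowers_iff_mem_range_orderOf.1 hy)
  rw [← commutatorElement_inv]
  exact (hn n v hv).inv_right.symm.eq

/-- quadratic action only depends on the element modulo the centraliser -/
theorem quad_congr {G : Type*} [Group G] [Finite G] {V : Subgroup G} {a b : G}
    (ha : a ∈ normalizer (V : Set G)) (hab : b⁻¹ * a ∈ centralizer (V : Set G))
    (hq : ⁅⁅V, zpowers a⁆, zpowers a⁆ = ⊥) : ⁅⁅V, zpowers b⁆, zpowers b⁆ = ⊥ := by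
  set c := b⁻¹ * a with hc
  have hbN : b ∈ normalizer (V : Set G) := by
    have : b = a * c⁻¹ := by rw [hc]; group
    rw [this]
    exact mul_mem ha (inv_mem (centralizer_le_normalizer _ hab))
  have hfix : ∀ v ∈ V, c * v * c⁻¹ = v := fun v hv => by
    rw [← mem_centralizer_iff.1 hab v hv, mul_inv_cancel_right]
  have hconj : ∀ v ∈ V, b * v * b⁻¹ = a * v * a⁻¹ := fun v hv => by
    rw [show a = b * c by rw [hc]; group]
    calc b * v * b⁻¹ = b * (c * v * c⁻¹) * b⁻¹ := by rw [hfix v hv]
      _ = b * c * v * (b * c)⁻¹ := by group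
  refine quad_of_fix fun v hv => ?_
  have h1 : ⁅b, v⁆ = ⁅a, v⁆ := by rw [commutatorElement_def, commutatorElement_def, hconj v hv]
  have h2 : ⁅a, v⁆ ∈ V := by
    rw [commutatorElement_def]
    exact mul_mem ((mem_normalizer_iff.1 ha v).1 hv) (inv_mem hv)
  rw [h1, hconj _ h2]
  exact quad_fix hq (mem_zpowers a) (mem_zpowers a) hv

theorem quad_map {G H : Type*} [Group G] [Group H] (f : G →* H) {V : Subgroup G} {a : G}
    (hq : ⁅⁅V, zpowers a⁆, zpowers a⁆ = ⊥) :
    ⁅⁅V.map f, zpowers (f a)⁆, zpowers (f a)⁆ = ⊥ := by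
  rw [← MonoidHom.map_zpowers, ← map_commutator, ← map_commutator, hq, Subgroup.map_bot]

theorem quad_of_map {G H : Type*} [Group G] [Group H] {f : G →* H} (hf : Function.Injective f)
    {V : Subgroup G} {a : G} (hq : ⁅⁅V.map f, zpowers (f a)⁆, zpowers (f a)⁆ = ⊥) :
    ⁅⁅V, zpowers a⁆, zpowers a⁆ = ⊥ := by
  refine map_injective hf ?_
  rw [map_commutator, map_commutator, MonoidHom.map_zpowers, hq, Subgroup.map_bot]

theorem map_conj_of_normal {G : Type*} [Group G] (V : Subgroup G) (hV : V.Normal) (g : G) :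
    V.map (MulAut.conj g).toMonoidHom = V := by
  ext x
  constructor
  · rintro ⟨y, hy, rfl⟩
    exact hV.conj_mem y hy g
  · intro hx
    exact ⟨g⁻¹ * x * g, by simpa using hV.conj_mem x hx g⁻¹, by simp [mul_assoc]⟩

variable [hpf : Fact p.Prime] {S : Type u} [Group S] [Finite S]

/-- the family defining `W(S)` -/
def stableFamily (p : ℕ) (S : Type u) [Group S] : Set (Subgroup S) :=
  {W : Subgroup S | omegaOne p (Subgroup.center S) ≤ W ∧
    ∀ (H : Type u) [Group H] (τ : S →* H), IsStableEmbedding p τ → (W.map τ).Normal}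

theorem omegaZ_le_omegaCenterThompson :
    omegaOne p (Subgroup.center S) ≤ omegaCenterThompson p S := by
  refine (Subgroup.closure_le _).2 fun x ⟨hx, hxp⟩ => ?_
  have hc : x ∈ centralizer (thompsonSubgroup p S : Set S) :=
    mem_centralizer_iff.2 fun y _ => mem_center_iff.1 hx y
  exact CfsgLib.PGroups.mem_omegaOne ⟨mem_thompson_of_centralizing hc hxp, hc⟩ hxp

omit [Finite S] hpf in
theorem omegaCenterThompson_le_thompson :
    omegaCenterThompson p S ≤ thompsonSubgroup p S :=
  (CfsgLib.PGroups.omegaOne_le _).trans inf_le_left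

theorem omegaCenterThompson_char : (omegaCenterThompson p S).Characteristic := by
  refine characteristic_iff_map_eq.2 fun e => ?_
  rw [omegaCenterThompson_eq, omegaOne, MonoidHom.map_closure]
  congr 1
  have hJ := map_equiv_thompson (p := p) e
  have key : ∀ (f : S ≃* S), (thompsonSubgroup p S).map f.toMonoidHom = thompsonSubgroup p S →
      ∀ x ∈ centralizer (thompsonSubgroup p S : Set S),
        f x ∈ centralizer (thompsonSubgroup p S : Set S) := fun f hf x hx => by
    rw [mem_centralizer_iff]
    intro y hy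
    rw [← hf] at hy
    obtain ⟨z, hz, rfl⟩ := hy
    show f z * f x = f x * f z
    rw [← map_mul, ← map_mul, mem_centralizer_iff.1 hx z hz]
  ext x
  constructor
  · rintro ⟨y, ⟨hy, hyp⟩, rfl⟩
    exact ⟨key e hJ y hy, by show (e y) ^ p = 1; rw [← map_pow, hyp, map_one]⟩
  · rintro ⟨hx, hxp⟩
    exact ⟨e.symm x, ⟨key e.symm (map_equiv_thompson e.symm) x hx, by
      rw [← map_pow, hxp, map_one]⟩, e.apply_symm_apply x⟩

theorem omegaCenterThompson_elementary :
    IsElementaryAbelian p (omegaCenterThompson p S) := by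
  rw [omegaCenterThompson_eq]
  obtain ⟨A, hA⟩ := exists_maxElementary (G := S) (p := p)
  refine elementary_mono hA.1 ?_
  rw [← sInf_maxElementary]
  exact sInf_le hA

theorem omegaCenterThompson_mem_family : omegaCenterThompson p S ∈ stableFamily p S := by
  refine ⟨omegaZ_le_omegaCenterThompson, fun H _ τ hτ => ?_⟩
  obtain ⟨hinj, hfin, -, -, hJ, -⟩ := hτ
  haveI := hJ
  haveI : ((omegaCenterThompson p S).subgroupOf (thompsonSubgroup p S)).Characteristic := by
    refine characteristic_iff_map_eq.2 fun e => ?_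
    have hZ : (omegaCenterThompson p S).subgroupOf (thompsonSubgroup p S)
        = omegaOne p (center (thompsonSubgroup p S)) := by
      refine map_injective (thompsonSubgroup p S).subtype_injective ?_
      rw [subgroupOf_map_subtype, inf_eq_left.2 omegaCenterThompson_le_thompson,
        omegaOne, MonoidHom.map_closure, omegaCenterThompson, omegaOne]
      congr 1
      ext x
      constructor
      · rintro ⟨⟨hx, hc⟩, hxp⟩
        exact ⟨⟨x, hx⟩, ⟨mem_center_iff.2 fun y =>
          Subtype.ext (mem_centralizer_iff.1 hc y.1 y.2), Subtype.ext hxp⟩, rfl⟩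
      · rintro ⟨y, ⟨hy, hyp⟩, rfl⟩
        exact ⟨⟨y.2, mem_centralizer_iff.2 fun z hz =>
          congrArg Subtype.val (mem_center_iff.1 hy ⟨z, hz⟩)⟩, congrArg Subtype.val hyp⟩
    rw [hZ, omegaOne, MonoidHom.map_closure]
    congr 1
    ext x
    constructor
    · rintro ⟨y, ⟨hy, hyp⟩, rfl⟩
      exact ⟨mem_center_iff.2 fun z => by
        obtain ⟨z, rfl⟩ := e.surjective z
        show e z * e y = e y * e z
        rw [← map_mul, ← map_mul, mem_center_iff.1 hy z],
        by show (e y) ^ p = 1; rw [← map_pow, hyp, map_one]⟩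
    · rintro ⟨hx, hxp⟩
      exact ⟨e.symm x, ⟨mem_center_iff.2 fun z => e.injective (by
        rw [map_mul, map_mul, e.apply_symm_apply]; exact mem_center_iff.1 hx _),
        by rw [← map_pow, hxp, map_one]⟩, e.apply_symm_apply x⟩
  let e := equivMapOfInjective (thompsonSubgroup p S) τ hinj
  haveI : (((omegaCenterThompson p S).subgroupOf (thompsonSubgroup p S)).map
      e.toMonoidHom).Characteristic := by
    refine characteristic_iff_map_eq.2 fun f => ?_
    have h := characteristic_iff_map_eq.1 (inferInstance :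
      ((omegaCenterThompson p S).subgroupOf (thompsonSubgroup p S)).Characteristic)
      ((e.trans f).trans e.symm)
    conv_rhs => rw [← h]
    rw [map_map, map_map]
    congr 1
    ext x
    simp
  have hn : ((((omegaCenterThompson p S).subgroupOf (thompsonSubgroup p S)).map
      e.toMonoidHom).map ((thompsonSubgroup p S).map τ).subtype).Normal := inferInstance
  rwa [map_map, show ((thompsonSubgroup p S).map τ).subtype.comp e.toMonoidHom
    = τ.comp (thompsonSubgroup p S).subtype from rfl, ← map_map, subgroupOf_map_subtype,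
    inf_eq_left.2 omegaCenterThompson_le_thompson] at hn

theorem stableNormalClosure_le : stableNormalClosure p S ≤ omegaCenterThompson p S :=
  sInf_le omegaCenterThompson_mem_family

omit [Finite S] hpf in
theorem omegaZ_le_stableNormalClosure :
    omegaOne p (Subgroup.center S) ≤ stableNormalClosure p S :=
  le_sInf fun _ hW => hW.1

theorem stableNormalClosure_map_normal {H : Type u} [Group H] (τ : S →* H)
    (hτ : IsStableEmbedding p τ) : ((stableNormalClosure p S).map τ).Normal := by
  refine ⟨fun y hy h => ?_⟩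
  obtain ⟨w, hw, rfl⟩ := hy
  have hz : ∀ W ∈ stableFamily p S, h * τ w * h⁻¹ ∈ W.map τ := fun W hW =>
    (hW.2 H τ hτ).conj_mem _ (mem_map_of_mem τ (Subgroup.mem_sInf.1 hw W hW)) h
  obtain ⟨v, -, hv⟩ := hz _ omegaCenterThompson_mem_family
  refine ⟨v, Subgroup.mem_sInf.2 fun W hW => ?_, hv⟩
  obtain ⟨v', hv', hve⟩ := hz W hW
  rwa [← hτ.1 (hve.trans hv.symm)]

omit [Finite S] hpf in
theorem isStableEmbedding_congr {S' H : Type u} [Group S'] [Group H] (η : S ≃* S') {τ : S' →* H}
    (hτ : IsStableEmbedding p τ) : IsStableEmbedding p (τ.comp η.toMonoidHom) := by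
  obtain ⟨hinj, hfin, hP, hc, hJ, hV⟩ := hτ
  have hJm := map_equiv_thompson (p := p) η
  refine ⟨hinj.comp η.injective, hfin, ?_, hc, ?_, ?_⟩
  · obtain ⟨P, hP⟩ := hP
    refine ⟨P, hP.trans ?_⟩
    rw [MonoidHom.range_comp, MonoidHom.range_eq_top.2 (show Function.Surjective η.toMonoidHom from η.surjective), ← MonoidHom.range_eq_map]
  · rwa [← map_map, hJm]
  · intro V hVn hle
    refine hV V ?_
    rw [← map_map] at hle
    refine hle.trans (map_mono ?_)
    rw [omegaCenterThompson, omegaOne, MonoidHom.map_closure]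
    refine (closure_le _).2 ?_
    rintro _ ⟨x, ⟨⟨hx, hxc⟩, hxp⟩, rfl⟩
    refine CfsgLib.PGroups.mem_omegaOne ⟨hJm ▸ mem_map_of_mem _ hx, ?_⟩
      (by show (η x) ^ p = 1; rw [← map_pow, hxp, map_one])
    show η x ∈ centralizer (thompsonSubgroup p S' : Set S')
    rw [mem_centralizer_iff]
    intro y hy
    rw [← hJm] at hy
    obtain ⟨z, hz, rfl⟩ := hy
    show η z * η x = η x * η z
    rw [← map_mul, ← map_mul, mem_centralizer_iff.1 hxc z hz]

omit [Finite S] hpf in
theorem stableNormalClosure_map_le {S' : Type u} [Group S'] (η : S ≃* S') :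
    (stableNormalClosure p S).map η.toMonoidHom ≤ stableNormalClosure p S' := by
  refine le_sInf fun W hW => map_le_iff_le_comap.2 (sInf_le ⟨?_, fun H _ τ hτ => ?_⟩)
  · refine (closure_le _).2 fun x ⟨hx, hxp⟩ => hW.1 (CfsgLib.PGroups.mem_omegaOne
      (mem_center_iff.2 fun y => ?_) (by show (η x) ^ p = 1; rw [← map_pow, hxp, map_one]))
    obtain ⟨y, rfl⟩ := η.surjective y
    show η y * η x = η x * η y
    rw [← map_mul, ← map_mul, mem_center_iff.1 hx y]
  · have h := hW.2 H (τ.comp η.symm.toMonoidHom) (isStableEmbedding_congr η.symm hτ)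
    rwa [← map_map, show W.map η.symm.toMonoidHom = W.comap η.toMonoidHom from
      (Subgroup.map_equiv_eq_comap_symm η.symm W)] at h

omit [Finite S] hpf in
theorem stableNormalClosure_map {S' : Type u} [Group S'] (η : S ≃* S') :
    (stableNormalClosure p S).map η.toMonoidHom = stableNormalClosure p S' := by
  refine le_antisymm (stableNormalClosure_map_le η) fun x hx => ?_
  exact ⟨η.symm x, stableNormalClosure_map_le η.symm ⟨x, hx, rfl⟩, η.apply_symm_apply x⟩

omit [Finite S] hpf in
theorem stableNormalClosure_char : (stableNormalClosure p S).Characteristic :=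
  characteristic_iff_map_eq.2 fun e => stableNormalClosure_map e

theorem stableNormalClosure_ne_bot (hS : IsPGroup p S) [Nontrivial S] :
    stableNormalClosure p S ≠ ⊥ := by
  intro h
  haveI := hS.center_nontrivial
  obtain ⟨z, hz⟩ := exists_prime_orderOf_dvd_card' p (show p ∣ Nat.card (center S) by
    rcases (hS.to_subgroup (center S)).card_eq_or_dvd with h | h
    · exact absurd h (Finite.one_lt_card).ne'
    · exact h)
  have hm : (z : S) ∈ stableNormalClosure p S := omegaZ_le_stableNormalClosure
    (CfsgLib.PGroups.mem_omegaOne z.2 (by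
      rw [← orderOf_dvd_iff_pow_eq_one, Subgroup.orderOf_coe, hz]))
  rw [h, mem_bot] at hm
  exact (Fact.out : p.Prime).ne_one (by rw [← hz, ← Subgroup.orderOf_coe, hm, orderOf_one])

theorem stableNormalClosure_elementary :
    IsElementaryAbelian p (stableNormalClosure p S) :=
  elementary_mono omegaCenterThompson_elementary stableNormalClosure_le

/-- no element acts quadratically and non-trivially on `W(S)` -/
theorem stableNormalClosure_quad {x : S}
    (hq : ⁅⁅stableNormalClosure p S, zpowers x⁆, zpowers x⁆ = ⊥) :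
    ⁅stableNormalClosure p S, zpowers x⁆ = ⊥ := by
  classical
  set W := stableNormalClosure p S with hW
  set Qs : Set S := {y | ⁅⁅W, zpowers y⁆, zpowers y⁆ = ⊥} with hQs
  have hmem : W ⊓ centralizer Qs ∈ stableFamily p S := by
    refine ⟨le_inf omegaZ_le_stableNormalClosure ((closure_le _).2 fun z hz =>
      mem_centralizer_iff.2 fun y _ => mem_center_iff.1 hz.1 y), fun H _ τ hτ => ?_⟩
    haveI := stableNormalClosure_map_normal τ hτ
    obtain ⟨hinj, hfin, ⟨P, hP⟩, hc, hJ, hV⟩ := hτ
    haveI := hfin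
    set V := W.map τ with hVd
    have hst := hV V (map_mono stableNormalClosure_le)
    haveI : (centralizer (V : Set H)).Normal := inferInstance
    refine ⟨fun y hy h => ?_⟩
    obtain ⟨w, ⟨hw, hwc⟩, rfl⟩ := hy
    obtain ⟨v, hv, hve⟩ := ‹V.Normal›.conj_mem _ (mem_map_of_mem τ hw) h
    refine ⟨v, ⟨hv, mem_centralizer_iff.2 fun z hz => hinj ?_⟩, hve⟩
    rw [map_mul, map_mul, hve]
    set a := h⁻¹ * τ z * h with ha
    have haN : a ∈ normalizer (V : Set H) := by rw [normalizer_eq_top]; trivial
    have hqa : ⁅⁅V, zpowers a⁆, zpowers a⁆ = ⊥ := by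
      have h1 := quad_map (MulAut.conj h⁻¹).toMonoidHom (quad_map τ (hz : ⁅⁅W, _⁆, _⁆ = ⊥))
      rw [map_conj_of_normal V inferInstance] at h1
      simpa [ha, mul_assoc] using h1
    have hmemP := hst a hqa
    obtain ⟨b, hb, hbe⟩ : (QuotientGroup.mk a : H ⧸ centralizer (V : Set H)) ∈
        (P : Subgroup H).map (QuotientGroup.mk' _) := by
      have h2 := CfsgLib.Core.pCore_le_sylow
        (P.mapSurjective (QuotientGroup.mk'_surjective (centralizer (V : Set H)))) hmemP
      rwa [Sylow.coe_mapSurjective] at h2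
    rw [hP] at hb
    obtain ⟨b, rfl⟩ := hb
    have hbc : (τ b)⁻¹ * a ∈ centralizer (V : Set H) := QuotientGroup.eq.1 hbe
    have hbq : b ∈ Qs := quad_of_map hinj (quad_congr haN hbc hqa)
    have hcomm : Commute (τ w) a := by
      have h3 : Commute (τ w) (τ b) :=
        (show Commute w b from (mem_centralizer_iff.1 hwc b hbq).symm).map τ
      have h4 : Commute (τ w) ((τ b)⁻¹ * a) :=
        mem_centralizer_iff.1 hbc _ (mem_map_of_mem τ hw)
      simpa using h3.mul_right h4
    calc τ z * (h * τ w * h⁻¹) = h * (a * τ w) * h⁻¹ := by rw [ha]; group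
      _ = h * (τ w * a) * h⁻¹ := by rw [hcomm.eq]
      _ = h * τ w * h⁻¹ * τ z := by rw [ha]; group
  have hle : W ≤ centralizer Qs := (sInf_le hmem : W ≤ W ⊓ centralizer Qs).trans inf_le_right
  rw [commutator_eq_bot_iff_le_centralizer, zpowers_eq_closure, centralizer_closure]
  exact hle.trans (centralizer_le (Set.singleton_subset_iff.2 hq))

/-- `W(S)` as a subgroup of the ambient group -/
def wOf (p : ℕ) {G : Type u} [Group G] (S : Subgroup G) : Subgroup G :=
  (stableNormalClosure p S).map S.subtype

omit hpf in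
theorem wOf_le {G : Type u} [Group G] (S : Subgroup G) : wOf p S ≤ S := map_subtype_le _

omit hpf in
theorem wOf_map {G H : Type u} [Group G] [Group H] (f : G →* H) (S : Subgroup G)
    (hf : Disjoint S f.ker) : (wOf p S).map f = wOf p (S.map f) := by
  have hinj : Function.Injective (f.subgroupMap S) := by
    rw [← MonoidHom.ker_eq_bot_iff, eq_bot_iff]
    intro x hx
    exact Subtype.ext (disjoint_def.1 hf x.2 (congrArg Subtype.val hx : f x = 1))
  let e : S ≃* S.map f := MulEquiv.ofBijective _ ⟨hinj, f.subgroupMap_surjective S⟩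
  rw [wOf, wOf, ← stableNormalClosure_map e, map_map, map_map]
  rfl

theorem wOf_ne_bot {G : Type u} [Group G] [Finite G] {S : Subgroup G} (hS : IsPGroup p S)
    (h : S ≠ ⊥) : wOf p S ≠ ⊥ := by
  haveI : Nontrivial S := (nontrivial_iff_ne_bot _).2 h
  rw [wOf, Ne, map_eq_bot_iff_of_injective _ S.subtype_injective]
  exact stableNormalClosure_ne_bot hS

/-- `W(S)` is normal in an action-stable group with `C(O_p) ≤ O_p` -/
theorem wOf_normal {G : Type u} [Group G] [Finite G]
    (hst : IsActionPStable p G) (hc : centralizer (pCore p G : Set G) ≤ pCore p G)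
    (S : Sylow p G) : (wOf p (S : Subgroup G)).Normal := by
  classical
  obtain ⟨hstV, hsec, hstN⟩ := hst
  haveI := CfsgLib.Core.normal_pCore p G
  set Q := pCore p G with hQ
  set Wg := wOf p (S : Subgroup G) with hWg
  have hQS : Q ≤ (S : Subgroup G) := CfsgLib.Core.pCore_le_sylow S
  have hWS : Wg ≤ (S : Subgroup G) := wOf_le _
  have hWel : IsElementaryAbelian p Wg := elementary_map _ stableNormalClosure_elementary
  have hSW : (S : Subgroup G) ≤ normalizer (Wg : Set G) := by
    haveI : (stableNormalClosure p ↥(S : Subgroup G)).Characteristic := stableNormalClosure_char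
    have h := le_normalizer_map (H := stableNormalClosure p ↥(S : Subgroup G))
      (S : Subgroup G).subtype
    rwa [normalizer_eq_top_iff.2 inferInstance, ← MonoidHom.range_eq_map, range_subtype] at h
  have hquadW : ∀ x ∈ (S : Subgroup G), ⁅⁅Wg, zpowers x⁆, zpowers x⁆ = ⊥ →
      x ∈ centralizer (Wg : Set G) := by
    intro x hx hq
    have h := stableNormalClosure_quad (p := p) (x := (⟨x, hx⟩ : (S : Subgroup G)))
      (quad_of_map (S : Subgroup G).subtype_injective hq)
    refine mem_centralizer_iff.2 ?_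
    rintro _ ⟨w, hw, rfl⟩
    have h1 := mem_centralizer_iff.1 (commutator_eq_bot_iff_le_centralizer.1 h hw) ⟨x, hx⟩
      (mem_zpowers _)
    exact congrArg Subtype.val h1.symm
  -- `W ≤ O_p`
  have hWQ : Wg ≤ Q := by
    intro w hw
    set N := (frattini ↥Q).map Q.subtype with hN
    haveI : N.Normal := inferInstance
    have hq : ⁅⁅Q, zpowers w⁆, zpowers w⁆ ≤ N := by
      have h1 : ⁅Q, zpowers w⁆ ≤ Wg := by
        refine commutator_le.2 fun v hv y hy => ?_
        have hy' : y ∈ Wg := (zpowers_le.2 hw) hy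
        rw [commutatorElement_def]
        exact mul_mem ((mem_normalizer_iff.1 (hSW (hQS hv)) y).1 hy') (inv_mem hy')
      refine (commutator_mono h1 (zpowers_le.2 hw)).trans ?_
      rw [(commutator_self_eq_bot_iff (H := Wg)).2 hWel.1]
      exact bot_le
    obtain ⟨D, hDn, hle, ⟨k, hk⟩, hwD⟩ := hsec w hq
    haveI := hDn
    have hgood : (QuotientGroup.mk w : G ⧸ centralizer (Q : Set G))
        ∈ pCore p (G ⧸ centralizer (Q : Set G)) := by
      refine SLTwo.mem_pCore_of_frattini Q (CfsgLib.Core.isPGroup_pCore p G) N hN ?_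
      haveI : (Q.map (QuotientGroup.mk' N)).Normal :=
        Subgroup.Normal.map inferInstance _ (QuotientGroup.mk'_surjective _)
      set C := centralizer ((Q.map (QuotientGroup.mk' N) : Subgroup (G ⧸ N)) : Set (G ⧸ N))
      set ψ := (QuotientGroup.mk' C).comp (QuotientGroup.mk' N)
      haveI : (D.map ψ).Normal := Subgroup.Normal.map hDn ψ
        ((QuotientGroup.mk'_surjective _).comp (QuotientGroup.mk'_surjective _))
      refine CfsgLib.Core.le_pCore ?_ (mem_map_of_mem ψ hwD)
      rintro ⟨_, d, hd, rfl⟩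
      refine ⟨k, Subtype.ext ?_⟩
      haveI : (sectionKernel Q N).Normal := by rw [sectionKernel]; infer_instance
      have h1 := pow_index_mem ((sectionKernel Q N).subgroupOf D) (⟨d, hd⟩ : D)
      rw [← relIndex, hk, mem_subgroupOf] at h1
      show (ψ d) ^ p ^ k = 1
      rw [← map_pow]
      exact (QuotientGroup.eq_one_iff _).2 h1
    haveI := CfsgLib.Core.normal_pCore p (G ⧸ centralizer (Q : Set G))
    refine CfsgLib.Core.le_pCore ?_ (show w ∈ (pCore p (G ⧸ centralizer (Q : Set G))).comap
      (QuotientGroup.mk' (centralizer (Q : Set G))) from hgood)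
    refine (CfsgLib.Core.isPGroup_pCore p (G ⧸ centralizer (Q : Set G))).comap_of_ker_isPGroup _ ?_
    rw [QuotientGroup.ker_mk']
    exact (CfsgLib.Core.isPGroup_pCore p G).to_le hc
  -- the normal closure is elementary abelian
  set V := Subgroup.normalClosure (Wg : Set G) with hV
  have hWV : Wg ≤ V := Subgroup.subset_normalClosure
  have hVQ : V ≤ Q := Subgroup.normalClosure_le_normal hWQ
  have hVel : IsElementaryAbelian p V := by
    have hcomm : ∀ x ∈ Group.conjugatesOfSet (Wg : Set G),
        ∀ y ∈ Group.conjugatesOfSet (Wg : Set G), x * y = y * x := by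
      have key : ∀ g : G, Wg.map (MulAut.conj g).toMonoidHom ≤ centralizer (Wg : Set G) := by
        intro g x hx
        set Wg' := Wg.map (MulAut.conj g).toMonoidHom with hWg'
        have hW'Q : Wg' ≤ Q := by
          rintro _ ⟨y, hy, rfl⟩
          exact (CfsgLib.Core.normal_pCore p G).conj_mem y (hWQ hy) g
        refine hquadW x (hQS (hW'Q hx)) ?_
        have h1 : ⁅Wg, zpowers x⁆ ≤ Wg' := by
          have hQW' : Q ≤ normalizer (Wg' : Set G) := by
            rw [hWg']
            refine le_trans ?_ (le_normalizer_map _)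
            intro q hq
            refine ⟨g⁻¹ * q * g, hSW (hQS ?_), by simp [mul_assoc]⟩
            simpa using (CfsgLib.Core.normal_pCore p G).conj_mem q hq g⁻¹
          refine commutator_le.2 fun v hv y hy => ?_
          have hy' : y ∈ Wg' := (zpowers_le.2 hx) hy
          rw [commutatorElement_def]
          exact mul_mem ((mem_normalizer_iff.1 (hQW' (hWQ hv)) y).1 hy') (inv_mem hy')
        refine le_bot_iff.1 ((commutator_mono h1 (zpowers_le.2 hx)).trans ?_)
        rw [(commutator_self_eq_bot_iff (H := Wg')).2 (elementary_map _ hWel).1]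
      intro x hx y hy
      obtain ⟨a, ha, hxa⟩ := Group.mem_conjugatesOfSet_iff.1 hx
      obtain ⟨b, hb, hyb⟩ := Group.mem_conjugatesOfSet_iff.1 hy
      obtain ⟨g, rfl⟩ := isConj_iff.1 hxa
      obtain ⟨h, rfl⟩ := isConj_iff.1 hyb
      have hk := key (g⁻¹ * h) (mem_map_of_mem _ hb)
      have h2 := mem_centralizer_iff.1 hk a ha
      have h3 := congrArg (fun z => g * z * g⁻¹) h2
      simpa [mul_assoc] using h3
    haveI hmc : IsMulCommutative V := isMulCommutative_closure hcomm
    refine ⟨hmc, fun z hz => ?_⟩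
    induction hz using closure_induction with
    | mem x hx =>
      obtain ⟨a, ha, hxa⟩ := Group.mem_conjugatesOfSet_iff.1 hx
      obtain ⟨g, rfl⟩ := isConj_iff.1 hxa
      rw [conj_pow, hWel.2 a ha, mul_one, mul_inv_cancel]
    | one => simp
    | mul x y hx hy ihx ihy =>
      have : Commute x y :=
        congrArg Subtype.val (hmc.is_comm.comm (⟨x, hx⟩ : V) ⟨y, hy⟩)
      rw [this.mul_pow, ihx, ihy, one_mul]
    | inv x _ ihx => rw [inv_pow, ihx, inv_one]
  haveI : V.Normal := Subgroup.normalClosure_normal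
  set C := centralizer (V : Set G) with hC
  haveI : C.Normal := inferInstance
  -- quadratic elements of `S` centralise `V`
  have hquadV : ∀ a ∈ (S : Subgroup G), ⁅⁅V, zpowers a⁆, zpowers a⁆ = ⊥ → a ∈ C := by
    intro a haS hqa
    haveI := CfsgLib.Core.normal_pCore p (G ⧸ C)
    set D := (pCore p (G ⧸ C)).comap (QuotientGroup.mk' C) with hD
    have haD : a ∈ D := hstV V hVel a hqa
    set R := (S : Subgroup G) ⊓ D with hR
    have hfr : normalizer (R : Set G) ⊔ D = ⊤ := by
      have hs := (CfsgLib.Techniques.isSylowSub_sylow S).inf_normal (le_top : D ≤ ⊤)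
        (by rw [normalizer_eq_top])
      obtain ⟨T, hT⟩ : ∃ T : Sylow p D, (T : Subgroup D) = ((S : Subgroup G) ⊓ D).subgroupOf D :=
        ⟨(hs.2.1.comap_of_injective D.subtype D.subtype_injective).toSylow hs.2.2, rfl⟩
      have h := Sylow.normalizer_sup_eq_top T
      rwa [hT, subgroupOf_map_subtype, inf_assoc, inf_idem] at h
    have hconjW : ∀ g : G, ∀ w ∈ Wg, a * (g * w * g⁻¹) = g * w * g⁻¹ * a := by
      intro g w hw
      obtain ⟨d, hd, n, hn, rfl⟩ : ∃ d ∈ C, ∃ n ∈ normalizer (R : Set G), g = d * n := by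
        obtain ⟨n, hn, d, hd, rfl⟩ := mem_sup_of_normal_right.1
          (hfr ▸ mem_top g : g ∈ normalizer (R : Set G) ⊔ D)
        -- `D = C ⬝ R`
        obtain ⟨r, hr, hre⟩ : (QuotientGroup.mk d : G ⧸ C) ∈
            (S : Subgroup G).map (QuotientGroup.mk' C) := by
          have h2 := CfsgLib.Core.pCore_le_sylow
            (S.mapSurjective (QuotientGroup.mk'_surjective C)) hd
          rwa [Sylow.coe_mapSurjective] at h2
        have hrd : r⁻¹ * d ∈ C := QuotientGroup.eq.1 hre
        have hrD : r ∈ D := by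
          rw [hD, mem_comap]
          show (QuotientGroup.mk r : G ⧸ C) ∈ _
          rw [show (QuotientGroup.mk r : G ⧸ C) = QuotientGroup.mk d from hre]
          exact hd
        refine ⟨(n * r) * (r⁻¹ * d) * (n * r)⁻¹, ‹C.Normal›.conj_mem _ hrd _, n * r,
          mul_mem hn (le_normalizer ⟨hr, hrD⟩), by group⟩
      have hnw : n * w * n⁻¹ ∈ V := ‹V.Normal›.conj_mem _ (hWV hw) n
      have hdfix : d * n * w * (d * n)⁻¹ = n * w * n⁻¹ := by
        calc d * n * w * (d * n)⁻¹ = d * (n * w * n⁻¹) * d⁻¹ := by group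
          _ = n * w * n⁻¹ := by rw [← mem_centralizer_iff.1 hd _ hnw, mul_inv_cancel_right]
      rw [hdfix]
      have hb : n⁻¹ * a * n ∈ R :=
        by simpa using (mem_normalizer_iff.1 (inv_mem hn) a).1 ⟨haS, haD⟩
      have hqb : ⁅⁅Wg, zpowers (n⁻¹ * a * n)⁆, zpowers (n⁻¹ * a * n)⁆ = ⊥ := by
        have h1 := quad_map (MulAut.conj n⁻¹).toMonoidHom hqa
        rw [map_conj_of_normal V inferInstance] at h1
        refine le_bot_iff.1 ((commutator_mono (commutator_mono hWV le_rfl) le_rfl).trans ?_)
        exact le_of_eq (by simpa [mul_assoc] using h1)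
      have h2 := mem_centralizer_iff.1 (hquadW _ hb.1 hqb) w hw
      calc a * (n * w * n⁻¹) = n * (n⁻¹ * a * n * w) * n⁻¹ := by group
        _ = n * (w * (n⁻¹ * a * n)) * n⁻¹ := by rw [h2]
        _ = n * w * n⁻¹ * a := by group
    rw [hC, mem_centralizer_iff]
    intro v hv
    induction hv using closure_induction with
    | mem x hx =>
      obtain ⟨w, hw, hxw⟩ := Group.mem_conjugatesOfSet_iff.1 hx
      obtain ⟨g, rfl⟩ := isConj_iff.1 hxw
      exact (hconjW g w hw).symm
    | one => simp
    | mul x y _ _ ihx ihy => exact (Commute.mul_left (a := x) ihx ihy : Commute (x * y) a)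
    | inv x _ ihx => exact (Commute.inv_left ihx : Commute x⁻¹ a)
  -- `J(S) ≤ C(V)`
  have hVS : V ≤ (S : Subgroup G) := hVQ.trans hQS
  have hJC : thompsonSubgroupOf p (S : Subgroup G) ≤ C := by
    rw [thompsonSubgroupOf, map_le_iff_le_comap]
    refine sSup_le fun A hA => ?_
    haveI : (V.subgroupOf (S : Subgroup G)).Normal := inferInstance
    have hel' : IsElementaryAbelian p (V.subgroupOf (S : Subgroup G)) :=
      elementary_comap _ (S : Subgroup G).subtype_injective hVel
    obtain ⟨-, hquad, hne⟩ := thompson_replacement_max hel' hA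
    generalize hA' : ⁅V.subgroupOf (S : Subgroup G), A⁆ ⊔ (A ⊓ centralizer
      ((⁅V.subgroupOf (S : Subgroup G), A⁆ : Subgroup (S : Subgroup G)) : Set (S : Subgroup G)))
        = A' at hquad hne
    have hbot : ⁅V.subgroupOf (S : Subgroup G), A'⁆ = ⊥ := by
      rw [commutator_eq_bot_iff_le_centralizer]
      intro v hv
      rw [mem_centralizer_iff]
      intro a ha
      have hqa : ⁅⁅V, zpowers (a : G)⁆, zpowers (a : G)⁆ = ⊥ := by
        have h1 := quad_map (S : Subgroup G).subtype (le_bot_iff.mp ((commutator_mono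
          (commutator_mono le_rfl (zpowers_le.2 ha)) (zpowers_le.2 ha)).trans hquad.le) :
            ⁅⁅V.subgroupOf (S : Subgroup G), zpowers a⁆, zpowers a⁆ = ⊥)
        rwa [subgroupOf_map_subtype, inf_eq_left.2 hVS] at h1
      exact Subtype.ext (mem_centralizer_iff.1 (hquadV _ a.2 hqa) v.1 hv).symm
    have h0 : ⁅V.subgroupOf (S : Subgroup G), A⁆ = ⊥ := by
      by_contra h
      exact hne h hbot
    intro a ha
    rw [mem_comap, hC, mem_centralizer_iff]
    intro v hv
    exact congrArg Subtype.val (mem_centralizer_iff.mp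
      (commutator_eq_bot_iff_le_centralizer.mp ((commutator_comm _ _).trans h0) ha)
      ⟨v, hVS hv⟩ (mem_subgroupOf.mpr hv))
  -- the stable embedding of `S` in `N(J(S))`
  set NJ := normalizer (thompsonSubgroupOf p (S : Subgroup G) : Set G) with hNJ
  have hSNJ : (S : Subgroup G) ≤ NJ := by
    have h := le_normalizer_map (H := thompsonSubgroup p ↥(S : Subgroup G))
      (S : Subgroup G).subtype
    haveI : (thompsonSubgroup p ↥(S : Subgroup G)).Characteristic :=
      characteristic_iff_map_eq.2 fun e => map_equiv_thompson e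
    rwa [normalizer_eq_top_iff.2 inferInstance, ← MonoidHom.range_eq_map, range_subtype] at h
  set τ := Subgroup.inclusion hSNJ with hτ
  have hWN : (Wg.subgroupOf NJ).Normal := by
    have hemb : IsStableEmbedding p τ := by
      refine ⟨Subgroup.inclusion_injective hSNJ, inferInstance, ⟨S.subtype hSNJ, ?_⟩, ?_, ?_, ?_⟩
      · rw [Sylow.coe_subtype, inclusion_range]
      · have hle : Q.subgroupOf NJ ≤ pCore p NJ :=
          CfsgLib.Core.le_pCore ((CfsgLib.Core.isPGroup_pCore p G).comap_subtype)
        intro x hx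
        refine hle (mem_subgroupOf.2 (hc ?_))
        rw [mem_centralizer_iff]
        intro q hq
        exact congrArg Subtype.val (mem_centralizer_iff.1 hx
          ⟨q, hSNJ (hQS hq)⟩ (hle (mem_subgroupOf.2 hq)))
      · have h : (thompsonSubgroup p ↥(S : Subgroup G)).map τ
            = (thompsonSubgroupOf p (S : Subgroup G)).subgroupOf NJ := by
          refine map_injective NJ.subtype_injective ?_
          rw [subgroupOf_map_subtype, inf_eq_left.2 le_normalizer, map_map]
          rfl
        rw [h]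
        exact normal_in_normalizer
      · intro U hU hle
        refine hstN S U ?_
        refine (map_mono hle).trans ?_
        rw [map_map]
        rfl
    have h := stableNormalClosure_map_normal τ hemb
    have e : Wg.subgroupOf NJ = (stableNormalClosure p ↥(S : Subgroup G)).map τ := by
      refine map_injective NJ.subtype_injective ?_
      rw [subgroupOf_map_subtype, inf_eq_left.2 (hWS.trans hSNJ), map_map]
      rfl
    rw [e]; exact h
  -- conclusion
  set R := (S : Subgroup G) ⊓ C with hR
  have hJR : thompsonSubgroupOf p (S : Subgroup G) ≤ R := le_inf (map_subtype_le _) hJC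
  have hRJ : normalizer (R : Set G) ≤ NJ := by
    have heq : thompsonSubgroupOf p R = thompsonSubgroupOf p (S : Subgroup G) := by
      have h1 : thompsonSubgroupOf p (R.subgroupOf (S : Subgroup G)) =
          thompsonSubgroup p (S : Subgroup G) :=
        thompsonOf_eq_of_le fun x hx => mem_subgroupOf.mpr (hJR ⟨x, hx, rfl⟩)
      have h2 := thompsonOf_map (p := p) (S : Subgroup G).subtype
        (R.subgroupOf (S : Subgroup G)) (by rw [(S : Subgroup G).ker_subtype]; exact disjoint_bot_right)
      rw [h1, subgroupOf_map_subtype, inf_of_le_left inf_le_left] at h2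
      exact h2.symm
    intro g hg
    rw [hNJ, mem_normalizer_iff_map_conj_eq, ← heq]
    rw [mem_normalizer_iff_map_conj_eq] at hg
    exact (thompsonOf_conj R g).trans (congrArg (thompsonSubgroupOf p) hg)
  have hfr : normalizer (R : Set G) ⊔ C = ⊤ := by
    have hs := (CfsgLib.Techniques.isSylowSub_sylow S).inf_normal (le_top : C ≤ ⊤)
      (by rw [normalizer_eq_top])
    obtain ⟨T, hT⟩ : ∃ T : Sylow p C, (T : Subgroup C) = ((S : Subgroup G) ⊓ C).subgroupOf C :=
      ⟨(hs.2.1.comap_of_injective C.subtype C.subtype_injective).toSylow hs.2.2, rfl⟩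
    have h := Sylow.normalizer_sup_eq_top T
    rwa [hT, subgroupOf_map_subtype, inf_assoc, inf_idem] at h
  refine normalizer_eq_top_iff.1 (eq_top_iff.2 ?_)
  rw [← hfr]
  refine sup_le (hRJ.trans ?_) ?_
  · intro g hg
    refine mem_normalizer_iff.2 fun y => ⟨fun hy => ?_, fun hy => ?_⟩
    · exact hWN.conj_mem ⟨y, hSNJ (hWS hy)⟩ hy ⟨g, hg⟩
    · have h := hWN.conj_mem ⟨g * y * g⁻¹, hSNJ (hWS hy)⟩ hy (⟨g, hg⟩ : NJ)⁻¹
      simpa [mem_subgroupOf, mul_assoc] using h
  · exact (centralizer_le (SetLike.coe_subset_coe.2 hWV)).trans (centralizer_le_normalizer _)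

end CfsgLib.PLocal
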