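import Cfsg.Agent.Lib.PLocal.StableClosure
import Cfsg.Agent.Lib.PLocal.NormalPComplementThms
import Cfsg.Agent.Lib.PLocal.SLTwo.Faithful

/-!
# `N(W(S))` in `p`-separable groups; the normal `p`-complement criterion with `W(S)`
-/

set_option autoImplicit false

namespace CfsgLib.PLocal

open Subgroup Cfsg
open scoped commutatorElement

universe w

variable {p : ℕ} [Fact p.Prime] {G : Type w} [Group G] [Finite G]

theorem sup_normalizer_wOf_eq_top (hp : 5 ≤ p) (hsep : IsPSolvable p G) (S : Sylow p G) :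
    pPrimeCore p G ⊔ normalizer ((wOf p (S : Subgroup G) : Subgroup G) : Set G) = ⊤ := by
  haveI := CfsgLib.Core.normal_pPrimeCore p G
  set O := pPrimeCore p G with hO
  have hOc := CfsgLib.Core.coprime_card_pPrimeCore p G
  set π := QuotientGroup.mk' O with hπ
  have hdisj : Disjoint (S : Subgroup G) π.ker := by
    rw [hπ, QuotientGroup.ker_mk']
    exact disjoint_of_isPGroup hOc S.2
  have hsep' := isPSolvable_quotient hsep O
  have hn := wOf_normal (SLTwo.isActionPStable_of_noSL (by omega)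
      (SLTwo.noSL_of_pSolvable hp hsep'))
    (centralizer_pCore_le hsep' (CfsgLib.Core.pPrimeCore_quotient_pPrimeCore p G))
    (S.mapSurjective (QuotientGroup.mk'_surjective O))
  rw [Sylow.coe_mapSurjective, ← hπ, ← wOf_map π _ hdisj] at hn
  have h1 := map_normalizer_eq O hOc (S.2.to_le (wOf_le (p := p) (S : Subgroup G)))
  rw [← hπ, normalizer_eq_top_iff.2 hn] at h1
  have h2 := congrArg (Subgroup.comap π) h1
  rw [comap_map_eq, hπ, QuotientGroup.ker_mk', comap_top] at h2
  rw [sup_comm]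
  exact h2

/-- The local functor `S ↦ N(W(S))`. -/
def wLoc (p : ℕ) [Fact p.Prime] : Loc.{w} p :=
  normalizerLoc (fun S => wOf p S) (fun S => wOf_le S) (fun S hS hb => wOf_ne_bot hS hb)
    (fun f S hf => wOf_map f S hf)

theorem Config.noSL {K : Type w} [Group K] [Finite K] (hp : p ≠ 2) {Q : Sylow p K}
    (hcfg : Config p Q) : SLTwo.NoSL p K := by
  obtain ⟨T, hTc, hTn, hTP, hTab⟩ := hcfg.exists_coprime
  haveI := hTn
  haveI := hTab
  haveI := CfsgLib.Core.normal_pCore p K
  set H := pCore p K with hH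
  refine SLTwo.noSL_of_abelian_sylow hp fun R => ?_
  have hmem : ∀ x ∈ (R : Subgroup K), x ∈ H ⊔ T := by
    intro x hx
    have hq : IsPGroup p (K ⧸ (H ⊔ T)) := by
      refine Q.2.of_surjective ((QuotientGroup.mk' _).comp (Q : Subgroup K).subtype) fun y => ?_
      obtain ⟨g, rfl⟩ := QuotientGroup.mk'_surjective _ y
      have hg : g ∈ (H ⊔ T) ⊔ (Q : Subgroup K) :=
        (sup_le_sup_right le_sup_right _ : T ⊔ (Q : Subgroup K) ≤ _) (hTP ▸ mem_top g)
      obtain ⟨c, hc, s, hs, rfl⟩ := Subgroup.mem_sup_of_normal_left.mp hg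
      exact ⟨⟨s, hs⟩, by simp [(QuotientGroup.eq_one_iff c).mpr hc]⟩
    obtain ⟨k, hk⟩ := hq (x : K ⧸ (H ⊔ T))
    obtain ⟨j, hj⟩ := R.2 ⟨x, hx⟩
    have hj' : x ^ 2 ^ j = 1 := congrArg Subtype.val hj
    rw [← QuotientGroup.eq_one_iff, ← orderOf_eq_one_iff]
    refine Nat.eq_one_of_dvd_coprimes (Nat.Coprime.pow_left j
      (((Nat.coprime_primes Nat.prime_two Fact.out).2 (Ne.symm hp)).pow_right k))
      (orderOf_dvd_of_pow_eq_one ?_) (orderOf_dvd_of_pow_eq_one hk)
    rw [← QuotientGroup.mk_pow, hj']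
    rfl
  refine le_centralizer_iff_isMulCommutative.1 fun x hx => mem_centralizer_iff.2 fun y hy => ?_
  obtain ⟨h, hh, t, ht, rfl⟩ := Subgroup.mem_sup_of_normal_left.mp (hmem x hx)
  obtain ⟨h', hh', t', ht', rfl⟩ := Subgroup.mem_sup_of_normal_left.mp (hmem y hy)
  have hc : ⁅h' * t', h * t⁆ ∈ H := by
    rw [← QuotientGroup.eq_one_iff]
    show (QuotientGroup.mk' H) ⁅h' * t', h * t⁆ = 1
    rw [map_commutatorElement, map_mul, map_mul,
      show (QuotientGroup.mk' H) h' = 1 from (QuotientGroup.eq_one_iff h').2 hh',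
      show (QuotientGroup.mk' H) h = 1 from (QuotientGroup.eq_one_iff h).2 hh, one_mul, one_mul,
      ← map_commutatorElement, commutatorElement_eq_one_iff_mul_comm.2 (comm_of_mem hTab ht' ht),
      map_one]
  have hR : ⁅h' * t', h * t⁆ ∈ (R : Subgroup K) := by
    rw [commutatorElement_def]
    exact mul_mem (mul_mem (mul_mem hy hx) (inv_mem hy)) (inv_mem hx)
  obtain ⟨k, hk⟩ := CfsgLib.Core.isPGroup_pCore p K ⟨_, hc⟩
  obtain ⟨j, hj⟩ := R.2 ⟨_, hR⟩
  have h1 : ⁅h' * t', h * t⁆ = 1 := orderOf_eq_one_iff.1 (Nat.eq_one_of_dvd_coprimes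
    (Nat.Coprime.pow_left j
      (((Nat.coprime_primes Nat.prime_two Fact.out).2 (Ne.symm hp)).pow_right k))
    (orderOf_dvd_of_pow_eq_one (show ⁅h' * t', h * t⁆ ^ 2 ^ j = 1 from congrArg Subtype.val hj))
    (orderOf_dvd_of_pow_eq_one (show ⁅h' * t', h * t⁆ ^ p ^ k = 1 from congrArg Subtype.val hk)))
  exact commutatorElement_eq_one_iff_mul_comm.1 h1

/-- Thompson's normal `p`-complement theorem with `W(S)`. -/
theorem hasNormalPComplement_wOf (hp : p ≠ 2) (P : Sylow p G)
    (hN : HasNormalPComplement p (normalizer ((wOf p (P : Subgroup G) : Subgroup G) : Set G))) :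
    HasNormalPComplement p G := by
  refine hasNormalPComplement_of_locals hp {wLoc p} ⟨wLoc p, rfl, fun S => le_rfl⟩
    (fun K _ _ Q hcfg => ?_) P ?_
  · refine ⟨wLoc p, rfl, ?_⟩
    show normalizer ((wOf p (Q : Subgroup K) : Subgroup K) : Set K) = ⊤
    exact normalizer_eq_top_iff.mpr
      (wOf_normal (SLTwo.isActionPStable_of_noSL hp (hcfg.noSL hp)) hcfg.centralizer_le Q)
  · rintro L rfl
    exact hN

end CfsgLib.PLocal
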