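import Cfsg.Agent.Lib.PLocal.FFPlane
import Cfsg.Agent.Lib.PLocal.Misc
import Cfsg.Agent.Lib.Components.Radicals

/-!
# Two subnormal subgroups with irreducible commutator modules
-/

set_option autoImplicit false

namespace CfsgLib.PLocal

open Subgroup FF
open scoped commutatorElement

variable {G : Type*} [Group G] {p : ℕ}

theorem conj_mem_normalizer' {W : Subgroup G} {g w : G} (hg : g ∈ normalizer (W : Set G))
    (hw : w ∈ W) : g * w * g⁻¹ ∈ W :=
  (mem_normalizer_iff.1 hg w).1 hw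

theorem commutator_sup_right {V A B : Subgroup G} (hA : A ≤ normalizer (V : Set G))
    (hB : B ≤ normalizer (V : Set G)) : ⁅V, A ⊔ B⁆ = ⁅V, A⁆ ⊔ ⁅V, B⁆ := by
  refine le_antisymm ?_ (sup_le (commutator_mono le_rfl le_sup_left)
    (commutator_mono le_rfl le_sup_right))
  set W := ⁅V, A⁆ ⊔ ⁅V, B⁆ with hW
  have hWV : W ≤ V := sup_le (commutator_le_of_le_normalizer hA le_rfl)
    (commutator_le_of_le_normalizer hB le_rfl)
  have key : ∀ C : Subgroup G, ⁅V, C⁆ ≤ W → C ≤ normalizer (W : Set G) := fun C hC =>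
    le_normalizer_iff.2 fun a ha w hw => by
      rw [show a * w * a⁻¹ = ⁅a, w⁆ * w by rw [commutatorElement_def]; group]
      exact W.mul_mem (hC (comm_mem_commutator_swap ha (hWV hw))) hw
  have hAW := key A le_sup_left
  have hBW := key B le_sup_right
  let D : Subgroup G :=
    { carrier := {g | g ∈ normalizer (W : Set G) ⊓ normalizer (V : Set G) ∧
        ∀ v ∈ V, ⁅g, v⁆ ∈ W}
      one_mem' := ⟨one_mem _, fun v _ => by simp⟩
      mul_mem' := by
        rintro a b ⟨ha, ha'⟩ ⟨hb, hb'⟩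
        refine ⟨mul_mem ha hb, fun v hv => ?_⟩
        rw [show ⁅a * b, v⁆ = a * ⁅b, v⁆ * a⁻¹ * ⁅a, v⁆ by
          simp only [commutatorElement_def]; group]
        exact W.mul_mem (conj_mem_normalizer' ha.1 (hb' v hv)) (ha' v hv)
      inv_mem' := by
        rintro a ⟨ha, ha'⟩
        refine ⟨inv_mem ha, fun v hv => ?_⟩
        rw [show ⁅a⁻¹, v⁆ = a⁻¹ * (⁅a, v⁆⁻¹) * a⁻¹⁻¹ by
          simp only [commutatorElement_def]; group]
        exact conj_mem_normalizer' (inv_mem ha).1 (W.inv_mem (ha' v hv)) }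
  have hle : A ⊔ B ≤ D := sup_le
    (fun a ha => ⟨⟨hAW ha, hA ha⟩, fun v hv => mem_sup_left (comm_mem_commutator_swap ha hv)⟩)
    (fun a ha => ⟨⟨hBW ha, hB ha⟩, fun v hv => mem_sup_right (comm_mem_commutator_swap ha hv)⟩)
  rw [commutator_le]
  intro v hv g hg
  rw [← commutatorElement_inv]
  exact W.inv_mem ((hle hg).2 v hv)

/-- the hypotheses on one of the two subgroups -/
structure IrrSub (p : ℕ) (V E A : Subgroup G) : Prop where
  le : A ≤ E
  sn : (A.subgroupOf E).IsSubnormal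
  irr : ∀ U : Subgroup G, U ≤ ⁅V, A⁆ → A ≤ normalizer (U : Set G) → U = ⊥ ∨ U = ⁅V, A⁆
  big : 2 < Nat.card A

variable [Finite G] [Fact p.Prime] {V E A B : Subgroup G}

theorem cj_comm (hEV : E ≤ normalizer (V : Set G)) {g : G} (hg : g ∈ E) (A : Subgroup G) :
    ⁅V, cj A g⁆ = cj ⁅V, A⁆ g := by
  rw [cj, cj, map_commutator, map_normalized (hEV hg)]

theorem IrrSub.conj (hEV : E ≤ normalizer (V : Set G)) (a : IrrSub p V E A) {g : G} (hg : g ∈ E) :
    IrrSub p V E (cj A g) := by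
  have hle : cj A g ≤ E := by
    rintro _ ⟨x, hx, rfl⟩
    exact E.mul_mem (E.mul_mem hg (a.le hx)) (E.inv_mem hg)
  refine ⟨hle, ?_, fun U hU hn => ?_, ?_⟩
  · have := a.sn.map (f := (MulAut.conj (⟨g, hg⟩ : E)).toMonoidHom) (MulAut.conj _).surjective
    convert this using 1
    ext ⟨y, hy⟩
    constructor
    · rintro ⟨x, hx, hxy⟩
      exact ⟨⟨x, a.le hx⟩, hx, Subtype.ext hxy⟩
    · rintro ⟨x, hx, hxy⟩
      exact ⟨x, hx, congrArg Subtype.val hxy⟩
  · have h1 : cj U g⁻¹ ≤ ⁅V, A⁆ := by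
      rw [cj_comm hEV hg] at hU
      have : cj U g⁻¹ ≤ cj (cj ⁅V, A⁆ g) g⁻¹ := map_mono hU
      rwa [cj_cj, inv_mul_cancel, cj_one] at this
    have h2 : A ≤ normalizer (cj U g⁻¹ : Set G) := by
      refine le_normalizer_iff.2 fun x hx u hu => ?_
      obtain ⟨u0, hu0, rfl⟩ := mem_cj.1 hu
      refine mem_cj.2 ⟨(g * x * g⁻¹) * u0 * (g * x * g⁻¹)⁻¹,
        le_normalizer_iff.1 hn _ (mem_cj.2 ⟨x, hx, rfl⟩) u0 hu0, ?_⟩
      group
    have h3 : U = cj (cj U g⁻¹) g := by rw [cj_cj, mul_inv_cancel, cj_one]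
    rcases a.irr _ h1 h2 with h | h <;> rw [h] at h3
    · exact Or.inl (by rw [h3, cj, Subgroup.map_bot])
    · exact Or.inr (by rw [h3, cj_comm hEV hg])
  · rw [cj, Subgroup.card_map_of_injective (MulAut.conj g).injective]
    exact a.big

theorem subnormal_pGroup_eq_bot (hOp : Cfsg.pCore p E = ⊥) {A : Subgroup G} (hAE : A ≤ E)
    (hs : (A.subgroupOf E).IsSubnormal) (hp : IsPGroup p A) : A = ⊥ := by
  have := CfsgLib.Components.subnormal_pGroup_le_pCore hs
    (hp.comap_of_injective E.subtype E.subtype_injective)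
  rw [hOp, le_bot_iff, subgroupOf_eq_bot, disjoint_iff, inf_eq_left.2 hAE] at this
  exact this

theorem IrrSub.faithful (hV : Cfsg.IsElementaryAbelian p V)
    (hf : E ⊓ centralizer (V : Set G) = ⊥) (hOp : Cfsg.pCore p E = ⊥)
    (hEV : E ≤ normalizer (V : Set G)) (a : IrrSub p V E A) :
    A ⊓ centralizer ((⁅V, A⁆ : Subgroup G) : Set G) = ⊥ := by
  set W := ⁅V, A⁆ with hW
  have hAW : A ≤ normalizer (W : Set G) := normalizer_commutator_ge_right V A
  refine subnormal_pGroup_eq_bot hOp (inf_le_left.trans a.le) ?_ ?_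
  · have hsub : (A ⊓ centralizer (W : Set G)).subgroupOf E ≤ A.subgroupOf E := fun x hx => hx.1
    refine IsSubnormal.step _ (A.subgroupOf E) hsub a.sn ?_
    rw [normal_subgroupOf_iff_le_normalizer hsub]
    refine le_normalizer_iff.2 fun k hk x hx => ?_
    refine ⟨A.mul_mem (A.mul_mem hk hx.1) (A.inv_mem hk), ?_⟩
    exact conj_mem_normalizer' (normalizer_le_normalizer_centralizer' W (hAW hk)) hx.2
  · rintro ⟨x, hxA, hxC⟩
    refine ⟨1, Subtype.ext ?_⟩
    show x ^ p ^ 1 = 1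
    rw [pow_one]
    have hm : x ^ p ∈ E ⊓ centralizer (V : Set G) := by
      refine ⟨E.pow_mem (a.le hxA) p, mem_centralizer_iff_conj.2 fun v hv => ?_⟩
      have hxv : ⁅x, v⁆ ∈ W := comm_mem_commutator_swap hxA hv
      refine comm_fixed_one ?_
      rw [comm_pow_fixed (mem_centralizer_iff_conj.1 hxC _ hxv)]
      exact hV.2 _ (commutator_le_of_le_normalizer (a.le.trans hEV) le_rfl hxv)
    rwa [hf, mem_bot] at hm
where
  normalizer_le_normalizer_centralizer' (W : Subgroup G) {k : G} (hk : k ∈ normalizer (W : Set G)) :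
      k ∈ normalizer ((centralizer (W : Set G) : Subgroup G) : Set G) := by
    have key : ∀ k ∈ normalizer (W : Set G), ∀ c ∈ centralizer (W : Set G),
        k * c * k⁻¹ ∈ centralizer (W : Set G) := fun k hk c hc =>
      mem_centralizer_iff.2 fun q hq => by
        have hq' : k⁻¹ * q * k ∈ W := by
          simpa using conj_mem_normalizer' (inv_mem hk) hq
        calc q * (k * c * k⁻¹) = k * ((k⁻¹ * q * k) * c) * k⁻¹ := by group
          _ = k * (c * (k⁻¹ * q * k)) * k⁻¹ := by rw [mem_centralizer_iff.1 hc _ hq']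
          _ = k * c * k⁻¹ * q := by group
    exact (le_normalizer_iff (H := normalizer (W : Set G))).2 key hk

theorem exists_conj_smaller {X : Subgroup G} (hAX : A ≤ X) (hne : A ≠ X) (hXE : X ≤ E)
    (hs : (A.subgroupOf E).IsSubnormal) {g : G} (hg : g ∈ X) :
    Nat.card ↥(A ⊔ cj A g) < Nat.card X := by
  have hsX : (A.subgroupOf X).IsSubnormal := by
    have := hs.comap (Subgroup.inclusion hXE)
    convert this using 1
    ext
    rfl
  obtain ⟨N, hN, hAN, hlt⟩ := hsX.exists_normal_and_le_and_lt_top_of_ne (fun h => hne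
    (le_antisymm hAX (subgroupOf_eq_top.1 h)))
  have hle : A ⊔ cj A g ≤ N.map X.subtype := by
    refine sup_le (fun x hx => ⟨⟨x, hAX hx⟩, hAN hx, rfl⟩) ?_
    rintro _ ⟨x, hx, rfl⟩
    exact ⟨⟨g, hg⟩ * ⟨x, hAX hx⟩ * ⟨g, hg⟩⁻¹, hN.conj_mem _ (hAN hx) _, rfl⟩
  refine (card_le_of_le hle).trans_lt ?_
  rw [Subgroup.card_map_of_injective X.subtype_injective]
  refine lt_of_le_of_ne N.card_le_card_group fun he => hlt.ne ?_
  exact eq_top_of_le_card _ he.ge

theorem card_cj (A : Subgroup G) (g : G) : Nat.card (cj A g) = Nat.card A := by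
  rw [cj, Subgroup.card_map_of_injective (MulAut.conj g).injective]

theorem irrSub_pair (hV : Cfsg.IsElementaryAbelian p V) (hEV : E ≤ normalizer (V : Set G))
    (hf : E ⊓ centralizer (V : Set G) = ⊥) (hOp : Cfsg.pCore p E = ⊥) :
    ∀ n : ℕ, ∀ A B : Subgroup G, IrrSub p V E A → IrrSub p V E B → ¬ ⁅V, A⁆ ≤ ⁅V, B⁆ →
      ¬ ⁅V, B⁆ ≤ ⁅V, A⁆ → Nat.card ↥(A ⊔ B) ≤ n →
      ⁅A, B⁆ = ⊥ ∧ A ⊓ B = ⊥ ∧ ⁅V, A⁆ ⊓ ⁅V, B⁆ = ⊥ := by
  intro n
  induction n using Nat.strong_induction_on with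
  | _ n ih =>
  intro A B a b hAB hBA hn
  set X := A ⊔ B with hX
  have hXE : X ≤ E := sup_le a.le b.le
  set WA := ⁅V, A⁆ with hWA
  set WB := ⁅V, B⁆ with hWB
  have hWAV : WA ≤ V := commutator_le_of_le_normalizer (a.le.trans hEV) le_rfl
  have hWBV : WB ≤ V := commutator_le_of_le_normalizer (b.le.trans hEV) le_rfl
  have hAn : A ≤ normalizer (WA : Set G) := normalizer_commutator_ge_right V A
  have hBn : B ≤ normalizer (WB : Set G) := normalizer_commutator_ge_right V B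
  by_cases hB : B ≤ normalizer (WA : Set G)
  · have hU : WA ⊓ WB = ⊥ := (b.irr _ inf_le_right ((le_inf hB hBn).trans
      inf_normalizer_le_normalizer_inf)).resolve_right fun h => hBA (h.ge.trans inf_le_left)
    have hc : ⁅WA, B⁆ = ⊥ := by
      rw [eq_bot_iff, ← hU]
      exact le_inf (le_normalizer_iff_commutator_le_left.1 hB) (commutator_mono hWAV le_rfl)
    refine ⟨?_, ?_, hU⟩
    · have := commutator_subnormal_le_pCore hV hEV hf a.le b.le a.sn b.sn hc
      rw [hOp, Subgroup.map_bot, le_bot_iff] at this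
      exact this
    · rw [eq_bot_iff, ← a.faithful hV hf hOp hEV]
      exact inf_le_inf_left A (le_centralizer_iff.1 (commutator_eq_bot_iff_le_centralizer.1 hc))
  exfalso
  obtain ⟨e, he, hne⟩ : ∃ e ∈ B, cj WA e ≠ WA := by
    by_contra hall
    push Not at hall
    exact hB (le_normalizer_iff.2 fun g hg w hw => (hall g hg).le (mem_cj.2 ⟨w, hw, rfl⟩))
  have heX : e ∈ X := mem_sup_right he
  have heE : e ∈ E := b.le he
  have hAX : A ≠ X := fun h => hne (cj_self (hAn (h.symm ▸ heX : e ∈ A)))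
  have a' := a.conj hEV heE
  have hW' : ⁅V, cj A e⁆ = cj WA e := cj_comm hEV heE A
  have hsmall := exists_conj_smaller le_sup_left hAX hXE a.sn heX
  obtain ⟨hcomm, -, hinf⟩ := ih _ (lt_of_lt_of_le hsmall hn) A (cj A e) a a'
    (fun h => hne (eq_of_le_of_card_ge (hW' ▸ h) (card_cj WA e).le).symm)
    (fun h => hne (eq_of_le_of_card_ge (hW' ▸ h) (card_cj WA e).ge)) le_rfl
  have hA'A : cj A e ≤ centralizer (A : Set G) :=
    le_centralizer_iff.1 (commutator_eq_bot_iff_le_centralizer.1 hcomm)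
  have hA'W : cj A e ≤ centralizer (WA : Set G) := by
    refine le_centralizer_iff.1 (commutator_eq_bot_iff_le_centralizer.1 ?_)
    rw [eq_bot_iff, ← hinf]
    exact le_inf (le_normalizer_iff_commutator_le_left.1 fun g hg =>
      comm_normalized (hEV (a'.le hg)) (centralizer_le_normalizer _ (hA'A hg)))
      (commutator_mono hWAV le_rfl)
  have hAW' : A ≤ centralizer ((⁅V, cj A e⁆ : Subgroup G) : Set G) := by
    refine le_centralizer_iff.1 (commutator_eq_bot_iff_le_centralizer.1 ?_)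
    rw [eq_bot_iff, ← hinf, inf_comm]
    exact le_inf (le_normalizer_iff_commutator_le_left.1 fun g hg =>
      comm_normalized (hEV (a.le hg)) (centralizer_le_normalizer _
        ((le_centralizer_iff.1 hA'A) hg)))
      (commutator_mono (commutator_le_of_le_normalizer (a'.le.trans hEV) le_rfl) le_rfl)
  have hBg : ∀ g ∈ X, cj B g ≤ normalizer (WB : Set G) := by
    intro g hg
    by_cases heq : cj WB g = WB
    · have := normalizer_commutator_ge_right V (cj B g)
      rwa [cj_comm hEV (hXE hg), heq] at this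
    · have hBX : B ≠ X := fun h => heq (cj_self (hBn (h.symm ▸ hg : g ∈ B)))
      have hs := exists_conj_smaller le_sup_right hBX hXE b.sn hg
      have b' := b.conj hEV (hXE hg)
      have hW'' : ⁅V, cj B g⁆ = cj WB g := cj_comm hEV (hXE hg) B
      obtain ⟨hc, -, -⟩ := ih _ (lt_of_lt_of_le hs hn) B (cj B g) b b'
        (fun h => heq (eq_of_le_of_card_ge (hW'' ▸ h) (card_cj WB g).le).symm)
        (fun h => heq (eq_of_le_of_card_ge (hW'' ▸ h) (card_cj WB g).ge)) le_rfl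
      exact fun x hx => comm_normalized (hEV (b'.le hx)) (centralizer_le_normalizer _
        ((le_centralizer_iff.1 (commutator_eq_bot_iff_le_centralizer.1 hc)) hx))
  have hd : ∀ h ∈ A, (e * h * e⁻¹) * h⁻¹ ∈ normalizer (WB : Set G) := by
    intro h hh
    rw [show e * h * e⁻¹ * h⁻¹ = e * (h * e⁻¹ * h⁻¹) by group]
    exact mul_mem (hBn he) (hBg h (mem_sup_left hh) (mem_cj.2 ⟨e⁻¹, B.inv_mem he, rfl⟩))
  have hdW : ∀ h ∈ A, ∀ w ∈ WA,
      ((e * h * e⁻¹) * h⁻¹) * w * ((e * h * e⁻¹) * h⁻¹)⁻¹ = h⁻¹ * w * h := by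
    intro h hh w hw
    have hw' : h⁻¹ * w * h ∈ WA := by
      simpa using conj_mem_normalizer' (hAn (A.inv_mem hh)) hw
    rw [show e * h * e⁻¹ * h⁻¹ * w * (e * h * e⁻¹ * h⁻¹)⁻¹ =
      (e * h * e⁻¹) * (h⁻¹ * w * h) * (e * h * e⁻¹)⁻¹ by group]
    exact mem_centralizer_iff_conj.1 (hA'W (mem_cj.2 ⟨h, hh, rfl⟩)) _ hw'
  have hU : WA ⊓ WB = ⊥ := by
    refine (a.irr _ inf_le_left (le_normalizer_iff.2 fun x hx u hu => ?_)).resolve_right
      fun h => hAB (h.ge.trans inf_le_right)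
    refine ⟨conj_mem_normalizer' (hAn hx) hu.1, ?_⟩
    have h1 := conj_mem_normalizer' (hd x⁻¹ (A.inv_mem hx)) hu.2
    rwa [hdW x⁻¹ (A.inv_mem hx) u hu.1, inv_inv] at h1
  have hsq : ∀ h ∈ A, h * h = 1 := by
    intro h hh
    refine mem_bot.1 ((a.faithful hV hf hOp hEV).le ⟨A.mul_mem hh hh,
      mem_centralizer_iff_conj.2 fun v hv => ?_⟩)
    set v' := h * v * h⁻¹ with hv'def
    set w := h⁻¹ * v * h with hwdef
    have hv' : v' ∈ WA := conj_mem_normalizer' (hAn hh) hv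
    have hw : w ∈ WA := by
      simpa [hwdef] using conj_mem_normalizer' (hAn (A.inv_mem hh)) hv
    set d := (e * h * e⁻¹) * h⁻¹ with hddef
    have hx : e * v * e⁻¹ * v⁻¹ ∈ WB := comm_mem_commutator_swap he (hWAV hv)
    have hx' : e * v' * e⁻¹ * v'⁻¹ ∈ WB := comm_mem_commutator_swap he (hWAV hv')
    have h2 : d * (e * v * e⁻¹) * d⁻¹ = e * v' * e⁻¹ := by
      have hm : e * v * e⁻¹ ∈ ⁅V, cj A e⁆ := hW' ▸ mem_cj.2 ⟨v, hv, rfl⟩
      calc d * (e * v * e⁻¹) * d⁻¹
          = (e * h * e⁻¹) * (h⁻¹ * (e * v * e⁻¹) * h⁻¹⁻¹) * (e * h * e⁻¹)⁻¹ := by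
            rw [hddef]; group
        _ = (e * h * e⁻¹) * (e * v * e⁻¹) * (e * h * e⁻¹)⁻¹ := by
            rw [mem_centralizer_iff_conj.1 (hAW' (A.inv_mem hh)) _ hm]
        _ = e * v' * e⁻¹ := by rw [hv'def]; group
    have h3 : e * v' * e⁻¹ * w⁻¹ ∈ WB := by
      have := conj_mem_normalizer' (hd h hh) hx
      rw [show d * (e * v * e⁻¹ * v⁻¹) * d⁻¹ = (d * (e * v * e⁻¹) * d⁻¹) * (d * v * d⁻¹)⁻¹ by group,
        h2] at this
      rwa [show d * v * d⁻¹ = w from hdW h hh v hv] at this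
    have h4 : v' * w⁻¹ = 1 := mem_bot.1 (hU.le ⟨WA.mul_mem hv' (WA.inv_mem hw), by
      rw [show v' * w⁻¹ = (e * v' * e⁻¹ * v'⁻¹)⁻¹ * (e * v' * e⁻¹ * w⁻¹) by group]
      exact WB.mul_mem (WB.inv_mem hx') h3⟩)
    have h5 : v' = w := mul_inv_eq_one.1 h4
    calc h * h * v * (h * h)⁻¹ = h * (h * v * h⁻¹) * h⁻¹ := by group
      _ = h * (h⁻¹ * v * h) * h⁻¹ := by rw [← hv'def, h5]
      _ = v := by group
  have hinv : ∀ h ∈ A, h ≠ 1 → ∀ v ∈ WA, h * v * h⁻¹ = v⁻¹ := by
    intro h hh hh1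
    have hcomm' : ∀ x ∈ A, x * h = h * x := fun x hx => by
      have e1 := hsq x hx
      have e2 := hsq h hh
      have e3 := hsq (x * h) (A.mul_mem hx hh)
      calc x * h = (x * h)⁻¹ := eq_inv_of_mul_eq_one_left e3
        _ = h⁻¹ * x⁻¹ := by group
        _ = h * x := by rw [← eq_inv_of_mul_eq_one_left e2, ← eq_inv_of_mul_eq_one_left e1]
    have hF : WA ⊓ centralizer ({h} : Set G) = ⊥ := by
      refine (a.irr _ inf_le_left (le_normalizer_iff.2 fun x hx u hu =>
        ⟨conj_mem_normalizer' (hAn hx) hu.1, mem_centralizer_singleton_iff.2 ?_⟩)).resolve_right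
          fun heq => hh1 (mem_bot.1 ((a.faithful hV hf hOp hEV).le ⟨hh,
            mem_centralizer_iff.2 fun u hu => ?_⟩))
      · have hu2 : Commute u h := mem_centralizer_singleton_iff.1 hu.2
        have hxh : Commute x h := hcomm' x hx
        exact ((hxh.mul_left hu2).mul_left hxh.inv_left).eq
      · exact mem_centralizer_singleton_iff.1 (heq.ge hu).2
    intro v hv
    have hv' : h * v * h⁻¹ ∈ WA := conj_mem_normalizer' (hAn hh) hv
    have hfix : h * (v * (h * v * h⁻¹)) * h⁻¹ = v * (h * v * h⁻¹) := by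
      calc h * (v * (h * v * h⁻¹)) * h⁻¹
          = (h * v * h⁻¹) * ((h * h) * v * (h * h)⁻¹) := by group
        _ = (h * v * h⁻¹) * v := by rw [hsq h hh]; group
        _ = v * (h * v * h⁻¹) := comm_of_mem hV.1 (hWAV hv') (hWAV hv)
    have h1 : v * (h * v * h⁻¹) ∈ WA ⊓ centralizer ({h} : Set G) :=
      ⟨WA.mul_mem hv hv', mem_centralizer_singleton_iff.2 (mul_inv_eq_iff_eq_mul.1 hfix).symm⟩
    rw [hF, mem_bot] at h1
    exact eq_inv_of_mul_eq_one_right h1
  have hA1 : A ≠ ⊥ := fun h => by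
    have := a.big
    rw [h, card_bot] at this
    omega
  obtain ⟨⟨h0, hh0⟩, hh01⟩ := (Subgroup.ne_bot_iff_exists_ne_one).1 hA1
  have h01 : h0 ≠ 1 := fun h => hh01 (Subtype.ext h)
  have hall : ∀ h ∈ A, h = 1 ∨ h = h0 := fun h hh => by
    by_cases h1 : h = 1
    · exact Or.inl h1
    refine Or.inr ?_
    have : h0 * h = 1 := mem_bot.1 ((a.faithful hV hf hOp hEV).le ⟨A.mul_mem hh0 hh,
      mem_centralizer_iff_conj.2 fun v hv => by
        rw [show h0 * h * v * (h0 * h)⁻¹ = h0 * (h * v * h⁻¹) * h0⁻¹ by group,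
          hinv h hh h1 v hv, hinv h0 hh0 h01 _ (WA.inv_mem hv), inv_inv]⟩)
    rw [eq_inv_of_mul_eq_one_right this]
    exact (eq_inv_of_mul_eq_one_left (hsq h0 hh0)).symm
  have hle : Nat.card A ≤ 2 := by
    have hsub : (A : Set G) ⊆ {1, h0} := fun h hh => by simpa using hall h hh
    calc Nat.card A = (A : Set G).ncard := Nat.card_coe_set_eq (A : Set G)
      _ ≤ ({1, h0} : Set G).ncard := Set.ncard_le_ncard hsub (Set.toFinite _)
      _ ≤ 2 := (Set.ncard_insert_le _ _).trans (by rw [Set.ncard_singleton])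
  exact absurd a.big (by omega)

end CfsgLib.PLocal
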