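/-
The relations in the long root parabolic of `³D₄(q)` needed for the degree bound of `TrialityDegree`.
-/
import Cfsg.Agent.Lib.Lie.Twisted.D4Perfect
import Cfsg.Agent.Lib.PLocal.TrialityDegree

set_option autoImplicit false
set_option linter.unusedSectionVars false

namespace CfsgLib.PLocal.Triality

open Cfsg.Lie CfsgLib.Lie.Chev CfsgLib.Lie.Chev.TwGroups

variable {K : Type*} [Field K]

/-- root elements -/
local notation "X" => xG certD4 K

theorem quiet : (chkNoTerms chevD4 23 14 = true ∧ chkNoTerms chevD4 14 21 = true ∧ chkNoTerms chevD4 14 17 = true ∧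
      chkNoTerms chevD4 14 20 = true) ∧
    (chkNoTerms chevD4 12 15 = true ∧ chkNoTerms chevD4 13 16 = true ∧ chkNoTerms chevD4 13 17 = true ∧
      chkNoTerms chevD4 12 22 = true ∧ chkNoTerms chevD4 13 22 = true ∧ chkNoTerms chevD4 18 22 = true) ∧
    (chkNoTerms chevD4 12 17 = true ∧ chkNoTerms chevD4 12 20 = true ∧ chkNoTerms chevD4 13 21 = true ∧
      chkNoTerms chevD4 18 21 = true ∧ chkNoTerms chevD4 18 19 = true ∧ chkNoTerms chevD4 18 20 = true) := by
  decide +kernel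

theorem terms :
    (chkOneTerm chevD4 12 14 15 1 = true ∧ chkOneTerm chevD4 13 14 16 1 = true ∧
      chkOneTerm chevD4 18 14 19 (-1) = true ∧ chkOneTerm chevD4 13 15 17 1 = true) ∧
    (chkOneTerm chevD4 18 16 21 (-1) = true ∧ chkOneTerm chevD4 18 15 20 (-1) = true ∧
      chkOneTerm chevD4 18 17 22 (-1) = true ∧ chkOneTerm chevD4 12 21 22 1 = true ∧
      chkOneTerm chevD4 13 20 22 1 = true) ∧
    (chkOneTerm chevD4 15 21 23 (-1) = true ∧ chkOneTerm chevD4 16 20 23 (-1) = true ∧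
      chkOneTerm chevD4 19 17 23 (-1) = true ∧ chkOneTerm chevD4 22 14 23 (-1) = true) := by
  decide +kernel

theorem cartanVals :
    ([14, 22, 23, 19, 16, 15, 21, 17, 20].map fun r =>
      (chevD4.cartan 0 r, chevD4.cartan 2 r, chevD4.cartan 3 r)) =
      [(-1, -1, -1), (1, 1, 1), (0, 0, 0), (1, -1, -1), (-1, 1, -1), (-1, -1, 1), (1, 1, -1), (-1, 1, 1),
        (1, -1, 1)] ∧ chevD4.cartan 1 23 = 1 := by decide +kernel

theorem reflVals :
    ([(3, 14), (2, 15), (0, 17), (3, 22), (2, 21), (0, 19), (3, 23), (2, 23), (0, 23), (1, 22)].map fun x =>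
      (auxD4.w x.1 x.2, auxD4.eta x.1 x.2)) =
      [(15, 1), (17, 1), (22, -1), (21, -1), (19, -1), (14, 1), (23, 1), (23, 1), (23, 1), (23, 1)] := by
  decide +kernel

theorem comm_lt {r : ℕ} (hr : r ∈ [14, 22, 23, 19, 16, 15, 21, 17, 20, 18, 13, 12]) : r < chevD4.nroots := by
  revert r; decide +kernel

theorem X_self (r : ℕ) (a b : K) : Commute (X r a) (X r b) := by
  show _ * _ = _ * _
  rw [xG_pow_mul, xG_pow_mul, add_comm]

theorem conj0 {r s : ℕ} (h : chkNoTerms chevD4 r s = true) (t u : K) : X r t * X s u * (X r t)⁻¹ = X s u := by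
  rw [(xG_commute certD4 h t u).eq, mul_inv_cancel_right]

theorem conj1 {r s k : ℕ} {N : ℤ} (h : chkOneTerm chevD4 r s k N = true) (hk : chkNoTerms chevD4 r k = true)
    (t u : K) : X r t * X s u * (X r t)⁻¹ = X s u * X k ((N : K) * t * u) := by
  rw [mul_inv_eq_iff_eq_mul, mul_assoc _ (X k _), ← (xG_commute certD4 hk t _).eq, ← mul_assoc,
    xG_swap_one certD4 h t u, mul_assoc _ (X k _), xG_pow_mul,
    neg_add_cancel, show X k (0 : K) = 1 from (chevRel certD4 K).xe_zero _, mul_one]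

theorem central23 {r : ℕ} (hr : r ∈ [12, 13, 15, 16, 17, 18, 19, 20, 21, 22, 23, 14]) (a b : K) :
    Commute (X 23 a) (X r b) := by
  simp only [List.mem_cons, List.not_mem_nil, or_false] at hr
  rcases hr with rfl | rfl | rfl | rfl | rfl | rfl | rfl | rfl | rfl | rfl | rfl | rfl
  all_goals first
    | exact X_self _ _ _
    | exact xG_commute certD4 centD4.1.2 a b
    | exact xG_commute certD4 quiet.1.1 a b
    | exact xG_commute certD4 (centD4.2 _ (by decide)).2 a b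

theorem central22 {r : ℕ} (hr : r ∈ [12, 13, 15, 16, 17, 18, 19, 20, 21, 22, 23]) (a b : K) :
    Commute (X 22 a) (X r b) := by
  simp only [List.mem_cons, List.not_mem_nil, or_false] at hr
  rcases hr with rfl | rfl | rfl | rfl | rfl | rfl | rfl | rfl | rfl | rfl | rfl
  all_goals first
    | exact X_self _ _ _
    | exact xG_commute certD4 centD4.1.1 a b
    | exact xG_commute certD4 (centD4.2 _ (by decide)).1 a b

/-- additivity of products of three commuting root elements -/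
theorem tri_add {a b c : ℕ} (hab : chkNoTerms chevD4 a b = true) (hac : chkNoTerms chevD4 a c = true)
    (hbc : chkNoTerms chevD4 b c = true) (s₁ s₂ s₃ t₁ t₂ t₃ : K) :
    X a s₁ * X b s₂ * X c s₃ * (X a t₁ * X b t₂ * X c t₃) = X a (s₁ + t₁) * X b (s₂ + t₂) * X c (s₃ + t₃) := by
  rw [← xG_pow_mul, ← xG_pow_mul, ← xG_pow_mul,
    show X a s₁ * X b s₂ * X c s₃ * (X a t₁ * X b t₂ * X c t₃) =
      X a s₁ * X b s₂ * (X c s₃ * (X a t₁ * X b t₂)) * X c t₃ by group,
    ← ((xG_commute certD4 hac t₁ s₃).mul_left (xG_commute certD4 hbc t₂ s₃)).eq,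
    show X a s₁ * X b s₂ * (X a t₁ * X b t₂ * X c s₃) * X c t₃ =
      X a s₁ * (X b s₂ * X a t₁) * X b t₂ * X c s₃ * X c t₃ by group,
    ← (xG_commute certD4 hab t₁ s₂).eq]
  group

theorem abs_bm {M : Type*} [Group M] {m₁ m₂ m₃ b₁ b₂ b₃ r₁ r₂ r₃ : M} (h1 : m₂ * b₁ = b₁ * m₂ * r₁)
    (h2 : m₃ * b₂ = b₂ * m₃ * r₂) (h3 : m₁ * b₃ = b₃ * m₁ * r₃) (c11 : Commute m₁ b₁) (c31 : Commute m₃ b₁)
    (c12 : Commute m₁ b₂) (c22 : Commute m₂ b₂) (c23 : Commute m₂ b₃) (c33 : Commute m₃ b₃)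
    (p1 : Commute r₁ m₃) (p1b : Commute r₁ b₂) (p1b' : Commute r₁ b₃) (p2b : Commute r₂ b₃) (p3 : Commute r₃ m₂)
    (p3' : Commute r₃ m₃) :
    m₁ * m₂ * m₃ * (b₁ * b₂ * b₃) = b₁ * b₂ * b₃ * (m₁ * m₂ * m₃) * (r₃ * r₂ * r₁) :=
  calc m₁ * m₂ * m₃ * (b₁ * b₂ * b₃) = m₁ * m₂ * (m₃ * b₁) * b₂ * b₃ := by group
    _ = m₁ * (m₂ * b₁) * m₃ * b₂ * b₃ := by rw [c31.eq]; group
    _ = (m₁ * b₁) * m₂ * (r₁ * m₃) * b₂ * b₃ := by rw [h1]; group
    _ = b₁ * m₁ * m₂ * m₃ * (r₁ * b₂) * b₃ := by rw [c11.eq, p1.eq]; group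
    _ = b₁ * m₁ * m₂ * (m₃ * b₂) * (r₁ * b₃) := by rw [p1b.eq]; group
    _ = b₁ * m₁ * (m₂ * b₂) * m₃ * (r₂ * b₃) * r₁ := by rw [h2, p1b'.eq]; group
    _ = b₁ * (m₁ * b₂) * m₂ * (m₃ * b₃) * r₂ * r₁ := by rw [c22.eq, p2b.eq]; group
    _ = b₁ * b₂ * m₁ * (m₂ * b₃) * m₃ * r₂ * r₁ := by rw [c12.eq, c33.eq]; group
    _ = b₁ * b₂ * (m₁ * b₃) * m₂ * m₃ * r₂ * r₁ := by rw [c23.eq]; group
    _ = b₁ * b₂ * b₃ * m₁ * (r₃ * m₂) * m₃ * r₂ * r₁ := by rw [h3]; group
    _ = b₁ * b₂ * b₃ * m₁ * m₂ * (r₃ * m₃) * r₂ * r₁ := by rw [p3.eq]; group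
    _ = _ := by rw [p3'.eq]; group

theorem abs_Am {M : Type*} [Group M] {m₁ m₂ m₃ y₁ y₂ y₃ : M} (c12 : Commute y₁ m₂) (c13 : Commute y₁ m₃)
    (c23 : Commute y₂ m₃) : m₁ * y₁ * (m₂ * y₂) * (m₃ * y₃) = m₁ * m₂ * m₃ * (y₁ * y₂ * y₃) :=
  calc m₁ * y₁ * (m₂ * y₂) * (m₃ * y₃) = m₁ * (y₁ * m₂) * (y₂ * m₃) * y₃ := by group
    _ = m₁ * m₂ * (y₁ * m₃) * y₂ * y₃ := by rw [c12.eq, c23.eq]; group
    _ = _ := by rw [c13.eq]; group

theorem abs_Ax {M : Type*} [Group M] {e14 e19 e16 e21 e15 e20 e17 e22 z : M} (h : e21 * e15 = e15 * e21 * z)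
    (p20 : Commute z e20) (p17 : Commute z e17) (p22 : Commute z e22) (c : Commute e20 e17) :
    e14 * e19 * (e16 * e21) * (e15 * e20 * (e17 * e22)) =
      e14 * (e19 * e16 * e15) * (e21 * e17 * e20) * e22 * z :=
  calc e14 * e19 * (e16 * e21) * (e15 * e20 * (e17 * e22)) = e14 * e19 * e16 * (e21 * e15) * e20 * e17 * e22 := by
        group
    _ = e14 * e19 * e16 * e15 * e21 * (z * e20) * e17 * e22 := by rw [h]; group
    _ = e14 * e19 * e16 * e15 * e21 * e20 * (z * e17) * e22 := by rw [p20.eq]; group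
    _ = e14 * e19 * e16 * e15 * e21 * (e20 * e17) * (z * e22) := by rw [p17.eq]; group
    _ = _ := by rw [c.eq, p22.eq]; group

theorem cj_mul {M : Type*} [Group M] (g a b : M) : g * (a * b) * g⁻¹ = g * a * g⁻¹ * (g * b * g⁻¹) := by group

theorem cj_comp {M : Type*} [Group M] (a b c x : M) :
    a * b * c * x * (a * b * c)⁻¹ = a * (b * (c * x * c⁻¹) * b⁻¹) * a⁻¹ := by group

theorem conj_xA (t : K) (t₁ t₂ : K) (x : ↥(chevD4.group K)) :
    X 18 t * X 13 t₁ * X 12 t₂ * x * (X 18 t * X 13 t₁ * X 12 t₂)⁻¹ =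
      X 18 t * (X 13 t₁ * (X 12 t₂ * x * (X 12 t₂)⁻¹) * (X 13 t₁)⁻¹) * (X 18 t)⁻¹ := cj_comp _ _ _ _

variable [Fintype K] {q : ℕ} (hq : IsPrimePow q) (hK : Fintype.card K = q ^ 3)

/-- the subfield with `q` elements -/
noncomputable abbrev FF : Subfield K := (frD4 hq hK).eqLocusField (RingHom.id K)

theorem FF_pow (a : FF hq hK) : (a : K) ^ q = (a : K) := by
  have h : frD4 hq hK (a : K) = (a : K) := a.2
  rwa [frD4_apply] at h

theorem FF_card : Nat.card (FF hq hK) = q := by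
  refine Eq.trans (Nat.card_congr (Equiv.subtypeEquivRight fun x => ?_)) (card_fixed hq.one_lt three_pos' hK)
  show frD4 hq hK x = x ↔ _
  rw [frD4_apply]

theorem FF_finrank : Module.finrank (FF hq hK) K = 3 := by
  have h := Module.natCard_eq_pow_finrank (K := FF hq hK) (V := K)
  rw [Nat.card_eq_fintype_card, hK, FF_card] at h
  exact (Nat.pow_right_injective hq.two_le h).symm

include hq hK in
theorem q_add (a b : K) : (a + b) ^ q = a ^ q + b ^ q := by
  simp only [← frD4_apply hq hK, map_add]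

theorem trace_val (x : K) : ((Algebra.trace (FF hq hK) K x : FF hq hK) : K) = x + x ^ q + (x ^ q) ^ q := by
  show algebraMap (FF hq hK) K _ = _
  rw [FiniteField.algebraMap_trace_eq_sum_pow, FF_finrank hq hK, FF_card hq hK, Finset.sum_range_succ,
    Finset.sum_range_succ, Finset.sum_range_one, pow_zero, pow_one, pow_one, ← pow_mul, sq]

theorem norm_val (x : K) : ((Algebra.norm (FF hq hK) x : FF hq hK) : K) = x * x ^ q * (x ^ q) ^ q := by
  show algebraMap (FF hq hK) K _ = _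
  rw [FiniteField.algebraMap_norm_eq_prod_pow, FF_finrank hq hK, FF_card hq hK, Finset.prod_range_succ,
    Finset.prod_range_succ, Finset.prod_range_one, pow_zero, pow_one, pow_one, ← pow_mul, sq]

include hq hK in
theorem exists_scale : ∃ t : K, t * t ^ q * (t ^ q) ^ q = 1 ∧ t * t ≠ 1 := by
  obtain ⟨x, hx, h⟩ : ∃ x : K, x ≠ 0 ∧ (x * x) ^ q ≠ x * x := by
    by_contra hne
    push Not at hne
    have hsq : ∀ x : K, (x * x) ^ q = x * x := fun x => by
      by_cases h : x = 0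
      · rw [h, mul_zero, zero_pow hq.pos.ne']
      · exact hne x h
    have hall : ∀ x : K, x ^ q = x := by
      intro x
      by_cases h2 : (2 : K) = 0
      · obtain ⟨r, rfl⟩ := FiniteField.isSquare_of_char_two
          ((ringChar.eq_iff).2 (CharTwo.of_one_ne_zero_of_two_eq_zero one_ne_zero h2)) x
        exact hsq r
      · have h1 := hsq (x + 1)
        rw [show (x + 1) * (x + 1) = x * x + (x + x) + 1 by ring, q_add hq hK, q_add hq hK, q_add hq hK, hsq x,
          one_pow] at h1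
        exact mul_left_cancel₀ h2 (by linear_combination h1)
    have h3 := card_fixed hq.one_lt three_pos' hK
    rw [Nat.card_congr (Equiv.subtypeUnivEquiv hall), Nat.card_eq_fintype_card, hK] at h3
    have := hq.two_le
    nlinarith [Nat.mul_le_mul this this]
  have hxq : x ^ q ≠ 0 := pow_ne_zero _ hx
  refine ⟨x ^ q / x, ?_, fun e => h ?_⟩
  · rw [div_pow, div_pow, pow_qqq hK]
    field_simp
  · rw [div_mul_div_comm, div_eq_one_iff_eq (mul_ne_zero hx hx)] at e
    rwa [mul_pow]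

theorem P1_xA (t : K) : xAD4 q t ∈ (twD4 hq hK).P1 := (classes_mem_P1 hq hK t).1

theorem P1_he14 {t : K} (ht : t ^ q = t) : (chevRel certD4 K).he 14 t ∈ (twD4 hq hK).P1 := he14_mem hq hK ht

/-- the torus element of the short simple root -/
def hA3 (q : ℕ) (t : K) : ↥(chevD4.group K) :=
  (chevRel certD4 K).he 18 t * ((chevRel certD4 K).he 13 (t ^ q) * (chevRel certD4 K).he 12 ((t ^ q) ^ q))

/-- the reflection of the short simple root -/
def nA3 : ↥(chevD4.group K) :=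
  (chevRel certD4 K).ne 18 1 * ((chevRel certD4 K).ne 13 1 * (chevRel certD4 K).ne 12 1)

include hq hK in
theorem nA3_mem : nA3 (K := K) ∈ (twD4 hq hK).P1 := by
  obtain ⟨⟨c1, c2, c3⟩, ⟨e1, e2, e3⟩, ⟨f1, f1'⟩, ⟨f2, f2'⟩, ⟨f3, f3'⟩⟩ := commD4
  obtain ⟨⟨n18, n13, n12, -⟩, -⟩ := negD4
  have sy : ∀ {r s : ℕ}, chkNoTerms chevD4 r s = true → ∀ u v : K,
      Commute (xG certD4 K r u) (xG certD4 K s v) := fun h u v => xG_commute certD4 h u v
  have h13 : chkNoTerms chevD4 13 (chevD4.neg 12) = true := by rw [n12]; exact f3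
  have h13' : chkNoTerms chevD4 (chevD4.neg 13) 12 = true := by rw [n13]; exact f3'
  show nA3 (K := K) ∈ (twistedD4 K q).subgroupOf (chevD4.group K)
  rw [nA3, ← ne_pair certD4 c3 h13 h13', n13, n12]
  show xG certD4 K 18 1 * xG certD4 K (chevD4.neg 18) (-(1 : K)⁻¹) * xG certD4 K 18 1 * _ ∈ _
  rw [n18, ← sandwich_split ((sy f1' _ _).mul_right (sy f2' _ _)).symm ((sy c1 _ _).mul_right (sy c2 _ _)).symm
    ((sy f1 _ _).mul_right (sy f2 _ _)).symm]
  refine mul_mem (mul_mem ?_ ?_) ?_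
  · have h := wordD4_triple_mem (K := K) (q := q) (a := 18) (b := 13) (c := 12) (by decide) 1
    rwa [one_pow, one_pow] at h
  · have h := wordD4_triple_mem (K := K) (q := q) (a := 5) (b := 10) (c := 11) (by decide) (-(1 : K)⁻¹)
    rwa [neg_pow_D4 hq hK, inv_pow, one_pow, neg_pow_D4 hq hK, inv_pow, one_pow] at h
  · have h := wordD4_triple_mem (K := K) (q := q) (a := 18) (b := 13) (c := 12) (by decide) 1
    rwa [one_pow, one_pow] at h

omit [Fintype K] in
theorem ne_cj (i : Fin chevD4.rank) {r k : ℕ} {e : ℤ} (hr : r < chevD4.nroots)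
    (h : (auxD4.w i r, auxD4.eta i r) = (k, e)) (u : K) :
    (chevRel certD4 K).ne (chevD4.simple i) 1 * X r u * ((chevRel certD4 K).ne (chevD4.simple i) 1)⁻¹ =
      X k ((e : K) * u) := by
  simp only [Prod.mk.injEq] at h
  obtain ⟨h1, h2⟩ := h
  have := ((chevRel certD4 K).isMon_ne_simple i (one_ne_zero' K) ⟨r, hr⟩).2.2.2 u
  simp only [one_zpow, mul_one, (chevRel certD4 K).wperm_apply] at this
  subst h1 h2
  exact this

omit [Fintype K] in
theorem he_cj (i : Fin chevD4.rank) {r : ℕ} {c : ℤ} (hr : r < chevD4.nroots) (h : chevD4.cartan i r = c) {t : K}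
    (ht : t ≠ 0) (u : K) :
    (chevRel certD4 K).he (chevD4.simple i) t * X r u * ((chevRel certD4 K).he (chevD4.simple i) t)⁻¹ =
      X r (t ^ c * u) := by
  subst h
  exact ((chevRel certD4 K).isMon_he_simple i ht ⟨r, hr⟩).2.2.2 u

omit [Fintype K] in
theorem hA3_cj {q r : ℕ} {c₀ c₂ c₃ : ℤ} (hr : r < chevD4.nroots)
    (h : (chevD4.cartan 0 r, chevD4.cartan 2 r, chevD4.cartan 3 r) = (c₀, c₂, c₃)) {t : K} (ht : t ≠ 0) (u : K) :
    hA3 q t * X r u * (hA3 q t)⁻¹ = X r (t ^ c₀ * (t ^ q) ^ c₂ * ((t ^ q) ^ q) ^ c₃ * u) := by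
  simp only [Prod.mk.injEq] at h
  obtain ⟨h0, h2, h3⟩ := h
  obtain ⟨-, -, -, -, ⟨s0, -, s2, s3⟩, -⟩ := negD4
  have hn : 4 = chevD4.rank := by decide +kernel
  have e0 := he_cj (K := K) ⟨0, hn ▸ by norm_num⟩ hr h0 ht
  have e2 := he_cj (K := K) ⟨2, hn ▸ by norm_num⟩ hr h2 (pow_ne_zero q ht)
  have e3 := he_cj (K := K) ⟨3, hn ▸ by norm_num⟩ hr h3 (pow_ne_zero q (pow_ne_zero q ht))
  simp only [s0, s2, s3] at e0 e2 e3
  rw [hA3, ← mul_assoc, cj_comp, e3, e2, e0, ← mul_assoc, ← mul_assoc]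

omit [Fintype K] in
theorem nA3_cj {r r₁ r₂ r₃ : ℕ} {d₁ d₂ d₃ : ℤ} (hr : r < chevD4.nroots) (hr₁ : r₁ < chevD4.nroots)
    (hr₂ : r₂ < chevD4.nroots) (h₁ : (auxD4.w 3 r, auxD4.eta 3 r) = (r₁, d₁))
    (h₂ : (auxD4.w 2 r₁, auxD4.eta 2 r₁) = (r₂, d₂)) (h₃ : (auxD4.w 0 r₂, auxD4.eta 0 r₂) = (r₃, d₃)) (u : K) :
    nA3 * X r u * (nA3)⁻¹ = X r₃ ((d₃ * d₂ * d₁ : ℤ) * u) := by
  obtain ⟨-, -, -, -, ⟨s0, -, s2, s3⟩, -⟩ := negD4
  have hn : 4 = chevD4.rank := by decide +kernel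
  have e0 := ne_cj (K := K) ⟨0, hn ▸ by norm_num⟩ hr₂ h₃
  have e2 := ne_cj (K := K) ⟨2, hn ▸ by norm_num⟩ hr₁ h₂
  have e3 := ne_cj (K := K) ⟨3, hn ▸ by norm_num⟩ hr h₁
  simp only [s0, s2, s3] at e0 e2 e3
  rw [nA3, ← mul_assoc, cj_comp, e3, e2, e0]
  congr 1
  push_cast
  ring

/-- the elements of the long root subgroup `r` of the group -/
noncomputable def rootChar (r : ℕ) (h : ∀ t : K, t ^ q = t → X r t ∈ (twD4 hq hK).P1) :
    AddChar (FF hq hK) ↥(twD4 hq hK).P1 where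
  toFun a := ⟨X r (a : K), h a (FF_pow hq hK a)⟩
  map_zero_eq_one' := Subtype.ext ((chevRel certD4 K).xe_zero _)
  map_add_eq_mul' a b := Subtype.ext (xG_pow_mul certD4 r (a : K) (b : K)).symm

/-- the class of `α + β` as a homomorphism -/
noncomputable def bChar : AddChar K ↥(twD4 hq hK).P1 where
  toFun u := ⟨xBD4 q u, (classes_mem_P1 hq hK u).2.1⟩
  map_zero_eq_one' := Subtype.ext (by
    show xBD4 q (0 : K) = 1
    simp [xBD4, zero_pow hq.pos.ne', show ∀ r, X r (0 : K) = 1 from fun r => (chevRel certD4 K).xe_zero r])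
  map_add_eq_mul' u v := Subtype.ext (by
    show xBD4 q (u + v) = xBD4 q u * xBD4 q v
    obtain ⟨-, ⟨q1, q2, q3⟩, -⟩ := quietD4
    simp only [xBD4]
    rw [tri_add q1 q2 q3, q_add hq hK, q_add hq hK, neg_add, neg_add])

/-- the class of `2α + β` as a homomorphism -/
noncomputable def mChar : AddChar K ↥(twD4 hq hK).P1 where
  toFun s := ⟨xMD4 q s, (classes_mem_P1 hq hK s).2.2⟩
  map_zero_eq_one' := Subtype.ext (by
    show xMD4 q (0 : K) = 1
    simp [xMD4, zero_pow hq.pos.ne', show ∀ r, X r (0 : K) = 1 from fun r => (chevRel certD4 K).xe_zero r])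
  map_add_eq_mul' u v := Subtype.ext (by
    show xMD4 q (u + v) = xMD4 q u * xMD4 q v
    obtain ⟨-, -, -, ⟨p1, p2, p3⟩⟩ := quietD4
    simp only [xMD4]
    have h1 : ∀ x y : K, Commute (X 21 x) (X 17 y) := fun x y => (xG_commute certD4 p2 y x).symm
    have h2 : ∀ x y : K, Commute (X 21 x) (X 20 y) := fun x y => (xG_commute certD4 p3 y x).symm
    have h3 : ∀ x y : K, Commute (X 17 x) (X 20 y) := fun x y => xG_commute certD4 p1 x y
    rw [q_add hq hK, q_add hq hK, neg_add, ← xG_pow_mul, ← xG_pow_mul, ← xG_pow_mul]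
    simp only [mul_assoc]
    rw [(h1 v (-(u ^ q))).left_comm, (h3 (-(v ^ q)) ((u ^ q) ^ q)).left_comm, (h2 v ((u ^ q) ^ q)).left_comm])

theorem mem22 (t : K) (ht : t ^ q = t) : X 22 t ∈ (twD4 hq hK).P1 :=
  (twD4 hq hK).Cm_le ((fixed_root_D4 hq hK).1 t ht)

theorem mem23 (t : K) (ht : t ^ q = t) : X 23 t ∈ (twD4 hq hK).P1 :=
  (twD4 hq hK).Cm_le ((fixed_root_D4 hq hK).2.1 t ht)

theorem mem14 (t : K) (ht : t ^ q = t) : X 14 t ∈ (twD4 hq hK).P1 :=
  (twD4 hq hK).Cm_le ((fixed_root_D4 hq hK).2.2 t ht)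

theorem rootChar_val (r : ℕ) (h) (a : FF hq hK) :
    ((rootChar hq hK r h a : ↥(twD4 hq hK).P1) : ↥(chevD4.group K)) = X r (a : K) := rfl

theorem bChar_val (u : K) : ((bChar hq hK u : ↥(twD4 hq hK).P1) : ↥(chevD4.group K)) = xBD4 q u := rfl

theorem mChar_val (u : K) : ((mChar hq hK u : ↥(twD4 hq hK).P1) : ↥(chevD4.group K)) = xMD4 q u := rfl

theorem comm_of (x y : ↥(twD4 hq hK).P1) (h : Commute (x : ↥(chevD4.group K)) y) : Commute x y :=
  Subtype.ext h.eq

/-- the relations of `³D₄(q)` -/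
noncomputable def triData : Data (FF hq hK) K ↥(twD4 hq hK).P1 where
  z := rootChar hq hK 23 (mem23 hq hK)
  y := rootChar hq hK 22 (mem22 hq hK)
  x := rootChar hq hK 14 (mem14 hq hK)
  m := mChar hq hK
  b := bChar hq hK
  A t := ⟨xAD4 q t, P1_xA hq hK t⟩
  S t s := Algebra.trace (FF hq hK) K (t * s ^ q)
  N t := Algebra.norm (FF hq hK) t
  hzy _ _ := comm_of hq hK _ _ (central23 (by decide) _ _)
  hzx _ _ := comm_of hq hK _ _ (central23 (by decide) _ _)
  hzm _ _ := comm_of hq hK _ _ (((central23 (by decide) _ _).mul_right (central23 (by decide) _ _)).mul_right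
    (central23 (by decide) _ _))
  hzb _ _ := comm_of hq hK _ _ (((central23 (by decide) _ _).mul_right (central23 (by decide) _ _)).mul_right
    (central23 (by decide) _ _))
  hzA _ _ := comm_of hq hK _ _ (((central23 (by decide) _ _).mul_right (central23 (by decide) _ _)).mul_right
    (central23 (by decide) _ _))
  hyA _ _ := comm_of hq hK _ _ (((central22 (by decide) _ _).mul_right (central22 (by decide) _ _)).mul_right
    (central22 (by decide) _ _))
  hxm _ _ := by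
    obtain ⟨⟨-, c1, c2, c3⟩, -⟩ := quiet
    exact comm_of hq hK _ _
      (((xG_commute certD4 c1 _ _).mul_right (xG_commute certD4 c2 _ _)).mul_right (xG_commute certD4 c3 _ _))
  hym _ _ := comm_of hq hK _ _ (((central22 (by decide) _ _).mul_right (central22 (by decide) _ _)).mul_right
    (central22 (by decide) _ _))
  hby _ _ := comm_of hq hK _ _ (((central22 (by decide) _ _).mul_right (central22 (by decide) _ _)).mul_right
    (central22 (by decide) _ _)).symm
  hxy a c := by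
    refine Subtype.ext ?_
    simp only [Subgroup.coe_mul, rootChar_val]
    rw [xG_swap_one certD4 terms.2.2.2.2.2 (a : K) (c : K)]
    congr 2
    push_cast
    ring
  hbm u s := by
    refine ⟨Algebra.trace (FF hq hK) K (u * s ^ q), Subtype.ext ?_⟩
    simp only [Subgroup.coe_mul, rootChar_val, bChar_val, mChar_val, trace_val, xBD4, xMD4]
    obtain ⟨-, -, t1, t2, t3, -⟩ := terms
    obtain ⟨-, -, ⟨d1, d2, d3, d4, d5, d6⟩, -⟩ := quietD4
    have h := abs_bm (xG_swap_one certD4 t3 u (-(s ^ q))) (xG_swap_one certD4 t2 (-(u ^ q)) ((s ^ q) ^ q))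
      (xG_swap_one certD4 t1 (-((u ^ q) ^ q)) s) (xG_commute certD4 d6 u s).symm
      (xG_commute certD4 d5 u _).symm (xG_commute certD4 d1 _ s).symm (xG_commute certD4 d4 _ _).symm
      (xG_commute certD4 d3 _ _).symm (xG_commute certD4 d2 _ _).symm (central23 (by decide) _ _)
      (central23 (by decide) _ _) (central23 (by decide) _ _) (central23 (by decide) _ _)
      (central23 (by decide) _ _) (central23 (by decide) _ _)
    rw [xG_pow_mul, xG_pow_mul] at h
    rw [h, mul_assoc _ (X 23 _) (X 23 _), xG_pow_mul]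
    conv_lhs => rw [← mul_one (X 19 u * _ * _ * _), ← (chevRel certD4 K).xe_zero 23]
    congr 1
    show X 23 (0 : K) = _
    congr 1
    rw [mul_pow, mul_pow, pow_qqq hK]
    push_cast
    ring
  torus t ht := by
    have ht0 : (t : K) ≠ 0 := fun h => ht (Subtype.ext h)
    refine ⟨⟨_, P1_he14 hq hK (FF_pow hq hK t)⟩, Subtype.ext ?_⟩
    obtain ⟨-, -, -, -, ⟨-, s1, -, -⟩, -⟩ := negD4
    have hn : 1 < chevD4.rank := by decide +kernel
    have h := he_cj (K := K) ⟨1, hn⟩ (comm_lt (r := 23) (by decide)) cartanVals.2 ht0 (1 : K)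
    simp only [s1] at h
    simp only [Subgroup.coe_mul, Subgroup.coe_inv, rootChar_val, OneMemClass.coe_one]
    rw [h, zpow_one, mul_one]
  reflB a := by
    refine ⟨⟨(chevRel certD4 K).ne 14 1, ?_⟩, Subtype.ext ?_⟩
    · obtain ⟨⟨-, -, -, n14⟩, -⟩ := negD4
      show xG certD4 K 14 1 * xG certD4 K (chevD4.neg 14) (-(1 : K)⁻¹) * xG certD4 K 14 1 ∈ _
      rw [n14]
      exact mul_mem (mul_mem (wordD4_single_mem (r := 14) (by decide) (one_pow q))
        (wordD4_single_mem (r := 9) (by decide) (by rw [neg_pow_D4 hq hK, inv_pow, one_pow])))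
        (wordD4_single_mem (r := 14) (by decide) (one_pow q))
    obtain ⟨-, -, -, -, ⟨-, s1, -, -⟩, -⟩ := negD4
    have hn : 1 < chevD4.rank := by decide +kernel
    have hv := reflVals
    simp only [List.map_cons, List.map_nil, List.cons.injEq, and_true] at hv
    have h := ne_cj (K := K) ⟨1, hn⟩ (comm_lt (r := 22) (by decide)) hv.2.2.2.2.2.2.2.2.2 (a : K)
    simp only [s1] at h
    simp only [Subgroup.coe_mul, Subgroup.coe_inv, rootChar_val]
    rw [h, Int.cast_one, one_mul]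
  hAm t s := by
    refine Subtype.ext ?_
    simp only [Subgroup.coe_mul, Subgroup.coe_inv, rootChar_val, mChar_val, trace_val, xMD4, xAD4]
    obtain ⟨-, ⟨-, -, t17, t21, t20⟩, -⟩ := terms
    obtain ⟨-, ⟨-, -, c1317, c1222, c1322, c1822⟩, ⟨c1217, c1220, c1321, c1821, -, c1820⟩⟩ := quiet
    rw [conj_xA, cj_mul (X 12 _), cj_mul (X 12 _), conj1 t21 c1222, conj0 c1217, conj0 c1220]
    rw [cj_mul (X 13 _), cj_mul (X 13 _), cj_mul (X 13 _), conj0 c1321, conj0 c1322, conj0 c1317, conj1 t20 c1322]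
    rw [cj_mul (X 18 _), cj_mul (X 18 _), cj_mul (X 18 _), cj_mul (X 18 _), conj0 c1821, conj0 c1822, conj1 t17 c1822, conj0 c1820, conj0 c1822]
    rw [abs_Am (central22 (by decide) _ _) (central22 (by decide) _ _) (central22 (by decide) _ _), xG_pow_mul,
      xG_pow_mul]
    congr 2
    rw [mul_pow, mul_pow, pow_qqq hK]
    push_cast
    ring
  hS s hs a := by
    obtain ⟨x, hx⟩ := Algebra.trace_surjective (FF hq hK) K a
    refine ⟨x / s ^ q, ?_⟩
    rw [div_mul_cancel₀ _ (pow_ne_zero q hs), hx]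
  hAx t a := by
    refine ⟨-((a : K) * t), -((a : K) * t * t ^ q), -(a * a * Algebra.norm (FF hq hK) t), Subtype.ext ?_⟩
    simp only [Subgroup.coe_mul, Subgroup.coe_inv, rootChar_val, bChar_val, mChar_val, xBD4, xMD4, xAD4,
      NegMemClass.coe_neg, MulMemClass.coe_mul, norm_val]
    obtain ⟨⟨t1214, t1314, t1814, t1315⟩, ⟨t1816, t1815, t1817, -, -⟩, ⟨z1, -⟩⟩ := terms
    obtain ⟨-, ⟨c1215, c1316, c1317, -, -, c1822⟩, ⟨-, -, -, c1821, c1819, c1820⟩⟩ := quiet
    obtain ⟨-, -, -, ⟨p1, -, -⟩⟩ := quietD4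
    rw [conj_xA, conj1 t1214 c1215]
    rw [cj_mul (X 13 _), conj1 t1314 c1316, conj1 t1315 c1317]
    rw [cj_mul (X 18 _), cj_mul (X 18 _), cj_mul (X 18 _), conj1 t1814 c1819, conj1 t1816 c1821, conj1 t1815 c1820, conj1 t1817 c1822]
    rw [abs_Ax (xG_swap_one certD4 z1 _ _) (central23 (by decide) _ _) (central23 (by decide) _ _)
      (central23 (by decide) _ _) (xG_commute certD4 p1 _ _).symm]
    have pn : ∀ x : K, (-x) ^ q = -(x ^ q) := neg_pow_D4 hq hK
    simp only [pn, mul_pow, FF_pow hq hK a, pow_qqq hK]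
    push_cast
    ring_nf
  hN := FiniteField.norm_surjective (FF hq hK) K
  scale := by
    obtain ⟨t, hN, h2⟩ := exists_scale hq hK
    have ht : t ≠ 0 := fun h => by rw [h] at hN; simp at hN
    have ht1 : t ^ q ≠ 0 := pow_ne_zero q ht
    have ht2 : (t ^ q) ^ q ≠ 0 := pow_ne_zero q ht1
    have cv := cartanVals.1
    simp only [List.map_cons, List.map_nil, List.cons.injEq, and_true] at cv
    obtain ⟨-, v22, v23, v19, v16, v15, v21, v17, v20⟩ := cv
    have act : ∀ r ∈ [22, 23, 19, 16, 15, 21, 17, 20], r < chevD4.nroots := fun r hr => comm_lt (by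
      simp only [List.mem_cons, List.not_mem_nil, or_false] at hr ⊢
      tauto)
    have cjg : ∀ {r : ℕ} {c : K}, (∀ u, hA3 q t * X r u * (hA3 q t)⁻¹ = X r (c * u)) →
        ∀ u, hA3 q t * X r u = X r (c * u) * hA3 q t := fun h u => by rw [← h]; group
    have k22 : ∀ u, hA3 q t * X 22 u = X 22 (1 * u) * hA3 q t := cjg fun u => by
      rw [hA3_cj (act 22 (by decide)) v22 ht, zpow_one, zpow_one, zpow_one, hN]
    have k23 : ∀ u, hA3 q t * X 23 u = X 23 (1 * u) * hA3 q t := cjg fun u => by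
      rw [hA3_cj (act 23 (by decide)) v23 ht, zpow_zero, zpow_zero, zpow_zero, one_mul, one_mul]
    have k19 : ∀ u, hA3 q t * X 19 u = X 19 (t * t * u) * hA3 q t := cjg fun u => by
      rw [hA3_cj (act 19 (by decide)) v19 ht, zpow_one, zpow_neg_one, zpow_neg_one]
      congr 2
      field_simp
      linear_combination -hN
    have k16 : ∀ u, hA3 q t * X 16 u = X 16 ((t * t) ^ q * u) * hA3 q t := cjg fun u => by
      rw [hA3_cj (act 16 (by decide)) v16 ht, zpow_one, zpow_neg_one, zpow_neg_one, mul_pow]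
      congr 2
      field_simp
      linear_combination -hN
    have k15 : ∀ u, hA3 q t * X 15 u = X 15 (((t * t) ^ q) ^ q * u) * hA3 q t := cjg fun u => by
      rw [hA3_cj (act 15 (by decide)) v15 ht, zpow_one, zpow_neg_one, zpow_neg_one, mul_pow, mul_pow]
      congr 2
      field_simp
      linear_combination -hN
    obtain ⟨l, hl⟩ : ∃ l : K, l = (((t ^ q) ^ q) * ((t ^ q) ^ q))⁻¹ := ⟨_, rfl⟩
    have hl0 : l ≠ 0 := hl ▸ inv_ne_zero (mul_ne_zero ht2 ht2)
    have hl1 : l ^ q = (t * t)⁻¹ := by rw [hl, inv_pow, mul_pow, pow_qqq hK]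
    have hl2 : (l ^ q) ^ q = (t ^ q * t ^ q)⁻¹ := by rw [hl1, inv_pow, mul_pow]
    have k21 : ∀ u, hA3 q t * X 21 u = X 21 (l * u) * hA3 q t := cjg fun u => by
      rw [hA3_cj (act 21 (by decide)) v21 ht, zpow_one, zpow_one, zpow_neg_one, hl]
      congr 2
      field_simp
      linear_combination hN
    have k17 : ∀ u, hA3 q t * X 17 u = X 17 (l ^ q * u) * hA3 q t := cjg fun u => by
      rw [hA3_cj (act 17 (by decide)) v17 ht, zpow_one, zpow_one, zpow_neg_one, hl1]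
      congr 2
      field_simp
      linear_combination hN
    have k20 : ∀ u, hA3 q t * X 20 u = X 20 ((l ^ q) ^ q * u) * hA3 q t := cjg fun u => by
      rw [hA3_cj (act 20 (by decide)) v20 ht, zpow_one, zpow_neg_one, zpow_one, hl2]
      congr 2
      field_simp
      linear_combination hN
    refine ⟨⟨hA3 q t, he_triple_mem hq hK t⟩, t * t, h2, fun i => comm_of hq hK _ _ ?_,
      fun a => comm_of hq hK _ _ ?_, fun s => ⟨l⁻¹ * s, Subtype.ext ?_⟩, fun u => Subtype.ext ?_⟩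
    · show hA3 q t * _ = _
      rw [rootChar_val, k23, one_mul]
    · show hA3 q t * _ = _
      rw [rootChar_val, k22, one_mul]
    · simp only [Subgroup.coe_mul, mChar_val, xMD4]
      simp only [← mul_assoc]
      rw [k21, mul_assoc _ (hA3 q t) (X 17 _), k17, ← mul_assoc, mul_assoc _ (hA3 q t) (X 20 _), k20, ← mul_assoc,
        mul_inv_cancel_left₀ hl0]
      simp only [mul_pow, inv_pow, mul_neg, mul_inv_cancel_left₀ (pow_ne_zero q hl0),
        mul_inv_cancel_left₀ (pow_ne_zero q (pow_ne_zero q hl0))]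
    · simp only [Subgroup.coe_mul, bChar_val, xBD4]
      simp only [← mul_assoc]
      rw [k19, mul_assoc _ (hA3 q t) (X 16 _), k16, ← mul_assoc, mul_assoc _ (hA3 q t) (X 15 _), k15, ← mul_assoc]
      simp only [mul_pow, mul_neg]
  reflA := by
    have hv := reflVals
    simp only [List.map_cons, List.map_nil, List.cons.injEq, and_true] at hv
    obtain ⟨a1, a2, a3, b1, b2, b3, c1, c2, c3, -⟩ := hv
    have lt : ∀ r ∈ [14, 15, 17, 22, 21, 19, 23], r < chevD4.nroots := fun r hr => comm_lt (by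
      simp only [List.mem_cons, List.not_mem_nil, or_false] at hr ⊢
      tauto)
    refine ⟨⟨nA3, nA3_mem hq hK⟩, fun a => Subtype.ext ?_, fun a => Subtype.ext ?_,
      fun i => comm_of hq hK _ _ ?_⟩
    · simp only [Subgroup.coe_mul, rootChar_val, NegMemClass.coe_neg]
      rw [← mul_inv_eq_iff_eq_mul, nA3_cj (lt 14 (by decide)) (lt 15 (by decide)) (lt 17 (by decide)) a1 a2 a3]
      congr 1
      push_cast
      ring
    · simp only [Subgroup.coe_mul, rootChar_val]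
      rw [← mul_inv_eq_iff_eq_mul, nA3_cj (lt 22 (by decide)) (lt 21 (by decide)) (lt 19 (by decide)) b1 b2 b3]
      congr 1
      push_cast
      ring
    · show nA3 * _ = _
      rw [rootChar_val, ← mul_inv_eq_iff_eq_mul, nA3_cj (lt 23 (by decide)) (lt 23 (by decide))
        (lt 23 (by decide)) c1 c2 c3]
      congr 1
      push_cast
      ring

end CfsgLib.PLocal.Triality
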